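import Cfsg.Agent.JankoThompson.Values
import Mathlib

/-!
# The multiplicities on the group `E × C_r`
-/

set_option autoImplicit false
set_option linter.unusedSectionVars false
set_option linter.style.haveILetI false

namespace CfsgLib.JankoThompson

open Matrix CfsgLib.ReeTypeS3
open scoped MatrixGroups ComplexConjugate

universe u v

variable {G : Type u} [Group G] [Fintype G] {F : Type v} [Field F] [Fintype F]

local notation "PST" => Matrix.ProjectiveSpecialLinearGroup (Fin 2) F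

noncomputable local instance (priority := high) instFintypePSTAlpha :
    Fintype (Matrix.ProjectiveSpecialLinearGroup (Fin 2) F) := Fintype.ofFinite _

noncomputable local instance (priority := high) instFintypeSubAlpha
    (H : Subgroup (Matrix.ProjectiveSpecialLinearGroup (Fin 2) F)) : Fintype H := Fintype.ofFinite _

noncomputable local instance (priority := high) instFintypeSubGAlpha (H : Subgroup G) : Fintype H :=
  Fintype.ofFinite _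

variable {E : Emb G (Matrix.ProjectiveSpecialLinearGroup (Fin 2) F)}

namespace Cyc

variable (c : Cyc E)

theorem sum_fourG {M : Type*} [AddCommMonoid M] (f : G → M) :
    ∑ e : c.fourG, f e = f 1 + f E.t + f c.t₁ + f (E.t * c.t₁) := by
  classical
  rw [← Finset.sum_subtype ({1, E.t, c.t₁, E.t * c.t₁} : Finset G) (p := fun x => x ∈ c.fourG)
    (fun x => by simp [fourG, IsFour])]
  have h2 : E.t * c.t₁ ≠ E.t := fun h => c.t₁_ne_one (mul_eq_left.1 h)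
  have h3 : E.t * c.t₁ ≠ c.t₁ := fun h => E.t_ne_one (mul_eq_right.1 h)
  rw [Finset.sum_insert (by simp [E.t_ne_one.symm, c.t₁_ne_one.symm, c.t_mul_t₁_ne_one.symm]),
    Finset.sum_insert (by simp [c.t₁_ne_t.symm, h2.symm]), Finset.sum_insert (by simp [h3.symm]),
    Finset.sum_singleton]
  simp only [add_assoc]

theorem exists_X_int (ν : c.Cr →* ℂˣ) : ∃ z : Cfsg.IrrCharacter G → ℤ, ∀ χ : Cfsg.IrrCharacter G,
    avg (χ : G → ℂ) c.ecrHom (ν.comp (MonoidHom.snd c.fourG c.Cr)) 1 = (z χ : ℂ) := by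
  have h : ∀ χ : Cfsg.IrrCharacter G, ∃ z : ℤ,
      avg (χ : G → ℂ) c.ecrHom (ν.comp (MonoidHom.snd c.fourG c.Cr)) 1 = (z : ℂ) := fun χ => by
    obtain ⟨n, hn⟩ := avg_int_parity (Characters.isCharacter_of_isIrr χ.2) c.ecrHom
      (ν.comp (MonoidHom.snd c.fourG c.Cr))
    obtain ⟨z, hz, -⟩ := hn 1 (one_mul 1) fun h => by rw [one_mul, mul_one]
    exact ⟨z, hz⟩
  choose z hz using h
  exact ⟨z, hz⟩

/-- The multiplicity on `E × C_r`. -/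
noncomputable def zX (ν : c.Cr →* ℂˣ) : Cfsg.IrrCharacter G → ℤ := (c.exists_X_int ν).choose

theorem cast_zX (ν : c.Cr →* ℂˣ) (χ : Cfsg.IrrCharacter G) :
    (c.zX ν χ : ℂ) = avg (χ : G → ℂ) c.ecrHom (ν.comp (MonoidHom.snd c.fourG c.Cr)) 1 :=
  ((c.exists_X_int ν).choose_spec χ).symm

end Cyc

namespace Dat

variable (D : Dat E)

/-- The multiplicity of `μ` on `E × C_r` less that of the trivial character. -/
noncomputable def vA (μ : D.c.Cr →* ℂˣ) : Cfsg.IrrCharacter G → ℤ :=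
  fun χ => D.c.zX μ χ - D.c.zX 1 χ

variable (hyp : Hyp E)
include hyp

/-- The short columns entering `vA`. -/
noncomputable def vW (μ : D.c.Cr →* ℂˣ) : Cfsg.IrrCharacter G → ℤ :=
  fun χ => D.vP μ χ + D.vP (D.rot hyp μ) χ + D.vP (D.rot hyp (D.rot hyp μ)) χ - 3 * D.vP 1 χ

/-- The part of `vA` coming from elements of odd order. -/
noncomputable def vOdd (μ : D.c.Cr →* ℂˣ) : Cfsg.IrrCharacter G → ℤ :=
  fun χ => 4 * D.vA μ χ - sg F * D.vW hyp μ χ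

theorem four_zX (ν : D.c.Cr →* ℂˣ) (χ : Cfsg.IrrCharacter G) :
    4 * (D.c.zX ν χ : ℂ) =
      (rOf F : ℂ)⁻¹ * ∑ a : D.c.Cr, (χ : G → ℂ) (E.ι (a : PST)) * (((ν a)⁻¹ : ℂˣ) : ℂ) +
        ((Pz E D.c.Cr ν χ : ℂ) + (Pz E D.c.Cr (D.rot hyp ν) χ : ℂ) +
          (Pz E D.c.Cr (D.rot hyp (D.rot hyp ν)) χ : ℂ)) := by
  have hcl : ∀ (k : ℕ) (y : G), (χ : G → ℂ) (D.c.v ^ k * y * (D.c.v ^ k)⁻¹) = (χ : G → ℂ) y :=
    fun k y => (Characters.classFunction_isConj (Characters.isClassFunction_of_isCharacter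
      (Characters.isCharacter_of_isIrr χ.2)) (isConj_iff.2 ⟨D.c.v ^ k, rfl⟩)).symm
  have hb : Function.Bijective (Cyc.aut hyp D.c) :=
    Finite.injective_iff_bijective.1 (Cyc.aut_injective hyp D.c)
  have h1 : ∑ a : D.c.Cr, (χ : G → ℂ) (D.c.t₁ * E.ι (a : PST)) * (((ν a)⁻¹ : ℂˣ) : ℂ) =
      ∑ a : D.c.Cr, (χ : G → ℂ) (E.t * E.ι (a : PST)) * (((D.rot hyp ν a)⁻¹ : ℂˣ) : ℂ) := by
    refine (Fintype.sum_bijective (Cyc.aut hyp D.c) hb _ _ fun a => ?_).symm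
    rw [← hcl 1 (E.t * E.ι (a : PST)), pow_one, show D.c.v * (E.t * E.ι (a : PST)) * D.c.v⁻¹ =
      D.c.v * E.t * D.c.v⁻¹ * (D.c.v * E.ι (a : PST) * D.c.v⁻¹) by group, D.c.hv, ← Cyc.aut_spec hyp]
    rfl
  have h2 : ∑ a : D.c.Cr, (χ : G → ℂ) (E.t * D.c.t₁ * E.ι (a : PST)) * (((ν a)⁻¹ : ℂˣ) : ℂ) =
      ∑ a : D.c.Cr, (χ : G → ℂ) (E.t * E.ι (a : PST)) *
        (((D.rot hyp (D.rot hyp ν) a)⁻¹ : ℂˣ) : ℂ) := by
    refine (Fintype.sum_bijective _ (hb.comp hb) _ _ fun a => ?_).symm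
    rw [Function.comp_apply]
    have e : D.c.v ^ 2 * (E.t * E.ι (a : PST)) * (D.c.v ^ 2)⁻¹ =
        E.t * D.c.t₁ * E.ι ((Cyc.aut hyp D.c (Cyc.aut hyp D.c a) : D.c.Cr) : PST) := by
      rw [show Cyc.aut hyp D.c (Cyc.aut hyp D.c a) = (Cyc.aut hyp D.c)^[2] a from rfl,
        Cyc.aut_iterate, show D.c.v ^ 2 * (E.t * E.ι (a : PST)) * (D.c.v ^ 2)⁻¹ =
        D.c.v ^ 2 * E.t * (D.c.v ^ 2)⁻¹ * (D.c.v ^ 2 * E.ι (a : PST) * (D.c.v ^ 2)⁻¹) by group]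
      congr 1
      rw [← D.c.hv₁, ← D.c.hv, pow_two]; group
    rw [← hcl 2 (E.t * E.ι (a : PST)), e]
    rfl
  have hP : ∀ κ : D.c.Cr →* ℂˣ, (Pz E D.c.Cr κ χ : ℂ) = (rOf F : ℂ)⁻¹ *
      ∑ a : D.c.Cr, (χ : G → ℂ) (E.t * E.ι (a : PST)) * (((κ a)⁻¹ : ℂˣ) : ℂ) := fun κ => by
    rw [cast_Pz, P, avg, ← Nat.card_eq_fintype_card, D.c.natCard_Cr]
    rfl
  rw [Cyc.cast_zX, avg, Fintype.card_prod, ← Nat.card_eq_fintype_card, ← Nat.card_eq_fintype_card,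
    D.c.natCard_fourG, D.c.natCard_Cr, Fintype.sum_prod_type, hP, hP, hP, ← h1, ← h2]
  simp only [MonoidHom.comp_apply, MonoidHom.coe_snd, Cyc.ecrHom_apply, one_mul]
  rw [D.c.sum_fourG (fun e => ∑ a : D.c.Cr, (χ : G → ℂ) (e * E.ι (a : PST)) *
    (((ν a)⁻¹ : ℂˣ) : ℂ))]
  simp only [one_mul]
  push_cast
  rw [mul_inv]
  ring

theorem cast_vOdd (μ : D.c.Cr →* ℂˣ) (χ : Cfsg.IrrCharacter G) :
    (D.vOdd hyp μ χ : ℂ) = (rOf F : ℂ)⁻¹ *
      ∑ a : D.c.Cr, (χ : G → ℂ) (E.ι (a : PST)) * ((((μ a)⁻¹ : ℂˣ) : ℂ) - 1) := by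
  have h1 := D.four_zX hyp μ χ
  have h2 := D.four_zX hyp 1 χ
  rw [D.rot_one hyp, D.rot_one hyp] at h2
  have e := fun κ => congrArg (fun z : ℤ => (z : ℂ)) (D.Pz_Cr_eq hyp κ χ)
  simp only [e, Int.cast_add, Int.cast_mul, Int.cast_ofNat, MonoidHom.one_apply, inv_one,
    Units.val_one, mul_one] at h1 h2
  simp only [vOdd, vA, vW, Int.cast_sub, Int.cast_mul, Int.cast_add, Int.cast_ofNat, mul_sub, mul_one,
    Finset.sum_sub_distrib]
  linear_combination h1 - h2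

/-- `vOdd` is orthogonal to the short columns and to the degrees. -/
theorem dot_vOdd (μ : D.c.Cr →* ℂˣ) {v : Cfsg.IrrCharacter G → ℤ} (hv : Col v) :
    dotp (D.vOdd hyp μ) v = 0 := by
  have h : ((dotp (D.vOdd hyp μ) v : ℤ) : ℂ) = 0 := by
    rw [dotp, Int.cast_sum]
    simp only [Int.cast_mul, D.cast_vOdd hyp, Finset.mul_sum, Finset.sum_mul]
    rw [Finset.sum_comm]
    refine Finset.sum_eq_zero fun a _ => ?_
    rw [Finset.sum_congr rfl (g := fun χ : Cfsg.IrrCharacter G =>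
      ((rOf F : ℂ)⁻¹ * ((((μ a)⁻¹ : ℂˣ) : ℂ) - 1)) * ((χ : G → ℂ) (E.ι (a : PST)) * (v χ : ℂ)))
      fun χ _ => by ring, ← Finset.mul_sum, hv, mul_zero]
    rw [orderOf_injective E.ι E.inj]
    exact ReeTypeS3.odd_orderOf (D.c.odd_Cr hyp) a
  exact_mod_cast h

theorem deg_vOdd (μ : D.c.Cr →* ℂˣ) : ∑ χ, D.vOdd hyp μ χ * (deg χ : ℤ) = 0 := by
  have h : ((∑ χ, D.vOdd hyp μ χ * (deg χ : ℤ) : ℤ) : ℂ) = 0 := by
    rw [Int.cast_sum]
    simp only [Int.cast_mul, Int.cast_natCast, D.cast_vOdd hyp, Finset.mul_sum, Finset.sum_mul]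
    rw [Finset.sum_comm]
    refine Finset.sum_eq_zero fun a _ => ?_
    by_cases ha : a = 1
    · subst ha
      refine Finset.sum_eq_zero fun χ _ => ?_
      simp
    · rw [Finset.sum_congr rfl (g := fun χ : Cfsg.IrrCharacter G =>
        ((rOf F : ℂ)⁻¹ * ((((μ a)⁻¹ : ℂˣ) : ℂ) - 1)) *
          ((χ : G → ℂ) (E.ι (a : PST)) * conj ((χ : G → ℂ) 1)))
        fun χ _ => by rw [deg_spec, map_natCast]; ring, ← Finset.mul_sum,
        Characters.sum_irr_mul_conj_of_not_isConj, mul_zero]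
      rw [isConj_one_left]
      exact fun e => ha (Subtype.ext (E.inj (e.trans (map_one E.ι).symm)))
  exact_mod_cast h

/-- Four times the products of `vA` with a column. -/
theorem dot_vA (μ : D.c.Cr →* ℂˣ) {v : Cfsg.IrrCharacter G → ℤ} (hv : Col v) :
    4 * dotp (D.vA μ) v = sg F * dotp (D.vW hyp μ) v := by
  have h := D.dot_vOdd hyp μ hv
  unfold vOdd at h
  rw [dotp_sub, dotp_smul, dotp_smul] at h
  linarith

theorem deg_vA (μ : D.c.Cr →* ℂˣ) : ∑ χ, D.vA μ χ * (deg χ : ℤ) = 0 := by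
  have h := D.deg_vOdd hyp μ
  simp only [vOdd, vW, sub_mul, add_mul, mul_sub, mul_add, Finset.sum_sub_distrib,
    Finset.sum_add_distrib, mul_assoc, ← Finset.mul_sum, (D.col_vP _).deg_orth] at h
  linarith

theorem vA_trivC {μ : D.c.Cr →* ℂˣ} (hμ : μ ≠ 1) : D.vA μ (trivC G) = -1 := by
  classical
  have hz : ∀ ν : D.c.Cr →* ℂˣ, (D.c.zX ν (trivC G) : ℂ) = if ν = 1 then 1 else 0 := by
    intro ν
    have hsum : ∑ h : D.c.fourG × D.c.Cr, (trivC G : G → ℂ) (1 * D.c.ecrHom h) *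
          ((((ν.comp (MonoidHom.snd D.c.fourG D.c.Cr)) h)⁻¹ : ℂˣ) : ℂ) =
        (Fintype.card D.c.fourG : ℂ) * ∑ a : D.c.Cr, (((ν⁻¹ : D.c.Cr →* ℂˣ) a : ℂˣ) : ℂ) := by
      rw [Fintype.sum_prod_type, Finset.sum_congr rfl fun e _ => Finset.sum_congr rfl fun a _ =>
        show (trivC G : G → ℂ) (1 * D.c.ecrHom (e, a)) *
          ((((ν.comp (MonoidHom.snd D.c.fourG D.c.Cr)) (e, a))⁻¹ : ℂˣ) : ℂ) =
          (((ν⁻¹ : D.c.Cr →* ℂˣ) a : ℂˣ) : ℂ) from one_mul _, Finset.sum_const, Finset.card_univ,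
        nsmul_eq_mul]
    rw [Cyc.cast_zX, avg, hsum, ReeTypeS3.sum_hom, Fintype.card_prod, Nat.cast_mul]
    have h4 : (Fintype.card D.c.fourG : ℂ) ≠ 0 := Nat.cast_ne_zero.2 Fintype.card_ne_zero
    have hr : (Fintype.card D.c.Cr : ℂ) ≠ 0 := Nat.cast_ne_zero.2 Fintype.card_ne_zero
    by_cases e : ν = 1
    · rw [if_pos e, if_pos (MonoidHom.ext fun x => by simp [e]), inv_mul_cancel₀ (mul_ne_zero h4 hr)]
    · rw [if_neg e, if_neg (fun e' => e (MonoidHom.ext fun x =>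
        inv_eq_one.1 (DFunLike.congr_fun e' x))), mul_zero, mul_zero]
  have h : (D.vA μ (trivC G) : ℂ) = -1 := by
    simp only [vA, Int.cast_sub, hz, if_neg hμ, if_pos]
    norm_num
  exact_mod_cast h

theorem sum_char_sub_one {μ ν : D.c.Cr →* ℂˣ} [Decidable (μ = ν)] (hμ : μ ≠ 1) (hν : ν ≠ 1) :
    ∑ a : D.c.Cr, ((((μ a)⁻¹ : ℂˣ) : ℂ) - 1) * (((ν a : ℂˣ) : ℂ) - 1) =
      (rOf F : ℂ) * ((if μ = ν then 1 else 0) + 1) := by
  classical
  have e : ∀ a : D.c.Cr, ((((μ a)⁻¹ : ℂˣ) : ℂ) - 1) * (((ν a : ℂˣ) : ℂ) - 1) =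
      (((μ⁻¹ * ν) a : ℂˣ) : ℂ) - (((μ⁻¹ : D.c.Cr →* ℂˣ) a : ℂˣ) : ℂ) - ((ν a : ℂˣ) : ℂ) + 1 := by
    intro a
    rw [MonoidHom.mul_apply, MonoidHom.inv_apply, Units.val_mul]; ring
  have hμ' : μ⁻¹ ≠ 1 := fun e' =>
    hμ (MonoidHom.ext fun x => inv_eq_one.1 (DFunLike.congr_fun e' x))
  rw [Finset.sum_congr rfl fun a _ => e a, Finset.sum_add_distrib, Finset.sum_sub_distrib,
    Finset.sum_sub_distrib, ReeTypeS3.sum_hom, ReeTypeS3.sum_hom, ReeTypeS3.sum_hom]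
  simp only [if_neg hμ', if_neg hν, Finset.sum_const, Finset.card_univ, nsmul_eq_mul,
    ← Nat.card_eq_fintype_card, D.c.natCard_Cr]
  by_cases h : μ = ν
  · rw [if_pos h, if_pos (MonoidHom.ext fun x => by simp [h])]; ring
  · rw [if_neg h, if_neg (fun e' => h (inv_mul_eq_one.1 e'))]; ring

theorem dot_vOdd_self {μ : D.c.Cr →* ℂˣ} (hμ : μ ≠ 1) :
    dotp (D.vOdd hyp μ) (D.vOdd hyp μ) = 28 := by
  classical
  obtain ⟨μ₁, hμ₁⟩ : ∃ ν, ν = D.rot hyp μ := ⟨_, rfl⟩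
  obtain ⟨μ₂, hμ₂⟩ : ∃ ν, ν = D.rot hyp μ₁ := ⟨_, rfl⟩
  have n1 : μ₁ ≠ 1 := hμ₁ ▸ D.rot_ne_one hyp hμ
  have n2 : μ₂ ≠ 1 := hμ₂ ▸ D.rot_ne_one hyp n1
  have hr : (rOf F : ℂ) ≠ 0 := Nat.cast_ne_zero.2 (by have := three_le_r hyp.mod8; omega)
  obtain ⟨M, hM⟩ : ∃ M : D.c.Cr → D.c.Cr → ℂ, ∀ a b, M a b =
      4 * (rOf F : ℂ) * ∑ k ∈ Finset.range 3,
        ((if b = (Cyc.aut hyp D.c)^[k] a then 1 else 0) +
          (if b = ((Cyc.aut hyp D.c)^[k] a)⁻¹ then 1 else 0)) := ⟨_, fun _ _ => rfl⟩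
  have hcol : ∀ a b : D.c.Cr, a ≠ 1 → b ≠ 1 → ∑ χ : Cfsg.IrrCharacter G,
      (χ : G → ℂ) (E.ι (a : PST)) * conj ((χ : G → ℂ) (E.ι (b : PST))) = M a b := by
    intro a b ha hb
    rw [Characters.sum_irr_mul_conj, Cyc.natCard_conj_Cr hyp D.c ha hb, hM]
    push_cast
    rfl
  have hterm : ∀ a b : D.c.Cr, ((((μ a)⁻¹ : ℂˣ) : ℂ) - 1) * (((μ b : ℂˣ) : ℂ) - 1) *
      ∑ χ : Cfsg.IrrCharacter G, (χ : G → ℂ) (E.ι (a : PST)) * conj ((χ : G → ℂ) (E.ι (b : PST))) =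
      ((((μ a)⁻¹ : ℂˣ) : ℂ) - 1) * (((μ b : ℂˣ) : ℂ) - 1) * M a b := by
    intro a b
    by_cases ha : a = 1
    · subst ha; simp
    by_cases hb : b = 1
    · subst hb; simp
    rw [hcol a b ha hb]
  have hsumb : ∀ a : D.c.Cr, ∑ b : D.c.Cr, (((μ b : ℂˣ) : ℂ) - 1) * M a b = 4 * (rOf F : ℂ) *
      (((((μ a : ℂˣ) : ℂ) - 1) + ((((μ⁻¹ : D.c.Cr →* ℂˣ) a : ℂˣ) : ℂ) - 1)) +
        ((((μ₁ a : ℂˣ) : ℂ) - 1) + ((((μ₁⁻¹ : D.c.Cr →* ℂˣ) a : ℂˣ) : ℂ) - 1)) +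
        ((((μ₂ a : ℂˣ) : ℂ) - 1) + ((((μ₂⁻¹ : D.c.Cr →* ℂˣ) a : ℂˣ) : ℂ) - 1))) := by
    intro a
    simp only [hM, Finset.sum_range_succ, Finset.sum_range_zero, zero_add, mul_add, mul_ite, mul_one,
      mul_zero, Finset.sum_add_distrib, Finset.sum_ite_eq', Finset.mem_univ, if_true]
    rw [hμ₂, hμ₁]
    simp only [Function.iterate_zero, id_eq, Function.iterate_succ_apply', map_inv,
      MonoidHom.inv_apply, rot, MonoidHom.comp_apply, Units.val_inv_eq_inv_val]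
    ring
  have hs : ∀ ν : D.c.Cr →* ℂˣ, ν ≠ 1 → ∑ a : D.c.Cr, ((((μ a)⁻¹ : ℂˣ) : ℂ) - 1) *
      ((((ν a : ℂˣ) : ℂ) - 1) + ((((ν⁻¹ : D.c.Cr →* ℂˣ) a : ℂˣ) : ℂ) - 1)) =
      (rOf F : ℂ) * ((dlt μ ν : ℂ) + 2) := by
    intro ν hν
    simp only [mul_add, Finset.sum_add_distrib]
    rw [D.sum_char_sub_one hyp hμ hν, D.sum_char_sub_one hyp hμ
      (fun e => hν (MonoidHom.ext fun x => inv_eq_one.1 (DFunLike.congr_fun e x)))]
    unfold dlt
    split_ifs <;> push_cast <;> ring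
  have h : ((dotp (D.vOdd hyp μ) (D.vOdd hyp μ) : ℤ) : ℂ) = 28 := by
    rw [dotp, Int.cast_sum]
    have hstep : ∀ χ : Cfsg.IrrCharacter G, ((D.vOdd hyp μ χ * D.vOdd hyp μ χ : ℤ) : ℂ) =
        ∑ a : D.c.Cr, ∑ b : D.c.Cr, ((rOf F : ℂ)⁻¹ ^ 2 *
          (((((μ a)⁻¹ : ℂˣ) : ℂ) - 1) * (((μ b : ℂˣ) : ℂ) - 1))) *
          ((χ : G → ℂ) (E.ι (a : PST)) * conj ((χ : G → ℂ) (E.ι (b : PST)))) := by
      intro χ
      have hre : (D.vOdd hyp μ χ : ℂ) = conj (D.vOdd hyp μ χ : ℂ) := (map_intCast _ _).symm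
      rw [Int.cast_mul]
      nth_rewrite 2 [hre]
      rw [D.cast_vOdd hyp, map_mul, map_inv₀, map_natCast, map_sum, mul_mul_mul_comm, Finset.sum_mul_sum,
        Finset.mul_sum]
      refine Finset.sum_congr rfl fun a _ => ?_
      rw [Finset.mul_sum]
      refine Finset.sum_congr rfl fun b _ => ?_
      rw [map_mul, map_sub, map_one, ← conj_val_hom μ b, Complex.conj_conj]
      ring
    rw [Finset.sum_congr rfl fun χ _ => hstep χ, Finset.sum_comm]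
    rw [Finset.sum_congr rfl fun a _ => Finset.sum_comm]
    simp only [← Finset.mul_sum]
    rw [Finset.sum_congr rfl (g := fun a : D.c.Cr => (rOf F : ℂ)⁻¹ ^ 2 *
      (((((μ a)⁻¹ : ℂˣ) : ℂ) - 1) * ∑ b : D.c.Cr, (((μ b : ℂˣ) : ℂ) - 1) * M a b)) fun a _ => by
      rw [Finset.mul_sum, Finset.mul_sum]
      exact Finset.sum_congr rfl fun b _ => by rw [mul_assoc, hterm a b]; ring]
    simp only [hsumb, ← Finset.mul_sum, mul_left_comm _ (4 * (rOf F : ℂ))]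
    rw [Finset.sum_congr rfl fun a _ => by rw [mul_add, mul_add], Finset.sum_add_distrib,
      Finset.sum_add_distrib, hs μ hμ, hs μ₁ n1, hs μ₂ n2, dlt_self_odd (D.c.odd_Cr hyp) hμ,
      hμ₂, hμ₁, (D.dlt_rot hyp hμ).1, (D.dlt_rot hyp hμ).2]
    push_cast
    field_simp
    ring
  exact_mod_cast h

theorem dot_vA_self {μ : D.c.Cr →* ℂˣ} (hμ : μ ≠ 1) : dotp (D.vA μ) (D.vA μ) = 7 := by
  obtain ⟨μ₁, hμ₁⟩ : ∃ ν, ν = D.rot hyp μ := ⟨_, rfl⟩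
  obtain ⟨μ₂, hμ₂⟩ : ∃ ν, ν = D.rot hyp μ₁ := ⟨_, rfl⟩
  have hodd := D.c.odd_Cr hyp
  have n1 : μ₁ ≠ 1 := hμ₁ ▸ D.rot_ne_one hyp hμ
  have n2 : μ₂ ≠ 1 := hμ₂ ▸ D.rot_ne_one hyp n1
  have d01 : dlt μ μ₁ = 0 := hμ₁ ▸ (D.dlt_rot hyp hμ).1
  have d02 : dlt μ μ₂ = 0 := by rw [hμ₂, hμ₁]; exact (D.dlt_rot hyp hμ).2
  have d12 : dlt μ₁ μ₂ = 0 := hμ₂ ▸ (D.dlt_rot hyp n1).1
  have hW : dotp (D.vW hyp μ) (D.vW hyp μ) = 84 := by
    unfold vW
    rw [← hμ₁, ← hμ₂]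
    simp only [dotp_add, dotp_add', dotp_sub, dotp_sub', dotp_smul, dotp_smul', D.dot_PP hyp,
      dlt_self_odd hodd hμ, dlt_self_odd hodd n1, dlt_self_odd hodd n2, d01, d02, d12,
      (dlt_comm μ₁ μ).trans d01, (dlt_comm μ₂ μ).trans d02, (dlt_comm μ₂ μ₁).trans d12,
      dlt_one_left hμ, dlt_one_left n1, dlt_one_left n2, dlt_one_right hμ, dlt_one_right n1,
      dlt_one_right n2, dlt_one_one]
    norm_num
  have hcW : Col (D.vW hyp μ) :=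
    (((D.col_vP _).add (D.col_vP _)).add (D.col_vP _)).sub ((D.col_vP 1).smul 3)
  have h := D.dot_vOdd_self hyp hμ
  have hO := D.dot_vOdd hyp μ hcW
  unfold vOdd at h hO
  simp only [dotp_sub, dotp_sub', dotp_smul, dotp_smul', dotp_comm (D.vW hyp μ) (D.vA μ), hW] at h hO
  have hs := sgZ_sq (F := F) hyp
  have h16 : 16 * dotp (D.vA μ) (D.vA μ) = 112 := by
    linear_combination h + 2 * sg F * hO + 84 * hs
  omega

theorem tw_vA {μ : D.c.Cr →* ℂˣ} (hμ : μ ≠ 1) : tw E (D.vA μ) = -(4 * (rOf F : ℚ)) * Kq E := by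
  classical
  unfold vA
  rw [tw_sub]
  refine (Rat.cast_injective (α := ℂ)) ?_
  rw [Rat.cast_sub, tw_avg hyp D.c.ecrHom _ 1 fun χ => (Cyc.cast_zX D.c μ χ).symm,
    tw_avg hyp D.c.ecrHom _ 1 fun χ => (Cyc.cast_zX D.c 1 χ).symm, ← mul_sub,
    ← Finset.sum_sub_distrib]
  rw [Finset.sum_congr rfl (g := fun p : D.c.fourG × D.c.Cr => (4 * (rOf F : ℂ)) *
    (((μ⁻¹ : D.c.Cr →* ℂˣ) p.2 : ℂˣ) : ℂ) - 4 * (rOf F : ℂ)) fun p _ => ?_]
  · rw [Fintype.sum_prod_type]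
    simp only [Finset.sum_sub_distrib, ← Finset.mul_sum, ReeTypeS3.sum_hom,
      if_neg (fun e' : μ⁻¹ = 1 => hμ (MonoidHom.ext fun x => inv_eq_one.1 (DFunLike.congr_fun e' x))),
      Finset.sum_const, Finset.card_univ, nsmul_eq_mul, Nat.card_prod, Nat.cast_mul,
      ← Nat.card_eq_fintype_card, D.c.natCard_fourG, D.c.natCard_Cr]
    have hr : (rOf F : ℂ) ≠ 0 := Nat.cast_ne_zero.2 (by have := three_le_r hyp.mod8; omega)
    push_cast
    field_simp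
    ring
  · simp only [MonoidHom.comp_apply, MonoidHom.coe_snd, MonoidHom.inv_apply, MonoidHom.one_apply,
      inv_one, Units.val_one, mul_one, one_mul, Cyc.ecrHom_apply]
    by_cases ha : p.2 = 1
    · rw [ha]; simp
    · rw [pairs_ECr hyp D.c p.1.2 p.2.2 fun e => ha (Subtype.ext e)]
      push_cast
      ring

/-- The multiplicities on `E` alone. -/
theorem dvd_sum_vA (χ : Cfsg.IrrCharacter G) :
    (4 * (rOf F : ℤ)) ∣ (deg χ : ℤ) + 3 * Tz E χ -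
      4 * ∑ j ∈ Finset.range (rOf F), D.vA (D.μ₀ ^ j) χ := by
  classical
  haveI := D.c.isCyclic_Cr
  have hcl : ∀ (x y : G), IsConj x y → (χ : G → ℂ) x = (χ : G → ℂ) y := fun _ _ h =>
    Characters.classFunction_isConj (Characters.isClassFunction_of_isCharacter
      (Characters.isCharacter_of_isIrr χ.2)) h
  have h : ((4 * ∑ j ∈ Finset.range (rOf F), D.c.zX (D.μ₀ ^ j) χ : ℤ) : ℂ) =
      (((deg χ : ℤ) + 3 * Tz E χ : ℤ) : ℂ) := by
    push_cast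
    simp only [Cyc.cast_zX, avg, ← Finset.mul_sum]
    rw [Finset.sum_comm, Fintype.sum_prod_type]
    simp only [← Finset.mul_sum, MonoidHom.comp_apply, MonoidHom.coe_snd]
    conv_lhs =>
      rw [← D.c.natCard_Cr]
      simp only [sum_range_pow D.μ₀_inj, mul_ite, mul_zero, Finset.sum_ite_eq', Finset.mem_univ,
        if_true, one_mul, Cyc.ecrHom_apply]
    simp only [OneMemClass.coe_one, map_one, mul_one, ← Nat.card_eq_fintype_card, Nat.card_prod,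
      Nat.cast_mul, D.c.natCard_Cr, D.c.natCard_fourG, ← Finset.sum_mul]
    rw [D.c.sum_fourG (fun e => (χ : G → ℂ) e), deg_spec, cast_Tz,
      hcl D.c.t₁ E.t (isConj_iff.2 ⟨D.c.v, D.c.hv⟩).symm,
      hcl (E.t * D.c.t₁) E.t (isConj_iff.2 ⟨D.c.v, D.c.hv₂⟩)]
    have hr : (rOf F : ℂ) ≠ 0 := Nat.cast_ne_zero.2 (by have := three_le_r hyp.mod8; omega)
    push_cast
    field_simp
    ring
  have h' : 4 * ∑ j ∈ Finset.range (rOf F), D.c.zX (D.μ₀ ^ j) χ = (deg χ : ℤ) + 3 * Tz E χ := by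
    exact_mod_cast h
  refine ⟨D.c.zX 1 χ, ?_⟩
  rw [← h']
  simp only [vA, Finset.sum_sub_distrib, Finset.sum_const, Finset.card_range, nsmul_eq_mul]
  ring

include D in
/-- The multiplicity on an elementary abelian group of order eight. -/
theorem eight_dvd (χ : Cfsg.IrrCharacter G) : (8 : ℤ) ∣ (deg χ : ℤ) + 7 * Tz E χ := by
  classical
  have hcomm : ∀ (e : D.c.fourG) (y : Subgroup.zpowers D.c.d), Commute (e : G) (y : G) := by
    rintro e ⟨_, k, rfl⟩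
    exact (show Commute (e : G) D.c.d from D.c.four_comm_d e.2).zpow_right k
  let f : D.c.fourG × Subgroup.zpowers D.c.d →* G :=
    { toFun := fun p => (p.1 : G) * (p.2 : G)
      map_one' := one_mul 1
      map_mul' := fun p p' => by
        show ((p.1 : G) * (p'.1 : G)) * ((p.2 : G) * (p'.2 : G)) =
          (p.1 : G) * (p.2 : G) * ((p'.1 : G) * (p'.2 : G))
        rw [mul_assoc (p.1 : G), ← mul_assoc (p'.1 : G), (hcomm p'.1 p.2).eq]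
        simp only [mul_assoc] }
  have hy : ∀ y : Subgroup.zpowers D.c.d, (y : G) = 1 ∨ (y : G) = D.c.d := by
    rintro ⟨_, k, rfl⟩
    show D.c.d ^ k = 1 ∨ D.c.d ^ k = D.c.d
    rcases Int.even_or_odd k with ⟨j, rfl⟩ | ⟨j, rfl⟩
    · left; rw [← two_mul, _root_.zpow_mul, zpow_two, D.c.dd, _root_.one_zpow]
    · right; rw [_root_.zpow_add_one, _root_.zpow_mul, zpow_two, D.c.dd, _root_.one_zpow, one_mul]
  have hsq : ∀ p, f p * f p = 1 := fun p => by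
    show (p.1 : G) * (p.2 : G) * ((p.1 : G) * (p.2 : G)) = 1
    rw [mul_assoc (p.1 : G), ← mul_assoc (p.2 : G), ← (hcomm p.1 p.2).eq, mul_assoc (p.1 : G) (p.2 : G),
      ← mul_assoc (p.1 : G), D.c.four_sq p.1.2, one_mul]
    rcases hy p.2 with e | e <;> rw [e]
    · exact one_mul 1
    · exact D.c.dd
  have hne : ∀ p, p ≠ 1 → f p ≠ 1 := fun p hp e => by
    have e' : (p.1 : G) = ((p.2 : G))⁻¹ := eq_inv_of_mul_eq_one_left e
    rcases hy p.2 with e2 | e2 <;> rw [e2] at e'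
    · rw [inv_one] at e'
      exact hp (Prod.ext (Subtype.ext e') (Subtype.ext e2))
    · rw [D.c.d_inv] at e'
      exact D.c.d_not_four (e' ▸ p.1.2)
  obtain ⟨n, hn⟩ := avg_int_parity (Characters.isCharacter_of_isIrr χ.2) f 1
  obtain ⟨z, hz, -⟩ := hn 1 (one_mul 1) fun h => by rw [one_mul, mul_one]
  have hval : ∀ p, (χ : G → ℂ) (1 * f p) * ((((1 : _ →* ℂˣ) p)⁻¹ : ℂˣ) : ℂ) =
      (if p = 1 then (deg χ : ℂ) - (Tz E χ : ℂ) else 0) + (Tz E χ : ℂ) := by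
    intro p
    rw [MonoidHom.one_apply, inv_one, Units.val_one, mul_one, one_mul]
    by_cases e : p = 1
    · rw [if_pos e, e, map_one, deg_spec, sub_add_cancel]
    · rw [if_neg e, zero_add, cast_Tz]
      obtain ⟨g, hg⟩ := exists_to_t hyp (hne p e) (hsq p)
      exact Characters.classFunction_isConj (Characters.isClassFunction_of_isCharacter
        (Characters.isCharacter_of_isIrr χ.2)) (isConj_iff.2 ⟨g, hg⟩)
  rw [avg, Finset.sum_congr rfl fun p _ => hval p, Finset.sum_add_distrib, Finset.sum_ite_eq',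
    if_pos (Finset.mem_univ _), Finset.sum_const, Finset.card_univ, Fintype.card_prod,
    ← Nat.card_eq_fintype_card, ← Nat.card_eq_fintype_card, D.c.natCard_fourG, Nat.card_zpowers,
    orderOf_eq_prime ((pow_two _).trans D.c.dd) D.c.d1] at hz
  have h8 : (((deg χ : ℤ) + 7 * Tz E χ : ℤ) : ℂ) = ((8 * z : ℤ) : ℂ) := by
    push_cast
    rw [← hz, nsmul_eq_mul]
    push_cast
    ring
  exact ⟨z, by exact_mod_cast h8⟩

end Dat

end CfsgLib.JankoThompson
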