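import Mathlib

/-!
# The arithmetic of the centraliser `Z₂ × PSL₂(q)`

Signed degrees of the characters meeting the section of the involution satisfy linear relations and
the equations obtained from counting pairs of involutions; the only solution has `q` an odd power
of three.
-/

set_option autoImplicit false
set_option maxHeartbeats 1000000

namespace CfsgLib.JankoThompson

/-- The numerical parameters: `δ` is a sign and `q = 4 r + δ`. -/
structure Num (q r δ : ℤ) : Prop where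
  hδ : δ = 1 ∨ δ = -1
  hq : q = 4 * r + δ
  hr : 7 ≤ r
  hodd : Odd r

variable {q r δ : ℤ}

namespace Num

theorem sq_one (h : Num q r δ) : δ * δ = 1 := by rcases h.hδ with e | e <;> rw [e] <;> norm_num

theorem q_large (h : Num q r δ) : 27 ≤ q := by rcases h.hδ with e | e <;> linarith [h.hq, h.hr]

theorem m_pos (h : Num q r δ) : 0 < q + δ := by rcases h.hδ with e | e <;> linarith [h.q_large]

theorem coprime_q (h : Num q r δ) : IsCoprime q (q + δ) :=
  ⟨-δ, δ, by linear_combination h.sq_one⟩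

theorem coprime_u (h : Num q r δ) : IsCoprime q (2 * r + δ) :=
  ⟨-δ, 2 * δ, by linear_combination h.sq_one + (-δ) * h.hq⟩

theorem coprime_n (h : Num q r δ) : IsCoprime q (4 * r) :=
  ⟨δ, -δ, by linear_combination h.sq_one + δ * h.hq⟩

end Num

/-- The case giving the groups of Ree type. -/
theorem case_one (h : Num q r δ) {p k : ℕ} (hp : p.Prime) (hpk : q = ((p ^ k : ℕ) : ℤ)) {K : ℚ}
    {A B D P R f : ℤ} (hA0 : A ≠ 0) (hB0 : B ≠ 0) (hD0 : D ≠ 0) (hP0 : P ≠ 0) (hR0 : R ≠ 0)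
    (hf : 0 < f) (hD : D = δ - A - B) (hPR : P + R = -(A + B)) (hfd : f = δ - A - 2 * B)
    (hK : (q : ℚ) * K * f = ((q : ℚ) + δ) ^ 2 * (4 * r))
    (E0 : -(δ : ℚ) + (q : ℚ) ^ 2 / A + (q : ℚ) ^ 2 / B + 1 / (D : ℚ) = -δ * ((q : ℚ) + δ) * K)
    (E1 : (q : ℚ) ^ 2 / A + (q : ℚ) ^ 2 / B + ((2 * r + δ : ℤ) : ℚ) ^ 2 * (1 / (P : ℚ) + 1 / (R : ℚ)) =
      ((q : ℚ) / r - 1) * K)
    (Ea : -1 - (δ : ℚ) * ((q : ℚ) ^ 2 / A +
        2 * ((2 * r + δ : ℤ) : ℚ) ^ 2 * (1 / (P : ℚ) + 1 / (R : ℚ))) +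
        9 * δ * ((q : ℚ) + δ) ^ 2 / f = -(4 * r) * K) :
    δ = -1 ∧ (∃ j : ℕ, Odd j ∧ q = 3 ^ j) ∧ f = (q - 1) * (q ^ 2 - q + 1) ∧
      A = q ^ 3 ∧ B = -q * (q ^ 2 - q + 1) ∧ D = -(q ^ 2 - q + 1) := by
  have hr0 : (r : ℚ) ≠ 0 := by have := h.hr; exact_mod_cast (by omega : r ≠ 0)
  have hq0 : (q : ℚ) ≠ 0 := by have := h.q_large; exact_mod_cast (by omega : q ≠ 0)
  have hfq : (f : ℚ) ≠ 0 := by exact_mod_cast hf.ne'
  have hAq : (A : ℚ) ≠ 0 := by exact_mod_cast hA0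
  have hBq : (B : ℚ) ≠ 0 := by exact_mod_cast hB0
  have hDq : (D : ℚ) ≠ 0 := by exact_mod_cast hD0
  have hPq : (P : ℚ) ≠ 0 := by exact_mod_cast hP0
  have hRq : (R : ℚ) ≠ 0 := by exact_mod_cast hR0
  have hδq : (δ : ℚ) * δ = 1 := by exact_mod_cast h.sq_one
  have hqr : (q : ℚ) = 4 * r + δ := by exact_mod_cast h.hq
  have hm := h.m_pos
  -- the first relation is a square
  have e1 : (q : ℚ) ^ 2 / B - 1 / (D : ℚ) + ((q : ℚ) + δ) ^ 2 / f = 0 := by
    have hK' : (q : ℚ) / r * K = 4 * (((q : ℚ) + δ) ^ 2 / f) := by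
      field_simp
      linear_combination hK
    linear_combination (δ : ℚ) * Ea + 2 * E1 - E0 + 2 * hK' +
      ((q : ℚ) ^ 2 / A + 2 * ((2 * r + δ : ℤ) : ℚ) ^ 2 * (1 / (P : ℚ) + 1 / (R : ℚ)) -
        9 * ((q : ℚ) + δ) ^ 2 / f + 2 * K) * hδq + (δ : ℚ) * K * hqr
  have e2 : ((q + δ) * B + q * f) * ((q + δ) * B + q * f) = 0 := by
    have hDf : D = f + B := by linarith
    have : ((((q + δ) * B + q * f) * ((q + δ) * B + q * f) : ℤ) : ℚ) = 0 := by
      push_cast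
      field_simp at e1
      rw [show (D : ℚ) = (f : ℚ) + B by exact_mod_cast hDf] at e1
      linear_combination e1 - (f : ℚ) * B * hδq
    exact_mod_cast this
  have e3 : (q + δ) * B + q * f = 0 := mul_self_eq_zero.1 e2
  obtain ⟨g, hg⟩ : (q + δ) ∣ f :=
    h.coprime_q.symm.dvd_of_dvd_mul_left ⟨-B, by linear_combination e3⟩
  have hB : B = -q * g := mul_left_cancel₀ hm.ne' (by linear_combination e3 - q * hg)
  have hA : A = δ + 4 * r * g := by linear_combination hfd - hg - 2 * hB + g * h.hq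
  have hD' : D = δ * g := by linear_combination hD - hA - hB + g * h.hq
  have hg0 : 0 < g := pos_of_mul_pos_right (hg ▸ hf) hm.le
  have hgq : (g : ℚ) ≠ 0 := by exact_mod_cast hg0.ne'
  have hmq : (q : ℚ) + δ ≠ 0 := by exact_mod_cast hm.ne'
  have hδ0 : (δ : ℚ) ≠ 0 := fun e => by rw [e, zero_mul] at hδq; exact zero_ne_one hδq
  have hKq : (q : ℚ) * K * g = ((q : ℚ) + δ) * (4 * r) := by
    refine mul_left_cancel₀ hmq ?_
    rw [hg] at hK
    push_cast at hK
    linear_combination hK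
  -- the second relation
  have e4 : (q * g + δ) * (g - (q ^ 2 + δ * q + 1)) = 0 := by
    have : (((4 * r) * ((q * g + δ) * (g - (q ^ 2 + δ * q + 1))) : ℤ) : ℚ) = 0 := by
      rw [hB, hD'] at E0
      rw [hA] at E0 hAq
      push_cast at E0 hAq ⊢
      field_simp at E0
      have hK2 : K = ((q : ℚ) + δ) * (4 * r) / ((q : ℚ) * g) := by
        rw [eq_div_iff (mul_ne_zero hq0 hgq)]; linear_combination hKq
      rw [hK2] at E0
      field_simp at E0
      rcases h.hδ with e | e <;> subst e <;> push_cast at * <;> subst_vars <;>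
        rw [hqr] at E0 ⊢ <;> linear_combination -E0
    have h4 : (4 * r) * ((q * g + δ) * (g - (q ^ 2 + δ * q + 1))) = 0 := by exact_mod_cast this
    exact (mul_eq_zero.1 h4).resolve_left (by have := h.hr; omega)
  have hg' : g = q ^ 2 + δ * q + 1 := by
    rcases mul_eq_zero.1 e4 with e | e
    · exfalso
      have : 27 ≤ q * g := by nlinarith [h.q_large]
      rcases h.hδ with e' | e' <;> omega
    · linarith
  -- the last two degrees
  have e5 : 3 * (P - R) ^ 2 = q * (q + δ) ^ 2 * (3 * q - δ * g) := by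
    have hA' : A = q ^ 3 := by
      rw [hA, hg']; linear_combination (-(q ^ 2 + δ * q + 1)) * h.hq + (-q) * h.sq_one
    have hsum : P + R = δ * q * (q + δ) := by
      rw [hPR, hA', hB, hg']; linear_combination (-q) * h.sq_one
    have h12 : 12 * (P * R) = δ * q * (q + δ) ^ 2 * g := by
      have : ((12 * (P * R) : ℤ) : ℚ) = ((δ * q * (q + δ) ^ 2 * g : ℤ) : ℚ) := by
        have hu : (((2 * r + δ : ℤ)) : ℚ) = ((q : ℚ) + δ) / 2 := by push_cast; linarith
        have hgQ : (g : ℚ) = (q : ℚ) ^ 2 + δ * q + 1 := by exact_mod_cast hg'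
        have hs : (P : ℚ) + R = δ * q * ((q : ℚ) + δ) := by exact_mod_cast hsum
        have hK2 : K = ((q : ℚ) + δ) * (4 * r) / ((q : ℚ) * g) := by
          rw [eq_div_iff (mul_ne_zero hq0 hgq)]; linear_combination hKq
        have h1 : (q : ℚ) ^ 2 / A = 1 / q := by
          rw [hA']; push_cast; field_simp
        have h2 : (q : ℚ) ^ 2 / B = -((q : ℚ) / g) := by
          rw [hB]; push_cast; field_simp
        have h3 : ((q : ℚ) / r - 1) * K = ((q : ℚ) + δ) * (3 * q + δ) / (q * g) := by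
          rw [hK2]
          field_simp
          linear_combination hqr
        have h4 : 1 / (P : ℚ) + 1 / (R : ℚ) = δ * q * ((q : ℚ) + δ) / ((P : ℚ) * R) := by
          field_simp
          linear_combination hs
        rw [hu, h1, h2, h3, h4] at E1
        field_simp at E1
        push_cast
        refine mul_left_cancel₀ hmq (mul_left_cancel₀ hq0 ?_)
        rw [hgQ] at E1 ⊢
        rcases h.hδ with e | e <;> subst e <;> push_cast at * <;>
          linear_combination -E1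
      exact_mod_cast this
    linear_combination (3 * ((P + R) + δ * q * (q + δ))) * hsum - h12 +
      3 * q ^ 2 * (q + δ) ^ 2 * h.sq_one
  have hδ : δ = -1 := by
    refine h.hδ.resolve_left fun e => ?_
    subst e
    have h1 : 0 < q * (q + 1) ^ 2 := by have := h.q_large; positivity
    have h2 : 3 * q - g ≤ -1 := by rw [hg']; nlinarith [h.q_large]
    nlinarith [sq_nonneg (P - R), mul_le_mul_of_nonneg_left h2 h1.le]
  subst hδ
  refine ⟨rfl, ?_, by rw [hg, hg']; ring, by rw [hA, hg']; linear_combination (-(q ^ 2 - q + 1)) * h.hq,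
    by rw [hB, hg']; ring, by rw [hD', hg']; ring⟩
  have h3 : q * (q ^ 2 - 1) ^ 2 = 3 * (P - R) ^ 2 := by rw [e5, hg']; ring
  have hqq : IsSquare (3 * q) := by
    have hne : (q ^ 2 - 1) ^ 2 ≠ 0 := pow_ne_zero 2 (by nlinarith [h.q_large])
    obtain ⟨i, hi⟩ : (q ^ 2 - 1) ∣ 3 * (P - R) := by
      refine (Int.pow_dvd_pow_iff two_ne_zero).1 ⟨3 * q, ?_⟩
      linear_combination (-3 : ℤ) * h3
    refine ⟨i, mul_left_cancel₀ hne ?_⟩
    linear_combination 3 * h3 + (3 * (P - R) + (q ^ 2 - 1) * i) * hi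
  have hsq : IsSquare (3 * p ^ k : ℕ) := by
    obtain ⟨i, hi⟩ := hqq
    refine ⟨i.natAbs, ?_⟩
    have := congrArg Int.natAbs hi
    rw [Int.natAbs_mul, Int.natAbs_mul, hpk, Int.natAbs_natCast] at this
    exact this
  have hp3 : p = 3 := by
    by_contra hne
    obtain ⟨i, hi⟩ := hsq
    have h3i : 3 ∣ i := (Nat.prime_three.dvd_mul.1 (hi ▸ Dvd.intro _ rfl)).elim id id
    obtain ⟨j, rfl⟩ := h3i
    have : 3 ∣ p ^ k := ⟨j * j, Nat.eq_of_mul_eq_mul_left (by norm_num : 0 < 3) (by rw [hi]; ring)⟩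
    exact hne ((Nat.prime_dvd_prime_iff_eq Nat.prime_three hp).1
      (Nat.prime_three.dvd_of_dvd_pow this)).symm
  subst hp3
  refine ⟨k, ?_, by exact_mod_cast hpk⟩
  obtain ⟨i, hi⟩ := hsq
  rw [← pow_succ'] at hi
  obtain ⟨j, -, rfl⟩ := (Nat.dvd_prime_pow Nat.prime_three).1 (show i ∣ 3 ^ (k + 1) from hi ▸ Dvd.intro _ rfl)
  rw [← pow_add] at hi
  have := Nat.pow_right_injective (le_refl 2 |>.trans (by norm_num : 2 ≤ 3)) hi
  exact ⟨j - 1, by omega⟩

/-- The selection `P, R` of signed degrees is impossible. -/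
theorem case_three (h : Num q r δ) {K : ℚ} {A B D P R f : ℤ} (hD0 : D ≠ 0) (hf : 0 < f)
    (hD1 : D.natAbs ≠ 1) (hfd : f = δ - D)
    (hK : (q : ℚ) * K * f = ((q : ℚ) + δ) ^ 2 * (4 * r))
    (E1 : (q : ℚ) ^ 2 / A + (q : ℚ) ^ 2 / B + ((2 * r + δ : ℤ) : ℚ) ^ 2 * (1 / (P : ℚ) + 1 / (R : ℚ)) =
      ((q : ℚ) / r - 1) * K)
    (Ea : -1 - (δ : ℚ) * ((q : ℚ) ^ 2 / A + (q : ℚ) ^ 2 / B - 1 / (D : ℚ) +
        ((2 * r + δ : ℤ) : ℚ) ^ 2 * (1 / (P : ℚ) + 1 / (R : ℚ))) +
        9 * δ * ((q : ℚ) + δ) ^ 2 / f = -(4 * r) * K) :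
    False := by
  have hr0 : (r : ℚ) ≠ 0 := by have := h.hr; exact_mod_cast (by omega : r ≠ 0)
  have hq0 : (q : ℚ) ≠ 0 := by have := h.q_large; exact_mod_cast (by omega : q ≠ 0)
  have hfq : (f : ℚ) ≠ 0 := by exact_mod_cast hf.ne'
  have hDq : (D : ℚ) ≠ 0 := by exact_mod_cast hD0
  have hδq : (δ : ℚ) * δ = 1 := by exact_mod_cast h.sq_one
  have hqr : (q : ℚ) = 4 * r + δ := by exact_mod_cast h.hq
  have hK2 : K = ((q : ℚ) + δ) ^ 2 * (4 * r) / ((q : ℚ) * f) := by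
    rw [eq_div_iff (mul_ne_zero hq0 hfq)]; linear_combination hK
  have e1 : (δ : ℚ) - 1 / (D : ℚ) - (5 + δ * (4 * r)) * ((q : ℚ) + δ) ^ 2 / f = 0 := by
    have e0 : (δ : ℚ) - 1 / (D : ℚ) + ((q : ℚ) / r - 1) * K - 9 * ((q : ℚ) + δ) ^ 2 / f
        - δ * (4 * r) * K = 0 := by
      linear_combination (-(δ : ℚ)) * Ea - E1 +
        (-((q : ℚ) ^ 2 / A + (q : ℚ) ^ 2 / B - 1 / (D : ℚ) +
          ((2 * r + δ : ℤ) : ℚ) ^ 2 * (1 / (P : ℚ) + 1 / (R : ℚ))) +
          9 * ((q : ℚ) + δ) ^ 2 / f) * hδq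
    have e' : ((q : ℚ) / r - 1) * K - 9 * ((q : ℚ) + δ) ^ 2 / f - δ * (4 * r) * K =
        -((5 + δ * (4 * r)) * ((q : ℚ) + δ) ^ 2 / f) := by
      rw [hK2]
      field_simp
      rw [hqr]
      linear_combination (16 * (r : ℚ) * (2 * r + δ) ^ 2) * hδq
    linear_combination e0 - e'
  have e2 : -δ * (f * f) = (5 + δ * (4 * r)) * (q + δ) ^ 2 * D := by
    have : ((-δ * (f * f) : ℤ) : ℚ) = (((5 + δ * (4 * r)) * (q + δ) ^ 2 * D : ℤ) : ℚ) := by
      field_simp at e1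
      have hfQ : (f : ℚ) = δ - D := by exact_mod_cast hfd
      push_cast
      rw [hfQ] at e1 ⊢
      linear_combination e1 - ((δ : ℚ) - D) * hδq
    exact_mod_cast this
  have hco : IsCoprime D (-δ * (f * f)) := by
    have h1 : IsCoprime D δ := ⟨0, δ, by linear_combination h.sq_one⟩
    have h2 : IsCoprime D f := ⟨δ, δ, by rw [hfd]; linear_combination h.sq_one⟩
    exact (h1.neg_right.mul_right (h2.mul_right h2))
  have : IsUnit D := hco.isUnit_of_dvd' dvd_rfl ⟨(5 + δ * (4 * r)) * (q + δ) ^ 2, by rw [e2]; ring⟩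
  exact hD1 (Int.isUnit_iff_natAbs_eq.1 this)

/-- The quadratic equation for the two integral invariants has no solution. -/
theorem case_two_aux (h : Num q r δ) {g x y k4 k5 : ℤ} (hgr : 4 * r + 3 ≤ g)
    (hE : x * (g * q + (g * (2 * r + δ) - δ) * y) = q * (2 * r + δ) * g * y)
    (hk4 : x - 3 * δ = 8 * r * k4) (hk5 : y + 3 = 8 * r * k5) : False := by
  have hr := h.hr
  have hq := h.q_large
  have hqr' := h.hq
  have hg0 : 0 < g := by linarith
  by_cases hy3 : y = -3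
  · subst hy3
    have hE2 : x * (g * (2 * r + 2 * δ) - 3 * δ) = 3 * q * (2 * r + δ) * g := by
      linear_combination (-1 : ℤ) * hE + x * g * hqr'
    rw [show x = 3 * δ + 8 * r * k4 by linarith] at hE2
    rw [hqr'] at hE2
    rcases le_or_gt k4 0 with hk | hk
    · rcases h.hδ with h' | h' <;> subst h'
      · rcases eq_or_lt_of_le hk with hk' | hk'
        · subst hk'
          have hp : 0 ≤ g * ((4 * r + 1) * (2 * r + 1) - (2 * r + 2)) :=
            mul_nonneg hg0.le (by nlinarith)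
          nlinarith
        · have h1 : 3 * 1 + 8 * r * k4 ≤ 0 := by nlinarith
          have h2 : 0 < g * (2 * r + 2 * 1) - 3 * 1 := by nlinarith
          have h3 : 0 < 3 * (4 * r + 1) * (2 * r + 1) * g := by positivity
          nlinarith [mul_nonpos_of_nonpos_of_nonneg h1 h2.le]
      · have h1 : 3 * (-1) + 8 * r * k4 ≤ 0 := by nlinarith
        have h2 : 0 < g * (2 * r + 2 * (-1)) - 3 * (-1) := by nlinarith
        have h3 : 0 < 3 * (4 * r + (-1)) * (2 * r + (-1)) * g :=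
          mul_pos (mul_pos (by linarith) (by linarith)) hg0
        nlinarith [mul_nonpos_of_nonpos_of_nonneg h1 h2.le]
    · rcases eq_or_lt_of_le (show 1 ≤ k4 by omega) with hk' | hk'
      · subst hk'
        rcases h.hδ with h' | h' <;> subst h'
        · nlinarith [mul_le_mul_of_nonneg_left hgr (by nlinarith : (0:ℤ) ≤ 8 * r ^ 2 - 4 * r - 3)]
        · nlinarith [mul_le_mul_of_nonneg_left hgr (by nlinarith : (0:ℤ) ≤ 8 * r ^ 2 + 4 * r - 3)]
      · rcases h.hδ with h' | h' <;> subst h'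
        · have h2 : 0 ≤ g * (2 * r + 2 * 1) - 3 * 1 := by nlinarith
          nlinarith [mul_le_mul_of_nonneg_right
            (by nlinarith : 3 * 1 + 16 * r ≤ 3 * 1 + 8 * r * k4) h2,
            mul_le_mul_of_nonneg_left hgr (by nlinarith : (0:ℤ) ≤ 8 * r ^ 2 + 20 * r + 3)]
        · have h2 : 0 ≤ g * (2 * r + 2 * (-1)) - 3 * (-1) := by nlinarith
          nlinarith [mul_le_mul_of_nonneg_right
            (by nlinarith : 3 * (-1) + 16 * r ≤ 3 * (-1) + 8 * r * k4) h2,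
            mul_le_mul_of_nonneg_left hgr (by nlinarith : (0:ℤ) ≤ 8 * r ^ 2 - 20 * r + 3)]
  · have hy8 : 8 * r - 3 ≤ |y| := by
      rcases lt_trichotomy k5 0 with hk | hk | hk
      · rw [le_abs]; right; nlinarith
      · subst hk; exact absurd (by linarith) hy3
      · rw [le_abs]; left; nlinarith
    have hid : (x - q) * (g * q + (g * (2 * r + δ) - δ) * y) = q * (δ * y - g * q) := by
      linear_combination hE
    have hx4 : 4 * r - 2 ≤ |x - q| := by
      rcases le_or_gt k4 0 with hk | hk <;> rw [le_abs] <;> rcases h.hδ with h' | h'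
      · right; nlinarith
      · right; nlinarith
      · left; nlinarith
      · left; nlinarith
    set Y := |y| with hY
    have hden : ((2 * r + δ) * g - 1) * Y - g * q ≤ |g * q + (g * (2 * r + δ) - δ) * y| := by
      have h1 := abs_sub_abs_le_abs_sub ((g * (2 * r + δ) - δ) * y) (-(g * q))
      rw [abs_neg, abs_of_nonneg (by positivity : 0 ≤ g * q), abs_mul, sub_neg_eq_add,
        add_comm _ (g * q), ← hY] at h1
      have h2 : (2 * r + δ) * g - 1 ≤ |g * (2 * r + δ) - δ| := by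
        rw [le_abs]; left; rcases h.hδ with h' | h' <;> subst h' <;> linarith
      nlinarith [mul_le_mul_of_nonneg_right h2 (abs_nonneg y)]
    have hnum : |δ * y - g * q| ≤ Y + g * q := by
      have h1 := abs_sub (δ * y) (g * q)
      rw [abs_of_nonneg (by positivity : 0 ≤ g * q), abs_mul] at h1
      have : |δ| = 1 := by rcases h.hδ with h' | h' <;> subst h' <;> norm_num
      rwa [this, one_mul] at h1
    have hu : 2 * r - 1 ≤ 2 * r + δ ∧ q ≤ 4 * r + 1 := by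
      rcases h.hδ with h' | h' <;> subst h' <;> constructor <;> linarith
    have hd0 : 0 ≤ ((2 * r + δ) * g - 1) * Y - g * q := by
      have h1 : ((2 * r - 1) * g - 1) * (8 * r - 3) ≤ ((2 * r + δ) * g - 1) * Y :=
        mul_le_mul (sub_le_sub_right (mul_le_mul_of_nonneg_right hu.1 hg0.le) 1) hy8 (by linarith)
          (by nlinarith)
      have h2 : g * q ≤ g * (4 * r + 1) := mul_le_mul_of_nonneg_left hu.2 hg0.le
      have h3 : 8 * r - 3 ≤ g * ((2 * r - 1) * (8 * r - 3) - (4 * r + 1)) :=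
        le_trans (by nlinarith) (le_mul_of_one_le_left (by nlinarith) (by linarith : (1 : ℤ) ≤ g))
      linarith
    have key : (4 * r - 2) * (((2 * r + δ) * g - 1) * Y - g * q) ≤ q * (Y + g * q) := by
      calc (4 * r - 2) * (((2 * r + δ) * g - 1) * Y - g * q)
          ≤ |x - q| * |g * q + (g * (2 * r + δ) - δ) * y| := mul_le_mul hx4 hden hd0 (abs_nonneg _)
        _ = q * |δ * y - g * q| := by
            rw [← abs_mul, hid, abs_mul, abs_of_nonneg (by linarith : (0 : ℤ) ≤ q)]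
        _ ≤ q * (Y + g * q) := mul_le_mul_of_nonneg_left hnum (by linarith)
    have hc : 0 < (4 * r - 2) * ((2 * r - 1) * g - 1) - q := by
      nlinarith [mul_le_mul_of_nonneg_left (show 2 ≤ (2 * r - 1) * g - 1 by nlinarith)
        (by linarith : (0 : ℤ) ≤ 4 * r - 2)]
    have key2 : ((4 * r - 2) * ((2 * r - 1) * g - 1) - q) * (8 * r - 3) ≤
        g * q * (4 * r - 2 + q) := by
      have h1 := mul_le_mul_of_nonneg_left hy8 hc.le
      have h2 : (4 * r - 2) * ((2 * r - 1) * g - 1) * Y ≤ (4 * r - 2) * ((2 * r + δ) * g - 1) * Y :=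
        mul_le_mul_of_nonneg_right (mul_le_mul_of_nonneg_left
          (by nlinarith) (by linarith)) (abs_nonneg y)
      linarith
    have hpoly : (4 * r + 1) * (8 * r - 1) + (r * r) ≤ (4 * r - 2) * (2 * r - 1) * (8 * r - 3) := by
      nlinarith
    nlinarith [mul_le_mul_of_nonneg_left hpoly hg0.le,
      mul_le_mul hu.2 (show 4 * r - 2 + q ≤ 8 * r - 1 by linarith) (by linarith) (by linarith)]


/-- The selection `P, P` of signed degrees is impossible. -/
theorem case_two (h : Num q r δ) {K : ℚ} {A B D P f : ℤ} (hA0 : A ≠ 0) (hB0 : B ≠ 0)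
    (hD0 : D ≠ 0) (hP0 : P ≠ 0) (hf : 0 < f) (hfd : f = 2 * δ + 2 * (P - D))
    (hfm : q + δ ∣ f) (hA : A * (q + δ) ∣ q ^ 3 * f) (hB : B * (q + δ) ∣ q ^ 3 * f)
    (hP : P * (q + δ) ∣ q ^ 2 * (2 * r + δ) * f)
    (hPc : 8 * r ∣ P - (2 * r + δ)) (hDc : 8 * r ∣ D + δ)
    (hK : (q : ℚ) * K * f = ((q : ℚ) + δ) ^ 2 * (4 * r))
    (E0 : -(δ : ℚ) + (q : ℚ) ^ 2 / A + (q : ℚ) ^ 2 / B + 1 / (D : ℚ) = -δ * ((q : ℚ) + δ) * K)
    (Ea : -1 - (δ : ℚ) * ((q : ℚ) ^ 2 / A + (q : ℚ) ^ 2 / B - 1 / (D : ℚ) +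
        2 * ((2 * r + δ : ℤ) : ℚ) ^ 2 / (P : ℚ)) +
        9 * δ * ((q : ℚ) + δ) ^ 2 / f = -(4 * r) * K) :
    False := by
  have hm := h.m_pos
  have hr := h.hr
  have hq := h.q_large
  have hqr' := h.hq
  obtain ⟨g, hg⟩ := hfm
  have hg0 : 0 < g := pos_of_mul_pos_right (hg ▸ hf) hm.le
  have cancel : ∀ {X Y : ℤ}, X * (q + δ) ∣ Y * f → X ∣ Y * g := by
    intro X Y hXY
    refine (mul_dvd_mul_iff_right hm.ne').1 ?_
    rwa [show Y * g * (q + δ) = Y * f by rw [hg]; ring]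
  obtain ⟨a', ha'⟩ := cancel hA
  obtain ⟨b', hb'⟩ := cancel hB
  obtain ⟨x', hx'⟩ := cancel hP
  have hgq : (g : ℚ) ≠ 0 := by exact_mod_cast hg0.ne'
  have hr0 : (r : ℚ) ≠ 0 := by exact_mod_cast (by omega : r ≠ 0)
  have hq0 : (q : ℚ) ≠ 0 := by exact_mod_cast (by omega : q ≠ 0)
  have hmq : (q : ℚ) + δ ≠ 0 := by exact_mod_cast hm.ne'
  have hAq : (A : ℚ) ≠ 0 := by exact_mod_cast hA0
  have hBq : (B : ℚ) ≠ 0 := by exact_mod_cast hB0
  have hDq : (D : ℚ) ≠ 0 := by exact_mod_cast hD0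
  have hPq : (P : ℚ) ≠ 0 := by exact_mod_cast hP0
  have hδq : (δ : ℚ) * δ = 1 := by exact_mod_cast h.sq_one
  have hqr : (q : ℚ) = 4 * r + δ := by exact_mod_cast h.hq
  have hfQ : (f : ℚ) = ((q : ℚ) + δ) * g := by exact_mod_cast hg
  have hKq : K = ((q : ℚ) + δ) * (4 * r) / ((q : ℚ) * g) := by
    rw [eq_div_iff (mul_ne_zero hq0 hgq)]
    refine mul_left_cancel₀ hmq ?_
    rw [hfQ] at hK
    linear_combination hK
  have haQ : (q : ℚ) ^ 2 / A = (a' : ℚ) / (q * g) := by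
    rw [div_eq_div_iff hAq (mul_ne_zero hq0 hgq)]
    have : (q : ℚ) ^ 3 * g = A * a' := by exact_mod_cast ha'
    linear_combination this
  have hbQ : (q : ℚ) ^ 2 / B = (b' : ℚ) / (q * g) := by
    rw [div_eq_div_iff hBq (mul_ne_zero hq0 hgq)]
    have : (q : ℚ) ^ 3 * g = B * b' := by exact_mod_cast hb'
    linear_combination this
  -- integrality of `q g / D`
  obtain ⟨y, hy⟩ : ∃ y : ℤ, q * g = D * y := by
    refine ⟨δ * q * g - a' - b' - δ * (q + δ) ^ 2 * (4 * r), ?_⟩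
    have : ((q * g : ℤ) : ℚ) = ((D * (δ * q * g - a' - b' - δ * (q + δ) ^ 2 * (4 * r)) : ℤ) : ℚ) := by
      push_cast
      rw [haQ, hbQ, hKq] at E0
      field_simp at E0
      linear_combination E0
    exact_mod_cast this
  -- the relation between the degrees
  have e1 : (δ : ℚ) - 1 / (D : ℚ) + ((2 * r + δ : ℤ) : ℚ) ^ 2 / (P : ℚ)
      - (9 + 8 * δ * r) * ((q : ℚ) + δ) / (2 * g) = 0 := by
    have e0 : 2 * ((δ : ℚ) - 1 / (D : ℚ) + ((2 * r + δ : ℤ) : ℚ) ^ 2 / (P : ℚ))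
        - δ * (((q : ℚ) + δ) + 4 * r) * K - 9 * ((q : ℚ) + δ) ^ 2 / f = 0 := by
      linear_combination (-(δ : ℚ)) * Ea - E0 +
        (-((q : ℚ) ^ 2 / A + (q : ℚ) ^ 2 / B - 1 / (D : ℚ) +
          2 * ((2 * r + δ : ℤ) : ℚ) ^ 2 / (P : ℚ)) + 9 * ((q : ℚ) + δ) ^ 2 / f) * hδq
    have e' : δ * (((q : ℚ) + δ) + 4 * r) * K + 9 * ((q : ℚ) + δ) ^ 2 / f =
        (9 + 8 * δ * r) * ((q : ℚ) + δ) / g := by
      rw [hKq, hfQ]
      field_simp
      linear_combination (-4 * (δ : ℚ) * r) * hqr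
    linear_combination e0 / 2 + e' / 2
  -- integrality of `q g u / P`
  obtain ⟨x, hx⟩ : P ∣ q * g * (2 * r + δ) := by
    have h1 : P ∣ q * g * (2 * r + δ) * (2 * r + δ) := by
      refine ⟨-δ * q * g + y + q * (2 * r + δ) * (9 + 8 * δ * r), ?_⟩
      have : ((q * g * (2 * r + δ) * (2 * r + δ) : ℤ) : ℚ) =
          ((P * (-δ * q * g + y + q * (2 * r + δ) * (9 + 8 * δ * r)) : ℤ) : ℚ) := by
        have hyQ : (q : ℚ) * g = D * y := by exact_mod_cast hy
        push_cast at e1 ⊢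
        field_simp at e1
        refine mul_left_cancel₀ (mul_ne_zero hDq (two_ne_zero' ℚ)) ?_
        linear_combination (q : ℚ) * e1 + (2 * (P : ℚ)) * hyQ +
          ((q : ℚ) * D * P * (9 + 8 * δ * r)) * hqr
      exact_mod_cast this
    have h2 : P ∣ q * g * (2 * r + δ) * q := ⟨x', by linear_combination hx'⟩
    obtain ⟨s, t, hst⟩ := h.coprime_u
    have := dvd_add (h2.mul_left s) (h1.mul_left t)
    rwa [show s * (q * g * (2 * r + δ) * q) + t * (q * g * (2 * r + δ) * (2 * r + δ)) =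
      q * g * (2 * r + δ) by linear_combination (q * g * (2 * r + δ)) * hst] at this
  -- the congruences
  have hDP : (2 * r + δ) * g = δ + P - D := by
    have : 2 * ((2 * r + δ) * g) = 2 * (δ + P - D) := by
      linear_combination hfd - hg - g * hqr'
    linarith
  have hco : IsCoprime (8 * r) (2 * r + δ) := by
    have h2 : IsCoprime (2 : ℤ) (2 * r + δ) := ⟨-r * δ, δ, by linear_combination h.sq_one⟩
    have h3 : IsCoprime r (2 * r + δ) := ⟨-2 * δ, δ, by linear_combination h.sq_one⟩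
    rw [show (8 : ℤ) * r = 2 * 2 * 2 * r by ring]
    exact ((h2.mul_left h2).mul_left h2).mul_left h3
  obtain ⟨k1, hk1⟩ := hPc
  obtain ⟨k2, hk2⟩ := hDc
  have hδodd : ∃ e, δ + 1 = 2 * e ∧ δ + 3 = 2 * (e + 1) := by
    rcases h.hδ with e | e
    · exact ⟨1, by omega, by omega⟩
    · exact ⟨0, by omega, by omega⟩
  obtain ⟨e, he, he3⟩ := hδodd
  obtain ⟨k3, hk3⟩ : 8 * r ∣ g - (3 + 4 * r) := by
    refine hco.dvd_of_dvd_mul_left ⟨k1 - k2 - (r + e), ?_⟩
    linear_combination hDP + hk1 - hk2 - 4 * r * he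
  obtain ⟨k4, hk4⟩ : 8 * r ∣ x - 3 * δ := by
    have h1 : 8 * r ∣ x - q * g := by
      refine hco.dvd_of_dvd_mul_left ⟨-(k1 * x), ?_⟩
      linear_combination (-1 : ℤ) * hx - x * hk1
    have h2 : 8 * r ∣ q * g - 3 * δ := by
      refine ⟨q * k3 + (2 * r + (e + 1)), ?_⟩
      linear_combination q * hk3 + (3 + 4 * r) * hqr' + 4 * r * he3
    simpa using dvd_add h1 h2
  obtain ⟨k5, hk5⟩ : 8 * r ∣ y + 3 := by
    refine ⟨δ * (k2 * y - q * k3 - (2 * r + (e + 1))), ?_⟩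
    linear_combination δ * hy - δ * q * hk3 - δ * (3 + 4 * r) * hqr' + δ * y * hk2 -
      4 * r * δ * he3 - (y + 3) * h.sq_one
  -- the equation for `x` and `y`
  have hE : x * (g * q + (g * (2 * r + δ) - δ) * y) = q * (2 * r + δ) * g * y := by
    linear_combination x * hy + x * y * hDP - y * hx
  have hgr : 4 * r + 3 ≤ g := by
    rcases lt_trichotomy k3 0 with hk | hk | hk
    · nlinarith
    · subst hk; linarith
    · nlinarith
  exact case_two_aux h hgr hE hk4 hk5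

/-- The first triangular configuration forces `P = -f`. -/
theorem triangle_one (h : Num q r δ) {K : ℚ} {A B D P R R2 f : ℤ} (hP0 : P ≠ 0) (hf : 0 < f)
    (hK : (q : ℚ) * K * f = ((q : ℚ) + δ) ^ 2 * (4 * r))
    (E0 : -(δ : ℚ) + (q : ℚ) ^ 2 / A + ((2 * r : ℤ) : ℚ) ^ 2 / B + ((2 * r : ℤ) : ℚ) ^ 2 / D =
      -δ * ((q : ℚ) + δ) * K)
    (E1 : (q : ℚ) ^ 2 / A + ((2 * r : ℤ) : ℚ) ^ 2 / B + ((q : ℚ) + δ) ^ 2 / P +
      ((2 * r + δ : ℤ) : ℚ) ^ 2 / R = ((q : ℚ) / r - 1) * K)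
    (E2 : (q : ℚ) ^ 2 / A + ((2 * r : ℤ) : ℚ) ^ 2 / D + ((q : ℚ) + δ) ^ 2 / P +
      ((2 * r + δ : ℤ) : ℚ) ^ 2 / R2 = ((q : ℚ) / r - 1) * K)
    (Ea : -1 - (δ : ℚ) * ((q : ℚ) ^ 2 / A + ((q : ℚ) + δ) ^ 2 / P +
        ((2 * r + δ : ℤ) : ℚ) ^ 2 / R + ((2 * r + δ : ℤ) : ℚ) ^ 2 / R2) +
        9 * δ * ((q : ℚ) + δ) ^ 2 / f = -(4 * r) * K) :
    P = -f := by
  have hr0 : (r : ℚ) ≠ 0 := by have := h.hr; exact_mod_cast (by omega : r ≠ 0)
  have hfq : (f : ℚ) ≠ 0 := by exact_mod_cast hf.ne'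
  have hPq : (P : ℚ) ≠ 0 := by exact_mod_cast hP0
  have hmq : (q : ℚ) + δ ≠ 0 := by have := h.m_pos; exact_mod_cast this.ne'
  have hδq : (δ : ℚ) * δ = 1 := by exact_mod_cast h.sq_one
  have hqr : (q : ℚ) = 4 * r + δ := by exact_mod_cast h.hq
  have hK' : (q : ℚ) / r * K = 4 * (((q : ℚ) + δ) ^ 2 / f) := by
    field_simp
    linear_combination hK
  have e1 : ((q : ℚ) + δ) ^ 2 / P + ((q : ℚ) + δ) ^ 2 / f = 0 := by
    linear_combination (δ : ℚ) * Ea + E1 + E2 - E0 + 2 * hK' +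
      ((q : ℚ) ^ 2 / A + ((q : ℚ) + δ) ^ 2 / P + ((2 * r + δ : ℤ) : ℚ) ^ 2 / R +
        ((2 * r + δ : ℤ) : ℚ) ^ 2 / R2 - 9 * ((q : ℚ) + δ) ^ 2 / f + 2 * K) * hδq +
      ((δ : ℚ) * K) * hqr
  have e2 : ((q : ℚ) + δ) ^ 2 * ((f : ℚ) + P) = 0 := by
    field_simp at e1
    linear_combination e1
  have : (f : ℚ) + P = 0 := (mul_eq_zero.1 e2).resolve_left (pow_ne_zero 2 hmq)
  have : f + P = 0 := by exact_mod_cast this
  linarith

/-- The first branch of the second triangular configuration. -/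
theorem triangle_branch_one (h : Num q r δ) {K : ℚ} {A B P R g y t : ℤ} (hg0 : 0 < g)
    (hA : A = δ - 2 * B) (hP : P = (2 * r + δ) * g - δ + B) (hR : R = -((2 * r + δ) * g))
    (hg : g = t * (q ^ 2 * t + δ * (q + δ))) (hy : y = (q + δ) * (q ^ 2 * t) - q * g)
    (hBy : B * y = 2 * r * q * g)
    (hKq : (q : ℚ) * K * g = ((q : ℚ) + δ) * (4 * r))
    (E1 : (q : ℚ) ^ 2 / A + ((2 * r : ℤ) : ℚ) ^ 2 / B + ((q : ℚ) + δ) ^ 2 / P +
      ((2 * r + δ : ℤ) : ℚ) ^ 2 / R = ((q : ℚ) / r - 1) * K) :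
    False := by
  have hr := h.hr
  have hq := h.q_large
  have hm := h.m_pos
  have hqr' := h.hq
  set den := (q + δ) * q - q ^ 2 * t - δ * (q + δ) with hden
  have ht : t ≠ 0 := by rintro rfl; rw [hg] at hg0; simp at hg0
  have h1 : B * den = 2 * r * (q ^ 2 * t + δ * (q + δ)) := by
    refine mul_left_cancel₀ (mul_ne_zero (by omega : q ≠ 0) ht) ?_
    rw [hg] at hy hBy
    linear_combination hBy - B * hy
  have h2 : den ∣ q * (2 * r * (q + δ)) := ⟨B + 2 * r, by linear_combination (-1 : ℤ) * h1⟩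
  have h3 : den ∣ 2 * r * (q + δ) := by
    refine IsCoprime.dvd_of_dvd_mul_left ?_ h2
    obtain ⟨a, b, hab⟩ := h.coprime_q
    exact ⟨-δ * b, a + δ * b * ((q + δ) - q * t),
      by linear_combination hab + b * (q + δ) * h.sq_one⟩
  have hpos : 0 < 2 * r * (q + δ) := mul_pos (by linarith) hm
  have hle : den ≤ 2 * r * (q + δ) ∧ -den ≤ 2 * r * (q + δ) :=
    ⟨Int.le_of_dvd hpos h3, Int.le_of_dvd hpos (neg_dvd.2 h3)⟩
  have h2r : 2 * (2 * r * (q + δ)) = q ^ 2 - 1 := by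
    linear_combination (-(q + δ)) * hqr' - h.sq_one
  have ht1 : t = 1 := by
    rcases lt_trichotomy t 1 with hlt | heq | hgt
    · exfalso
      have h5 : q ^ 2 * t ≤ q ^ 2 * (-1) := mul_le_mul_of_nonneg_left (by omega) (sq_nonneg q)
      rcases h.hδ with e | e <;> subst e <;> nlinarith
    · exact heq
    · exfalso
      have h5 : q ^ 2 * 2 ≤ q ^ 2 * t := mul_le_mul_of_nonneg_left (by omega) (sq_nonneg q)
      rcases h.hδ with e | e <;> subst e <;> nlinarith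
  subst ht1
  have hden1 : den = -1 := by rw [hden]; linear_combination (-1 : ℤ) * h.sq_one
  have hgv : g = q ^ 2 + δ * q + 1 := by rw [hg]; linear_combination h.sq_one
  rw [hden1] at h1
  have hB : B = -(2 * r * g) := by rw [hg]; linear_combination (-1 : ℤ) * h1
  have hAv : A = q ^ 3 := by
    rw [hA, hB, hgv]; linear_combination (-(q ^ 2 + δ * q + 1)) * hqr' + (-q) * h.sq_one
  have hPv : P = δ * q * (q + δ) := by
    rw [hP, hB, hgv]; linear_combination (-q) * h.sq_one + q * h.sq_one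
  have hδ0 : (δ : ℚ) ≠ 0 := by rcases h.hδ with e | e <;> rw [e] <;> norm_num
  have hr0 : (r : ℚ) ≠ 0 := by exact_mod_cast (by omega : r ≠ 0)
  have hq0 : (q : ℚ) ≠ 0 := by exact_mod_cast (by omega : q ≠ 0)
  have hmq : (q : ℚ) + δ ≠ 0 := by exact_mod_cast hm.ne'
  have hgq : (g : ℚ) ≠ 0 := by exact_mod_cast hg0.ne'
  have hu0 : (2 * (r : ℚ) + δ) ≠ 0 := by
    have : 0 < 2 * r + δ := by rcases h.hδ with e | e <;> omega
    exact_mod_cast this.ne'
  have hδq : (δ : ℚ) * δ = 1 := by exact_mod_cast h.sq_one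
  have hqr : (q : ℚ) = 4 * r + δ := by exact_mod_cast h.hq
  have f1 : (q : ℚ) ^ 2 / A = 1 / q := by rw [hAv]; push_cast; field_simp
  have f2 : ((2 * r : ℤ) : ℚ) ^ 2 / B = -(2 * (r : ℚ) / g) := by rw [hB]; push_cast; field_simp
  have f3 : ((q : ℚ) + δ) ^ 2 / P = δ * ((q : ℚ) + δ) / q := by
    rw [hPv]; push_cast; field_simp
    linear_combination (-1 : ℚ) * hδq
  have f4 : ((2 * r + δ : ℤ) : ℚ) ^ 2 / R = -((2 * (r : ℚ) + δ) / g) := by
    rw [hR]; push_cast; field_simp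
  have f5 : ((q : ℚ) / r - 1) * K = ((q : ℚ) + δ) * (3 * q + δ) / (q * g) := by
    rw [show K = ((q : ℚ) + δ) * (4 * r) / (q * g) by
      rw [eq_div_iff (mul_ne_zero hq0 hgq)]; linear_combination hKq]
    field_simp
    linear_combination hqr
  rw [f1, f2, f3, f4, f5] at E1
  field_simp at E1
  have hz : (((δ * q - 1) * (q ^ 2 - 1) : ℤ) : ℚ) = 0 := by
    rw [show (g : ℚ) = (q : ℚ) ^ 2 + δ * q + 1 by exact_mod_cast hgv] at E1
    push_cast
    rcases h.hδ with e | e <;> subst e <;> push_cast at * <;> linear_combination E1 - (q : ℚ) * hqr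
  have hz' : (δ * q - 1) * (q ^ 2 - 1) = 0 := by exact_mod_cast hz
  rcases mul_eq_zero.1 hz' with e | e
  · rcases h.hδ with e' | e' <;> subst e' <;> omega
  · nlinarith

/-- The first absolute bound of the second branch. -/
theorem branch_two_le (h : Num q r δ) {B P g s t den : ℤ} (hg0 : 0 < g) (hden0 : den ≠ 0)
    (ht : t ≠ 0) (hP : P = (2 * r + δ) * g - δ + B) (hg : g = t * s)
    (hs : s + δ * (q + δ) = q ^ 2 * t) (h1 : B * den = 2 * r * q * t) :
    (2 * r + δ) * g ≤ 2 * |P| := by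
  have hr := h.hr
  have hq := h.q_large
  have hm := h.m_pos
  have hqr' := h.hq
  have hu : 0 < 2 * r + δ := by rcases h.hδ with e | e <;> omega
  have hat : 1 ≤ |t| := Int.one_le_abs ht
  have had : 1 ≤ |den| := Int.one_le_abs hden0
  have hδa : |δ| = 1 := by rcases h.hδ with e | e <;> rw [e] <;> norm_num
  have hq1 : q + δ ≤ q + 1 ∧ q ≤ 4 * r + 1 ∧ 4 * r - 1 ≤ q := by
    rcases h.hδ with e | e <;> omega
  have hsa : q ^ 2 - q - 1 ≤ |s| := by
    have h1 := abs_add_le s (δ * (q + δ))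
    rw [hs, abs_mul, abs_mul, hδa, abs_of_pos hm, abs_sq] at h1
    nlinarith [mul_le_mul_of_nonneg_left hat (sq_nonneg q)]
  have hgabs : g = |t| * |s| := by rw [← abs_mul, ← hg, abs_of_pos hg0]
  have hPd : |den| * ((2 * r + δ) * g) ≤ |den| * |P| + |den| + 2 * r * q * |t| := by
    have h2 : den * ((2 * r + δ) * g) = den * P + den * δ - B * den := by rw [hP]; ring
    have h3 := abs_sub (den * P + den * δ) (B * den)
    have h4 := abs_add_le (den * P) (den * δ)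
    rw [← h2, h1, abs_mul den, abs_of_pos (mul_pos hu hg0)] at h3
    rw [abs_mul, abs_mul, hδa, mul_one] at h4
    rw [abs_mul, abs_mul, abs_mul, abs_of_pos (by linarith : (0:ℤ) < 2),
      abs_of_pos (by linarith : 0 < r), abs_of_pos (by linarith : 0 < q)] at h3
    linarith
  have h2 : 8 * r * q ≤ (2 * r + δ) * |s| := by
    nlinarith [mul_le_mul (show 2 * r - 1 ≤ 2 * r + δ by rcases h.hδ with e | e <;> omega) hsa
      (by nlinarith) hu.le]
  have h3 : 8 * r * q * |t| ≤ (2 * r + δ) * g := by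
    rw [hgabs]
    nlinarith [mul_le_mul_of_nonneg_right h2 (abs_nonneg t)]
  have h4 : 4 ≤ (2 * r + δ) * g := by nlinarith
  have h5 : |den| * ((2 * r + δ) * g) * 1 ≤ |den| * (2 * |P|) := by
    nlinarith [mul_le_mul_of_nonneg_left h4 (abs_nonneg den),
      mul_le_mul_of_nonneg_right had (by linarith : (0:ℤ) ≤ (2 * r + δ) * g)]
  exact le_of_mul_le_mul_left (by linarith) (lt_of_lt_of_le one_pos had)

/-- The second absolute bound of the second branch. -/
theorem branch_two_ge (h : Num q r δ) {D2 t den : ℤ} (hden0 : den ≠ 0) (ht : t ≠ 0)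
    (hD2 : D2 = den * (-(q ^ 2 * t * (2 * r + δ)) - 2 * r * δ * (q + δ)) - q * (2 * r + δ) -
      (3 * q + δ) * (q + δ)) :
    (2 * r + δ) * (q ^ 2 - 4 * r - 7 * q - 2) ≤ |D2| := by
  have hr := h.hr
  have hq := h.q_large
  have hm := h.m_pos
  have hqr' := h.hq
  have hu : 0 < 2 * r + δ := by rcases h.hδ with e | e <;> omega
  have hat : 1 ≤ |t| := Int.one_le_abs ht
  have had : 1 ≤ |den| := Int.one_le_abs hden0
  have hδa : |δ| = 1 := by rcases h.hδ with e | e <;> rw [e] <;> norm_num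
  have hm2 : q + δ = 2 * (2 * r + δ) := by linarith
  set X := q ^ 2 * t * (2 * r + δ) + 2 * r * δ * (q + δ) with hX
  have hXa : (2 * r + δ) * (q ^ 2 - 4 * r) ≤ |X| := by
    have h2 := abs_add_le X (-(2 * r * δ * (q + δ)))
    rw [hX, add_neg_cancel_right, abs_neg, abs_mul, abs_mul, abs_sq, abs_mul, abs_mul, abs_mul,
      hδa, abs_of_pos hu, abs_of_pos hm, abs_of_pos (by linarith : 0 < r),
      abs_of_pos (by linarith : (0 : ℤ) < 2), hm2, ← hm2, ← hX] at h2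
    nlinarith [mul_le_mul_of_nonneg_left hat (mul_nonneg hu.le (sq_nonneg q))]
  have h3 : D2 = -(den * X) - (q * (2 * r + δ) + (3 * q + δ) * (q + δ)) := by rw [hD2, hX]; ring
  have h4 := abs_sub_abs_le_abs_sub (-(den * X)) (q * (2 * r + δ) + (3 * q + δ) * (q + δ))
  rw [← h3, abs_neg, abs_mul,
    abs_of_nonneg (by nlinarith : 0 ≤ q * (2 * r + δ) + (3 * q + δ) * (q + δ))] at h4
  have h5 : |X| ≤ |den| * |X| := le_mul_of_one_le_left (abs_nonneg X) had
  have h6 : (3 * q + δ) * (q + δ) ≤ (2 * r + δ) * (6 * q + 2) := by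
    rw [hm2]; rcases h.hδ with e | e <;> subst e <;> nlinarith
  nlinarith

/-- The second branch of the second triangular configuration. -/
theorem triangle_branch_two (h : Num q r δ) {K : ℚ} {A B P R g y s t : ℤ} (hg0 : 0 < g)
    (hB0 : B ≠ 0) (hA : A = δ - 2 * B) (hP : P = (2 * r + δ) * g - δ + B) (hP0 : P ≠ 0)
    (hR : R = -((2 * r + δ) * g))
    (hs : s + δ * (q + δ) = q ^ 2 * t) (hg : g = t * s) (hy : y = (q + δ) * s - q * g)
    (hBy : B * y = 2 * r * q * g)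
    (hKq : (q : ℚ) * K * g = ((q : ℚ) + δ) * (4 * r))
    (E1 : (q : ℚ) ^ 2 / A + ((2 * r : ℤ) : ℚ) ^ 2 / B + ((q : ℚ) + δ) ^ 2 / P +
      ((2 * r + δ : ℤ) : ℚ) ^ 2 / R = ((q : ℚ) / r - 1) * K) :
    False := by
  have hr := h.hr
  have hq := h.q_large
  have hm := h.m_pos
  have hqr' := h.hq
  have ht : t ≠ 0 := by rintro rfl; rw [hg] at hg0; simp at hg0
  have hs0 : s ≠ 0 := by rintro rfl; rw [hg] at hg0; simp at hg0
  set den := q + δ - q * t with hden
  have h1 : B * den = 2 * r * q * t := by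
    refine mul_left_cancel₀ hs0 ?_
    rw [hg] at hy hBy
    linear_combination hBy - B * hy
  have hden0 : den ≠ 0 := by
    intro e; rw [e, mul_zero] at h1
    exact (mul_ne_zero (mul_ne_zero (by omega : 2 * r ≠ 0) (by omega : q ≠ 0)) ht) h1.symm
  have hAd : A * den = -s := by
    rw [hA]; linear_combination (-2 : ℤ) * h1 + hs + q * t * hqr'
  have hA0 : A ≠ 0 := by
    intro e; rw [e, zero_mul] at hAd; exact hs0 (by linarith)
  have hr0 : (r : ℚ) ≠ 0 := by exact_mod_cast (by omega : r ≠ 0)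
  have hq0 : (q : ℚ) ≠ 0 := by exact_mod_cast (by omega : q ≠ 0)
  have hgq : (g : ℚ) ≠ 0 := by exact_mod_cast hg0.ne'
  have hsq : (s : ℚ) ≠ 0 := by exact_mod_cast hs0
  have htq : (t : ℚ) ≠ 0 := by exact_mod_cast ht
  have hAq : (A : ℚ) ≠ 0 := by exact_mod_cast hA0
  have hBq : (B : ℚ) ≠ 0 := by exact_mod_cast hB0
  have hPq : (P : ℚ) ≠ 0 := by exact_mod_cast hP0
  have hu : 0 < 2 * r + δ := by rcases h.hδ with e | e <;> omega
  have hu0 : (2 * (r : ℚ) + δ) ≠ 0 := by exact_mod_cast hu.ne'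
  have hmq : (q : ℚ) + δ ≠ 0 := by exact_mod_cast hm.ne'
  have hqr : (q : ℚ) = 4 * r + δ := by exact_mod_cast h.hq
  have hgQ : (g : ℚ) = t * s := by exact_mod_cast hg
  have f1 : (q : ℚ) ^ 2 / A = -((q : ℚ) ^ 2 * den / s) := by
    have hAdQ : (A : ℚ) * den = -s := by exact_mod_cast hAd
    field_simp
    linear_combination hAdQ
  have f2 : ((2 * r : ℤ) : ℚ) ^ 2 / B = 2 * (r : ℚ) * den / (q * t) := by
    have h1Q : (B : ℚ) * den = 2 * r * q * t := by exact_mod_cast h1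
    push_cast
    field_simp
    linear_combination -h1Q
  have f4 : ((2 * r + δ : ℤ) : ℚ) ^ 2 / R = -((2 * (r : ℚ) + δ) / g) := by
    rw [hR]; push_cast; field_simp
  have f5 : ((q : ℚ) / r - 1) * K = ((q : ℚ) + δ) * (3 * q + δ) / (q * g) := by
    rw [show K = ((q : ℚ) + δ) * (4 * r) / (q * g) by
      rw [eq_div_iff (mul_ne_zero hq0 hgq)]; linear_combination hKq]
    field_simp
    linear_combination hqr
  rw [f1, f2, f4, f5, hgQ] at E1
  field_simp at E1
  set D2 := den * (-(q ^ 2 * t * (2 * r + δ)) - 2 * r * δ * (q + δ)) - q * (2 * r + δ) -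
    (3 * q + δ) * (q + δ) with hD2
  have e : P * D2 = -(q * g * (q + δ) ^ 2) := by
    have : ((P * D2 : ℤ) : ℚ) = ((-(q * g * (q + δ) ^ 2) : ℤ) : ℚ) := by
      have hsQ : (s : ℚ) = (q : ℚ) ^ 2 * t - δ * ((q : ℚ) + δ) := by
        have : (s : ℚ) + δ * ((q : ℚ) + δ) = (q : ℚ) ^ 2 * t := by exact_mod_cast hs
        linarith
      rw [hD2]
      push_cast
      rw [hgQ]
      linear_combination E1 - 2 * (r : ℚ) * den * P * hsQ +
        ((q : ℚ) ^ 2 * den * P * t) * hqr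
    exact_mod_cast this
  -- bounds
  have hP2 := branch_two_le h hg0 hden0 ht hP hg hs h1
  have hD2a := branch_two_ge h hden0 ht hD2
  have habs : |P| * |D2| = q * g * (q + δ) ^ 2 := by
    rw [← abs_mul, e, abs_neg, abs_of_pos (mul_pos (mul_pos (by linarith) hg0) (by positivity))]
  have hfin : (2 * r + δ) * g * |D2| ≤ 2 * (q * g * (q + δ) ^ 2) := by
    rw [← habs]; nlinarith [mul_le_mul_of_nonneg_right hP2 (abs_nonneg D2)]
  have hm2 : q + δ = 2 * (2 * r + δ) := by linarith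
  rw [hm2] at hfin
  have hfin2 : |D2| ≤ 8 * q * (2 * r + δ) :=
    le_of_mul_le_mul_left (by nlinarith) (mul_pos hu hg0)
  have : q ^ 2 - 4 * r - 7 * q - 2 ≤ 8 * q :=
    le_of_mul_le_mul_left (by linarith) hu
  nlinarith

/-- The second triangular configuration is impossible. -/
theorem triangle_two (h : Num q r δ) {p k : ℕ} (hp : p.Prime) (hpk : q = ((p ^ k : ℕ) : ℤ))
    {K : ℚ} {A B D P R R2 f : ℤ} (hA0 : A ≠ 0) (hB0 : B ≠ 0) (hP0 : P ≠ 0) (hR0 : R ≠ 0)
    (hR20 : R2 ≠ 0) (hf : 0 < f) (hD : D = δ - A - B) (hs1 : A + B + P + R = 0)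
    (hs2 : A + D + P + R2 = 0) (hfd : f = δ + A + 2 * P) (hfm : q + δ ∣ f)
    (hA : A * (q + δ) ∣ q ^ 3 * f) (hB : B * (q + δ) ∣ q ^ 2 * (2 * r) * f)
    (hK : (q : ℚ) * K * f = ((q : ℚ) + δ) ^ 2 * (4 * r))
    (E0 : -(δ : ℚ) + (q : ℚ) ^ 2 / A + ((2 * r : ℤ) : ℚ) ^ 2 / B + ((2 * r : ℤ) : ℚ) ^ 2 / D =
      -δ * ((q : ℚ) + δ) * K)
    (E1 : (q : ℚ) ^ 2 / A + ((2 * r : ℤ) : ℚ) ^ 2 / B + ((q : ℚ) + δ) ^ 2 / P +
      ((2 * r + δ : ℤ) : ℚ) ^ 2 / R = ((q : ℚ) / r - 1) * K)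
    (E2 : (q : ℚ) ^ 2 / A + ((2 * r : ℤ) : ℚ) ^ 2 / D + ((q : ℚ) + δ) ^ 2 / P +
      ((2 * r + δ : ℤ) : ℚ) ^ 2 / R2 = ((q : ℚ) / r - 1) * K)
    (Ea : -1 - (δ : ℚ) * ((q : ℚ) ^ 2 / A + 2 * ((q : ℚ) + δ) ^ 2 / P) +
        9 * δ * ((q : ℚ) + δ) ^ 2 / f = -(4 * r) * K) :
    False := by
  have hm := h.m_pos
  have hr := h.hr
  have hqr' := h.hq
  have hq := h.q_large
  obtain ⟨g, hg⟩ := hfm
  have hg0 : 0 < g := pos_of_mul_pos_right (hg ▸ hf) hm.le
  have hgq : (g : ℚ) ≠ 0 := by exact_mod_cast hg0.ne'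
  have hfq : (f : ℚ) ≠ 0 := by exact_mod_cast hf.ne'
  have hr0 : (r : ℚ) ≠ 0 := by exact_mod_cast (by omega : r ≠ 0)
  have hq0 : (q : ℚ) ≠ 0 := by exact_mod_cast (by omega : q ≠ 0)
  have hmq : (q : ℚ) + δ ≠ 0 := by exact_mod_cast hm.ne'
  have hAq : (A : ℚ) ≠ 0 := by exact_mod_cast hA0
  have hBq : (B : ℚ) ≠ 0 := by exact_mod_cast hB0
  have hRq : (R : ℚ) ≠ 0 := by exact_mod_cast hR0
  have hR2q : (R2 : ℚ) ≠ 0 := by exact_mod_cast hR20
  have hδq : (δ : ℚ) * δ = 1 := by exact_mod_cast h.sq_one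
  have hqr : (q : ℚ) = 4 * r + δ := by exact_mod_cast h.hq
  have hfQ : (f : ℚ) = ((q : ℚ) + δ) * g := by exact_mod_cast hg
  have hK' : (q : ℚ) / r * K = 4 * (((q : ℚ) + δ) ^ 2 / f) := by
    field_simp
    linear_combination hK
  have hKq : (q : ℚ) * K * g = ((q : ℚ) + δ) * (4 * r) := by
    refine mul_left_cancel₀ hmq ?_
    rw [hfQ] at hK
    linear_combination hK
  -- the two small degrees coincide
  have e1 : ((2 * r + δ : ℤ) : ℚ) ^ 2 / R + ((2 * r + δ : ℤ) : ℚ) ^ 2 / R2 +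
      ((q : ℚ) + δ) ^ 2 / f = 0 := by
    linear_combination (δ : ℚ) * Ea + E1 + E2 - E0 + 2 * hK' +
      ((q : ℚ) ^ 2 / A + 2 * ((q : ℚ) + δ) ^ 2 / P - 9 * ((q : ℚ) + δ) ^ 2 / f + 2 * K) * hδq +
      ((δ : ℚ) * K) * hqr
  have hsum : R + R2 = -f := by linarith
  have e2 : f * (R + R2) + 4 * (R * R2) = 0 := by
    have hu : (((2 * r + δ : ℤ)) : ℚ) = ((q : ℚ) + δ) / 2 := by push_cast; linarith
    rw [hu] at e1
    field_simp at e1
    have : ((f * (R + R2) + 4 * (R * R2) : ℤ) : ℚ) = 0 := by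
      push_cast
      refine mul_left_cancel₀ (pow_ne_zero 2 hmq) ?_
      linear_combination e1
    exact_mod_cast this
  have hRR : R = R2 := by
    have : (R - R2) * (R - R2) = 0 := by
      linear_combination (R + R2) * hsum - e2
    linarith [mul_self_eq_zero.1 this]
  subst hRR
  have hR : R = -((2 * r + δ) * g) := by
    have : 2 * R = 2 * (-((2 * r + δ) * g)) := by linear_combination hsum - hg - g * hqr'
    linarith
  have hBD : B = D := by linarith
  subst hBD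
  have hAv : A = δ - 2 * B := by linarith
  have hPv : P = (2 * r + δ) * g - δ + B := by linarith
  -- integrality
  obtain ⟨a', ha'⟩ : A ∣ q ^ 3 * g := by
    refine (mul_dvd_mul_iff_right hm.ne').1 ?_
    rwa [show q ^ 3 * g * (q + δ) = q ^ 3 * f by rw [hg]; ring]
  obtain ⟨b', hb'⟩ : B ∣ q ^ 2 * (2 * r) * g := by
    refine (mul_dvd_mul_iff_right hm.ne').1 ?_
    rwa [show q ^ 2 * (2 * r) * g * (q + δ) = q ^ 2 * (2 * r) * f by rw [hg]; ring]
  have e3 : 4 * r * (2 * r * q * g) = B * (δ * q * g - a' - δ * (q + δ) ^ 2 * (4 * r)) := by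
    have haQ : (q : ℚ) ^ 2 / A = (a' : ℚ) / (q * g) := by
      rw [div_eq_div_iff hAq (mul_ne_zero hq0 hgq)]
      have : (q : ℚ) ^ 3 * g = A * a' := by exact_mod_cast ha'
      linear_combination this
    have : ((4 * r * (2 * r * q * g) : ℤ) : ℚ) =
        ((B * (δ * q * g - a' - δ * (q + δ) ^ 2 * (4 * r)) : ℤ) : ℚ) := by
      push_cast at E0 ⊢
      rw [haQ, show K = ((q : ℚ) + δ) * (4 * r) / (q * g) by
        rw [eq_div_iff (mul_ne_zero hq0 hgq)]; linear_combination hKq] at E0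
      field_simp at E0
      linear_combination E0
    exact_mod_cast this
  obtain ⟨y, hy⟩ : B ∣ 2 * r * q * g := by
    obtain ⟨c1, c2, hc⟩ := h.coprime_n
    refine ⟨c1 * b' + c2 * (δ * q * g - a' - δ * (q + δ) ^ 2 * (4 * r)), ?_⟩
    linear_combination c1 * hb' + c2 * e3 - 2 * r * q * g * hc
  have hy0 : y ≠ 0 := by
    rintro rfl
    rw [mul_zero] at hy
    exact (mul_ne_zero (mul_ne_zero (by omega : 2 * r ≠ 0) (by omega : q ≠ 0)) hg0.ne') hy
  have e4 : δ * q * g - a' - δ * (q + δ) ^ 2 * (4 * r) = 4 * r * y :=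
    mul_left_cancel₀ hB0 (by linear_combination (4 * r) * hy - e3)
  have hAy : A * y = δ * y - 4 * r * q * g := by rw [hAv]; linear_combination 2 * hy
  have e5 : (q * g + y) ^ 2 = (q + δ) ^ 2 * (4 * r * q * g - δ * y) := by
    refine mul_left_cancel₀ (mul_ne_zero (show 4 * r ≠ 0 by omega) (show δ ≠ 0 by
      rcases h.hδ with e | e <;> omega)) ?_
    have h6 : q ^ 3 * g * y = (δ * y - 4 * r * q * g) *
        (δ * q * g - δ * (q + δ) ^ 2 * (4 * r) - 4 * r * y) := by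
      rw [← hAy]; linear_combination y * ha' - (A * y) * e4
    rw [hqr'] at h6 ⊢
    linear_combination h6
  obtain ⟨s, hs⟩ : q + δ ∣ q * g + y :=
    (Int.pow_dvd_pow_iff two_ne_zero).1 (e5 ▸ dvd_mul_right _ _)
  have hs2' : s ^ 2 = 4 * r * q * g - δ * y := by
    rw [hs] at e5
    exact mul_left_cancel₀ (pow_ne_zero 2 hm.ne') (by linear_combination e5)
  have hprod : s * (s + δ * (q + δ)) = q ^ 2 * g := by
    linear_combination hs2' - δ * hs - (q * g) * hqr'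
  have hpi : Prime (p : ℤ) := Nat.prime_iff_prime_int.1 hp
  have hcop : ∀ w : ℤ, ¬ (p : ℤ) ∣ w → IsCoprime (q ^ 2) w := by
    intro w hw
    rw [hpk, Nat.cast_pow]
    exact ((hpi.coprime_iff_not_dvd.2 hw).pow_left).pow_left
  have hBy : B * y = 2 * r * q * g := hy.symm
  by_cases hps : (p : ℤ) ∣ s
  · have hnd : ¬ (p : ℤ) ∣ s + δ * (q + δ) := by
      intro hd
      have h1 : (p : ℤ) ∣ δ * (q + δ) := by simpa using dvd_sub hd hps
      rcases eq_or_ne k 0 with rfl | hk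
      · rw [hpk, pow_zero] at hq; norm_num at hq
      have h2 : (p : ℤ) ∣ q := by rw [hpk, Nat.cast_pow]; exact dvd_pow_self _ hk
      have h3 : (p : ℤ) ∣ 1 := by
        have h4 := dvd_sub h1 (h2.mul_left δ)
        rwa [show δ * (q + δ) - δ * q = 1 by linear_combination h.sq_one] at h4
      exact hpi.not_isUnit (isUnit_of_dvd_one h3)
    obtain ⟨t, ht⟩ : q ^ 2 ∣ s := (hcop _ hnd).dvd_of_dvd_mul_right ⟨g, hprod⟩
    refine triangle_branch_one h (g := g) (y := y) (t := t) hg0 hAv hPv hR ?_ ?_ hBy hKq E1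
    · refine mul_left_cancel₀ (pow_ne_zero 2 (show q ≠ 0 by omega)) ?_
      rw [ht] at hprod; linear_combination -hprod
    · rw [ht] at hs; linarith
  · obtain ⟨t, ht⟩ : q ^ 2 ∣ s + δ * (q + δ) := (hcop _ hps).dvd_of_dvd_mul_left ⟨g, hprod⟩
    refine triangle_branch_two h (g := g) (y := y) (s := s) (t := t) hg0 hB0 hAv hPv hP0 hR ht ?_
      (by linarith) hBy hKq E1
    refine mul_left_cancel₀ (pow_ne_zero 2 (show q ≠ 0 by omega)) ?_
    rw [ht] at hprod; linear_combination -hprod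

end CfsgLib.JankoThompson
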