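import Cfsg.Agent.JankoThompson.FixCases
import Mathlib

/-!
# The centraliser of an element of `C_r`, the action of the cycling element and fusion in `C_r`
-/

set_option autoImplicit false
set_option linter.unusedSectionVars false
set_option linter.style.haveILetI false

namespace CfsgLib.JankoThompson

open Matrix CfsgLib.ReeTypeS3
open scoped MatrixGroups

universe u v

variable {G : Type u} [Group G] [Fintype G] {F : Type v} [Field F] [Fintype F]

local notation "PST" => Matrix.ProjectiveSpecialLinearGroup (Fin 2) F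

variable {E : Emb G (Matrix.ProjectiveSpecialLinearGroup (Fin 2) F)}

namespace Cyc

variable (hyp : Hyp E) (c : Cyc E)

/-! ### The product of the four-group and `C_r` -/

/-- The product of the four-group and `C_r`. -/
def ECr : Subgroup G where
  carrier := {x | ∃ e, c.IsFour e ∧ ∃ b ∈ c.Cr, x = e * E.ι b}
  one_mem' := ⟨1, Or.inl rfl, 1, one_mem _, by rw [map_one, mul_one]⟩
  mul_mem' := by
    rintro _ _ ⟨e, he, b, hb, rfl⟩ ⟨e', he', b', hb', rfl⟩
    refine ⟨e * e', c.four_mul he he', b * b', mul_mem hb hb', ?_⟩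
    rw [map_mul, mul_assoc, ← mul_assoc (E.ι b), ← c.four_comm_Cr he' hb]
    group
  inv_mem' := by
    rintro _ ⟨e, he, b, hb, rfl⟩
    refine ⟨e, he, b⁻¹, inv_mem hb, ?_⟩
    rw [_root_.mul_inv_rev, c.four_inv he, ← map_inv, c.four_comm_Cr he (inv_mem hb)]

theorem mem_ECr {x : G} : x ∈ c.ECr ↔ ∃ e, c.IsFour e ∧ ∃ b ∈ c.Cr, x = e * E.ι b := Iff.rfl

theorem mul_mem_ECr {e : G} (he : c.IsFour e) {b : PST} (hb : b ∈ c.Cr) : e * E.ι b ∈ c.ECr :=
  ⟨e, he, b, hb, rfl⟩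

theorem four_mem_ECr {e : G} (he : c.IsFour e) : e ∈ c.ECr :=
  ⟨e, he, 1, one_mem _, by rw [map_one, mul_one]⟩

theorem ECr_comm_four {x e : G} (hx : x ∈ c.ECr) (he : c.IsFour e) : x * e = e * x := by
  obtain ⟨e', he', b, hb, rfl⟩ := hx
  have hee : e' * e = e * e' := by
    have h := c.four_sq (c.four_mul he' he)
    rwa [mul_eq_one_iff_eq_inv, _root_.mul_inv_rev, c.four_inv he, c.four_inv he'] at h
  rw [mul_assoc, ← c.four_comm_Cr he hb, ← mul_assoc, hee, mul_assoc]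

theorem ECr_comm_Cr {x : G} (hx : x ∈ c.ECr) {a : PST} (ha : a ∈ c.Cr) :
    x * E.ι a = E.ι a * x := by
  obtain ⟨e', he', b, hb, rfl⟩ := hx
  rw [mul_assoc, ← map_mul, tor_comm c.htr hb.1 ha.1, map_mul, ← mul_assoc,
    c.four_comm_Cr he' ha, mul_assoc]

/-- The parametrisation of `E × C_r`. -/
def ecrHom : c.fourG × c.Cr →* G where
  toFun p := (p.1 : G) * E.ι (p.2 : PST)
  map_one' := by
    show ((1 : c.fourG) : G) * E.ι ((1 : c.Cr) : PST) = 1
    simp
  map_mul' p p' := by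
    show ((p.1 * p'.1 : c.fourG) : G) * E.ι ((p.2 * p'.2 : c.Cr) : PST) = _
    rw [Subgroup.coe_mul, Subgroup.coe_mul, map_mul, mul_assoc, ← mul_assoc (p'.1 : G),
      c.four_comm_Cr p'.1.2 p.2.2]
    simp only [mul_assoc]

theorem ecrHom_apply (p : c.fourG × c.Cr) : c.ecrHom p = (p.1 : G) * E.ι (p.2 : PST) := rfl

include hyp

theorem natCard_ECr : Nat.card c.ECr = 4 * rOf F := by
  let φ : c.fourG × c.Cr → c.ECr := fun p =>
    ⟨(p.1 : G) * E.ι (p.2 : PST), c.mul_mem_ECr p.1.2 p.2.2⟩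
  rw [← Nat.card_eq_of_bijective φ ⟨?_, ?_⟩, Nat.card_prod, c.natCard_fourG, c.natCard_Cr]
  · rintro ⟨⟨e, he⟩, ⟨a, ha⟩⟩ ⟨⟨e', he'⟩, ⟨a', ha'⟩⟩ h
    obtain ⟨rfl, rfl⟩ := c.four_mul_Cr_inj hyp he he' ha ha' (congrArg Subtype.val h)
    rfl
  · rintro ⟨_, e, he, a, ha, rfl⟩
    exact ⟨⟨⟨e, he⟩, ⟨a, ha⟩⟩, rfl⟩

theorem four_of_sq {x : G} (hx : x ∈ c.ECr) (hxx : x * x = 1) : c.IsFour x := by
  obtain ⟨e, he, b, hb, rfl⟩ := hx
  rw [show e * E.ι b * (e * E.ι b) = e * (E.ι b * e) * E.ι b by group, ← c.four_comm_Cr he hb,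
    ← mul_assoc e e, c.four_sq he, one_mul, ← map_mul] at hxx
  rw [eq_one_of_sq hyp c hb (E.inj (hxx.trans (map_one E.ι).symm)), map_one, mul_one]
  exact he

/-! ### The automorphism induced by the cycling element -/

/-- The value of the automorphism. -/
noncomputable def autFun (a : c.Cr) : c.Cr :=
  ⟨(conj_Cr hyp c a.2).choose, (conj_Cr hyp c a.2).choose_spec.1⟩

theorem autFun_spec (a : c.Cr) :
    E.ι (autFun hyp c a : PST) = c.v * E.ι (a : PST) * c.v⁻¹ :=
  (conj_Cr hyp c a.2).choose_spec.2.symm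

/-- The automorphism of `C_r` induced by `v`. -/
noncomputable def aut : c.Cr →* c.Cr where
  toFun := autFun hyp c
  map_one' := Subtype.ext (E.inj (by
    rw [autFun_spec]
    simp))
  map_mul' a b := Subtype.ext (E.inj (by
    simp only [Subgroup.coe_mul, map_mul, autFun_spec]
    group))

theorem aut_spec (a : c.Cr) : E.ι (aut hyp c a : PST) = c.v * E.ι (a : PST) * c.v⁻¹ :=
  autFun_spec hyp c a

theorem aut_iterate (a : c.Cr) (k : ℕ) :
    E.ι (((aut hyp c)^[k] a : c.Cr) : PST) = c.v ^ k * E.ι (a : PST) * (c.v ^ k)⁻¹ := by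
  induction k with
  | zero => simp
  | succ k ih => rw [Function.iterate_succ_apply', aut_spec, ih, pow_succ']; group

theorem aut_cube (a : c.Cr) : aut hyp c (aut hyp c (aut hyp c a)) = a := by
  refine Subtype.ext (E.inj ?_)
  rw [show aut hyp c (aut hyp c (aut hyp c a)) = (aut hyp c)^[3] a from rfl, aut_iterate, c.v3,
    one_mul, inv_one, mul_one]

theorem aut_fixed {a : c.Cr} (h : aut hyp c a = a) : a = 1 :=
  Subtype.ext (eq_one_of_fixed hyp c a.2 (by rw [← aut_spec hyp c a, h]))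

theorem aut_ne_inv {a : c.Cr} (h : aut hyp c a = a⁻¹) : a = 1 := by
  have h' : aut hyp c (aut hyp c a) = a := by rw [h, map_inv, h, inv_inv]
  have h3 := aut_cube hyp c a
  rw [h'] at h3
  exact aut_fixed hyp c h3

theorem aut_injective : Function.Injective (aut hyp c) := fun x y h => by
  rw [← aut_cube hyp c x, h, aut_cube]

/-- The six images of a nontrivial element are distinct. -/
theorem iterate_cases {a : c.Cr} (ha : a ≠ 1) (k : ℕ) :
    ((aut hyp c)^[k] a = a → k % 3 = 0) ∧ (aut hyp c)^[k] a ≠ a⁻¹ := by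
  have hk : (aut hyp c)^[k] a = (aut hyp c)^[k % 3] a := by
    refine Subtype.ext (E.inj ?_)
    rw [aut_iterate, aut_iterate]
    have : c.v ^ k = c.v ^ (k % 3) := by
      conv_lhs => rw [← Nat.mod_add_div k 3, pow_add, pow_mul, c.v3, one_pow, mul_one]
    rw [this]
  rw [hk]
  have h3 := aut_cube hyp c a
  have hlt : k % 3 < 3 := Nat.mod_lt _ (by norm_num)
  rcases (by omega : k % 3 = 0 ∨ k % 3 = 1 ∨ k % 3 = 2) with h | h | h <;> rw [h]
  · refine ⟨fun _ => rfl, fun e => ha (Subtype.ext ?_)⟩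
    have e' : (a : PST) = (a : PST)⁻¹ := congrArg Subtype.val e
    exact eq_one_of_sq hyp c a.2 (eq_inv_iff_mul_eq_one.1 e')
  · exact ⟨fun e => absurd (aut_fixed hyp c e) ha, fun e => ha (aut_ne_inv hyp c e)⟩
  · constructor <;> intro e
    · replace e : aut hyp c (aut hyp c a) = a := e
      rw [e] at h3
      exact absurd (aut_fixed hyp c h3) ha
    · replace e : aut hyp c (aut hyp c a) = a⁻¹ := e
      rw [e, map_inv, inv_eq_iff_eq_inv] at h3
      exact ha (aut_ne_inv hyp c h3)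

include c in
theorem r_mod_three : rOf F % 3 = 1 := by
  haveI : Fact (Nat.Prime 3) := ⟨Nat.prime_three⟩
  let σ : MulAut c.Cr :=
    MulEquiv.ofBijective (aut hyp c) (Finite.injective_iff_bijective.1 (aut_injective hyp c))
  have hσ : σ ^ 3 = 1 := by
    ext x
    show ((σ * σ * σ) x : PST) = (x : PST)
    exact congrArg Subtype.val (aut_cube hyp c x)
  have h := card_mod_of_fpf σ hσ fun x hx => aut_fixed hyp c hx
  rwa [c.natCard_Cr] at h

include c in
theorem seven_le_r : 7 ≤ rOf F := by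
  have h1 := r_mod_three hyp c
  have h2 := Nat.odd_iff.1 (odd_r hyp.mod8)
  have h3 := three_le_r hyp.mod8
  omega

/-! ### Normalisers and centralisers -/

/-- An element normalising the four-group acts on `C_r` as a power of `v`, possibly inverted. -/
theorem norm_four {g : G} (h : c.IsFour (g * E.t * g⁻¹)) (h₁ : c.IsFour (g * c.t₁ * g⁻¹)) :
    ∃ k : ℕ, c.v ^ k * g ∈ c.ECr ∨
      ∀ a ∈ c.Cr, c.v ^ k * g * E.ι a * (c.v ^ k * g)⁻¹ = E.ι a⁻¹ := by
  obtain ⟨k, hk⟩ := c.four_to_t h (fun e => E.t_ne_one (conj_eq_one_iff.1 e))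
  refine ⟨k, ?_⟩
  obtain ⟨y, hy⟩ : ∃ y, y = c.v ^ k * g := ⟨_, rfl⟩
  rw [← hy]
  have hyt : y * E.t * y⁻¹ = E.t := by
    rw [hy]; refine Eq.trans ?_ hk; group
  have hy4 : c.IsFour (y * c.t₁ * y⁻¹) := by
    rw [hy, show c.v ^ k * g * c.t₁ * (c.v ^ k * g)⁻¹ = c.v ^ k * (g * c.t₁ * g⁻¹) * (c.v ^ k)⁻¹
      by group]
    exact c.four_conj_pow h₁ k
  obtain ⟨l, hl⟩ := E.cent y (mul_inv_eq_iff_eq_mul.1 hyt)
  have hfix : y * c.t₁ * y⁻¹ = c.t₁ := by
    rcases hy4 with e | e | e | e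
    · exact absurd (conj_eq_one_iff.1 e) c.t₁_ne_one
    · exact absurd (mul_left_cancel (mul_right_cancel (e.trans hyt.symm))) c.t₁_ne_t
    · exact e
    · exfalso
      rcases c.ht₁ with e₁ | e₁ <;> rw [e₁] at e
      · rw [E.conj_ι hl] at e
        exact E.ι_eq_t_mul_iff e
      · rw [show y * (E.t * E.ι c.i) * y⁻¹ = y * E.t * y⁻¹ * (y * E.ι c.i * y⁻¹) by group, hyt,
          E.conj_ι hl, ← mul_assoc E.t E.t, E.sq, one_mul] at e
        exact E.ι_eq_t_mul_iff e.symm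
  have hN := (c.commute_t₁_iff hl).1 (mul_inv_eq_iff_eq_mul.1 hfix)
  rcases torN_cases c.htr hN with hT | hT
  · left
    obtain ⟨b, hb, w, hw, rfl⟩ := tor_split hyp c hT
    rcases hl with e | e
    · exact ⟨E.ι w, c.four_of (Or.inl rfl) hw, b, hb, by rw [e, map_mul]⟩
    · exact ⟨E.t * E.ι w, c.four_of (Or.inr rfl) hw, b, hb, by rw [e, map_mul, mul_assoc]⟩
  · right
    intro a ha
    rw [E.conj_ι hl, hT a ha.1]

/-- The centraliser of a nontrivial element of `C_r`. -/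
theorem mem_ECr_of_commute {a : PST} (ha : a ∈ c.Cr) (ha1 : a ≠ 1) {x : G}
    (hx : x * E.ι a = E.ι a * x) : x ∈ c.ECr := by
  classical
  haveI : Fact (Nat.Prime 2) := ⟨Nat.prime_two⟩
  obtain ⟨X, hX⟩ : ∃ X : Subgroup G, X = Subgroup.centralizer ({E.ι a} : Set G) := ⟨_, rfl⟩
  have hmemX : ∀ z, z ∈ X ↔ z * E.ι a = E.ι a * z := fun z => by
    rw [hX, Subgroup.mem_centralizer_singleton_iff]
  have hECX : c.ECr ≤ X := fun z hz => (hmemX z).2 (c.ECr_comm_Cr hz ha)
  have hfX : ∀ {e}, c.IsFour e → e ∈ X := fun he => hECX (c.four_mem_ECr he)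
  have ht4 : c.IsFour E.t := Or.inr (Or.inl rfl)
  have ht₁4 : c.IsFour c.t₁ := Or.inr (Or.inr (Or.inl rfl))
  have hnorm : ∀ z ∈ X, c.IsFour (z * E.t * z⁻¹) → c.IsFour (z * c.t₁ * z⁻¹) → z ∈ c.ECr := by
    intro z hz h h₁
    have hza := mul_inv_eq_iff_eq_mul.2 ((hmemX z).1 hz)
    obtain ⟨k, hk⟩ := norm_four hyp c h h₁
    have hia : E.ι (((aut hyp c)^[k] ⟨a, ha⟩ : c.Cr) : PST) =
        c.v ^ k * z * E.ι a * (c.v ^ k * z)⁻¹ := by
      rw [aut_iterate, show c.v ^ k * z * E.ι a * (c.v ^ k * z)⁻¹ =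
        c.v ^ k * (z * E.ι a * z⁻¹) * (c.v ^ k)⁻¹ by group, hza]
    have hne : (⟨a, ha⟩ : c.Cr) ≠ 1 := fun e => ha1 (congrArg Subtype.val e)
    rcases hk with hk | hk
    · have hfix : (aut hyp c)^[k] ⟨a, ha⟩ = ⟨a, ha⟩ := Subtype.ext (E.inj (by
        rw [hia, c.ECr_comm_Cr hk ha, mul_inv_cancel_right]))
      have hk3 := (iterate_cases hyp c hne k).1 hfix
      have hvk : c.v ^ k = 1 := by
        rw [← Nat.mod_add_div k 3, hk3, zero_add, pow_mul, c.v3, one_pow]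
      rwa [hvk, one_mul] at hk
    · exact absurd (Subtype.ext (E.inj (hia.trans (hk a ha))))
        (iterate_cases hyp c hne k).2
  have htwo : ∀ P : Subgroup G, IsPGroup 2 P → P ≤ X → E.t ∈ P → ∀ z ∈ P, c.IsFour z := by
    intro P hP hPX htP z hz
    obtain ⟨hzz, hzt⟩ := two_group_facts hyp hP hz htP
    exact four_of_sq hyp c (cent_four hyp c ha ha1 ((hmemX z).1 (hPX hz)) ht4 E.t_ne_one hzt) hzz
  obtain ⟨T0, hT0⟩ : ∃ T0 : Subgroup X, T0 = c.fourG.subgroupOf X := ⟨_, rfl⟩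
  have hT0mem : ∀ z : X, z ∈ T0 ↔ c.IsFour (z : G) := fun z => by
    rw [hT0, Subgroup.mem_subgroupOf]; rfl
  have hp4 : IsPGroup 2 T0 := IsPGroup.of_card (n := 2) (by
    rw [hT0, Nat.card_congr (Subgroup.subgroupOfEquivOfLe (fun z hz => hfX hz)).toEquiv,
      c.natCard_fourG]
    norm_num)
  obtain ⟨T, hT⟩ := hp4.exists_le_sylow
  have hTeq : (T : Subgroup X) = T0 := by
    refine le_antisymm (fun z hz => (hT0mem z).2 ?_) hT
    exact htwo ((T : Subgroup X).map X.subtype) (T.2.map _) (Subgroup.map_subtype_le _)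
      ⟨⟨E.t, hfX ht4⟩, hT ((hT0mem _).2 ht4), rfl⟩ _ ⟨z, hz, rfl⟩
  have hN : Subgroup.normalizer ((T : Subgroup X) : Set X) ≤
      Subgroup.centralizer ((T : Subgroup X) : Set X) := by
    intro z hz
    rw [hTeq] at hz ⊢
    have hconj : ∀ {e}, ∀ he : c.IsFour e, c.IsFour ((z : G) * e * (z : G)⁻¹) := fun {e} he =>
      (hT0mem _).1 ((Subgroup.mem_normalizer_iff.1 hz ⟨e, hfX he⟩).1 ((hT0mem _).2 he))
    have hzE := hnorm z z.2 (hconj ht4) (hconj ht₁4)
    rw [Subgroup.mem_centralizer_iff]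
    intro w hw
    exact Subtype.ext (c.ECr_comm_four hzE ((hT0mem w).1 hw)).symm
  obtain ⟨O, hO⟩ : ∃ O : Subgroup X, O = (MonoidHom.transferSylow T hN).ker := ⟨_, rfl⟩
  haveI : O.Normal := hO ▸ inferInstance
  have hc : O.IsComplement' (T : Subgroup X) :=
    hO ▸ MonoidHom.ker_transferSylow_isComplement' T hN
  have hodd : Odd (Nat.card (O.map X.subtype)) := by
    rw [Subgroup.card_map_of_injective X.subtype_injective, ← Nat.not_even_iff_odd,
      even_iff_two_dvd, hO]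
    exact MonoidHom.not_dvd_card_ker_transferSylow T hN
  have hconjO : ∀ e, c.IsFour e → ∀ z ∈ O.map X.subtype, e * z * e ∈ O.map X.subtype := by
    rintro e he _ ⟨z, hz, rfl⟩
    refine ⟨⟨e, hfX he⟩ * z * ⟨e, hfX he⟩⁻¹, Subgroup.Normal.conj_mem inferInstance z hz _, ?_⟩
    show e * (z : G) * e⁻¹ = _
    rw [c.four_inv he]; rfl
  have hcentO : ∀ e, c.IsFour e → e ≠ 1 → ∀ z ∈ O.map X.subtype, z * e = e * z →
      z ∈ c.Cr.map E.ι := by
    intro e he he1 z hz hze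
    obtain ⟨e', he', b, hb, rfl⟩ :=
      cent_four hyp c ha ha1 ((hmemX z).1 (Subgroup.map_subtype_le _ hz)) he he1 hze
    have hpow : (e' * E.ι b) ^ Nat.card (O.map X.subtype) = 1 :=
      congrArg Subtype.val (pow_card_eq_one' (x := (⟨_, hz⟩ : (O.map X.subtype : Subgroup G))))
    rw [(show Commute e' (E.ι b) from c.four_comm_Cr he' hb).mul_pow] at hpow
    obtain ⟨j, hj⟩ := hodd
    rw [hj, pow_succ e', pow_mul, pow_two, c.four_sq he', one_pow, one_mul, ← map_pow] at hpow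
    obtain ⟨h1, -⟩ := c.four_mul_Cr_inj hyp he' (Or.inl rfl) (pow_mem hb _) (one_mem _)
      (by rw [hpow, map_one, mul_one])
    exact ⟨b, hb, by rw [h1, one_mul]⟩
  have hOle : O.map X.subtype ≤ c.ECr := by
    refine le_trans (le_of_four _ hodd (c.four_sq ht4) c.t₁_sq c.t₁_comm.symm (hconjO _ ht4)
      (hconjO _ ht₁4) (c.Cr.map E.ι) (hcentO _ ht4 E.t_ne_one) (hcentO _ ht₁4 c.t₁_ne_one)
      (hcentO _ (Or.inr (Or.inr (Or.inr rfl))) c.t_mul_t₁_ne_one) ?_) ?_
    · rintro _ ⟨b, hb, rfl⟩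
      exact ⟨(E.comm b).symm, c.Cr_comm_t₁ hb⟩
    · rintro _ ⟨b, hb, rfl⟩
      exact ⟨1, Or.inl rfl, b, hb, (one_mul _).symm⟩
  have hTle : (T : Subgroup X).map X.subtype ≤ c.ECr := by
    rintro _ ⟨z, hz, rfl⟩
    rw [hTeq] at hz
    exact c.four_mem_ECr ((hT0mem z).1 hz)
  have hle : (⊤ : Subgroup X).map X.subtype ≤ c.ECr := by
    rw [← hc.sup_eq_top, Subgroup.map_sup]
    exact sup_le hOle hTle
  exact hle ⟨⟨x, (hmemX x).2 hx⟩, Subgroup.mem_top _, rfl⟩

/-- Fusion in `C_r`. -/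
theorem conj_cases {a b : c.Cr} (_ha : a ≠ 1) (hb : b ≠ 1) {g : G}
    (hg : g * E.ι (a : PST) * g⁻¹ = E.ι (b : PST)) :
    ∃ k < 3, b = (aut hyp c)^[k] a ∨ b = ((aut hyp c)^[k] a)⁻¹ := by
  have hb1 : (b : PST) ≠ 1 := fun e => hb (Subtype.ext e)
  have hfour : ∀ e, c.IsFour e → c.IsFour (g * e * g⁻¹) := by
    intro e he
    refine four_of_sq hyp c (mem_ECr_of_commute hyp c b.2 hb1 ?_) ?_
    · rw [← hg]
      calc g * e * g⁻¹ * (g * E.ι (a : PST) * g⁻¹) = g * (e * E.ι (a : PST)) * g⁻¹ := by group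
        _ = _ := by rw [c.four_comm_Cr he a.2]; group
    · rw [show g * e * g⁻¹ * (g * e * g⁻¹) = g * (e * e) * g⁻¹ by group, c.four_sq he, mul_one,
        mul_inv_cancel]
  obtain ⟨k, hk⟩ := norm_four hyp c (hfour _ (Or.inr (Or.inl rfl)))
    (hfour _ (Or.inr (Or.inr (Or.inl rfl))))
  have hbk : E.ι (((aut hyp c)^[k] b : c.Cr) : PST) =
      c.v ^ k * g * E.ι (a : PST) * (c.v ^ k * g)⁻¹ := by
    rw [aut_iterate, ← hg]; group
  obtain ⟨j, hj3, hjk⟩ : ∃ j < 3, ∀ x : c.Cr, (aut hyp c)^[j] ((aut hyp c)^[k] x) = x := by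
    refine ⟨2 * k % 3, Nat.mod_lt _ (by norm_num), fun x => Subtype.ext (E.inj ?_)⟩
    rw [aut_iterate, aut_iterate, show c.v ^ (2 * k % 3) = (c.v ^ k)⁻¹ by
      rw [eq_inv_iff_mul_eq_one, ← pow_add, ← Nat.mod_add_div (2 * k % 3 + k) 3,
        show (2 * k % 3 + k) % 3 = 0 by omega, zero_add, pow_mul, c.v3, one_pow]]
    group
  refine ⟨j, hj3, ?_⟩
  rcases hk with hk | hk
  · left
    have : (aut hyp c)^[k] b = a := Subtype.ext (E.inj (by
      rw [hbk, c.ECr_comm_Cr hk a.2, mul_inv_cancel_right]))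
    rw [← this, hjk]
  · right
    have : (aut hyp c)^[k] b = a⁻¹ := Subtype.ext (E.inj (hbk.trans (hk _ a.2)))
    have h2 := congrArg ((aut hyp c)^[j]) this
    rw [hjk] at h2
    rw [h2]
    exact iterate_map_inv (aut hyp c) j a

open Classical in
/-- The number of elements conjugating `a` to `b`. -/
theorem natCard_conj_Cr {a b : c.Cr} (ha : a ≠ 1) (hb : b ≠ 1) :
    Nat.card {g : G // g * E.ι (a : PST) * g⁻¹ = E.ι (b : PST)} =
      4 * rOf F * ∑ k ∈ Finset.range 3,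
        ((if b = (aut hyp c)^[k] a then 1 else 0) + (if b = ((aut hyp c)^[k] a)⁻¹ then 1 else 0)) := by
  by_cases h : ∃ g : G, g * E.ι (a : PST) * g⁻¹ = E.ι (b : PST)
  · obtain ⟨g, hg⟩ := h
    have hcard : Nat.card {x : G // x * E.ι (a : PST) * x⁻¹ = E.ι (b : PST)} = 4 * rOf F := by
      rw [← natCard_ECr hyp c]
      have ha1 : (a : PST) ≠ 1 := fun e => ha (Subtype.ext e)
      refine Nat.card_congr
        { toFun := fun x => ⟨g⁻¹ * x.1, mem_ECr_of_commute hyp c a.2 ha1 ?_⟩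
          invFun := fun x => ⟨g * x.1, ?_⟩
          left_inv := fun x => Subtype.ext (mul_inv_cancel_left g x.1)
          right_inv := fun x => Subtype.ext (inv_mul_cancel_left g x.1) }
      · have hx : x.1 * E.ι (a : PST) * x.1⁻¹ = g * E.ι (a : PST) * g⁻¹ := x.2.trans hg.symm
        rw [← mul_inv_eq_iff_eq_mul]
        calc g⁻¹ * x.1 * E.ι (a : PST) * (g⁻¹ * x.1)⁻¹
            = g⁻¹ * (x.1 * E.ι (a : PST) * x.1⁻¹) * g := by group
          _ = _ := by rw [hx]; group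
      · rw [show g * x.1 * E.ι (a : PST) * (g * x.1)⁻¹ =
          g * (x.1 * E.ι (a : PST) * x.1⁻¹) * g⁻¹ by group,
          c.ECr_comm_Cr x.2 a.2, mul_inv_cancel_right, hg]
    rw [hcard]
    obtain ⟨k, hk3, hk⟩ := conj_cases hyp c ha hb hg
    have huniq : ∀ i < 3, (b = (aut hyp c)^[i] a ∨ b = ((aut hyp c)^[i] a)⁻¹) → i = k := by
      intro i hi hbi
      have hmove : ∀ (p q : ℕ), p < 3 → q < 3 →
          ((aut hyp c)^[p] a = (aut hyp c)^[q] a → p = q) ∧
          (aut hyp c)^[p] a ≠ ((aut hyp c)^[q] a)⁻¹ := by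
        intro p q hp hq
        obtain ⟨s, hs⟩ : ∃ s, (s + q) % 3 = 0 := ⟨2 * q, by omega⟩
        have hq0 : (aut hyp c)^[s + q] a = a := Subtype.ext (E.inj (by
          rw [aut_iterate, ← Nat.mod_add_div (s + q) 3, hs, zero_add, pow_mul, c.v3, one_pow]
          group))
        refine ⟨fun e => ?_, fun e => ?_⟩
        · have e' := congrArg ((aut hyp c)^[s]) e
          rw [← Function.iterate_add_apply, ← Function.iterate_add_apply, hq0] at e'
          have := (iterate_cases hyp c ha _).1 e'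
          omega
        · have e' := congrArg ((aut hyp c)^[s]) e
          rw [iterate_map_inv (aut hyp c), ← Function.iterate_add_apply,
            ← Function.iterate_add_apply, hq0] at e'
          exact (iterate_cases hyp c ha _).2 e'
      rcases hbi with e | e <;> rcases hk with e' | e'
      · exact (hmove i k hi hk3).1 (e.symm.trans e')
      · exact absurd (e.symm.trans e') (hmove i k hi hk3).2
      · exact absurd (e'.symm.trans e) (hmove k i hk3 hi).2
      · exact (hmove i k hi hk3).1 (inv_injective (e.symm.trans e'))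
    rw [Finset.sum_eq_single k]
    · have hne : (aut hyp c)^[k] a ≠ ((aut hyp c)^[k] a)⁻¹ := fun e => by
        have h1 := eq_one_of_sq hyp c ((aut hyp c)^[k] a).2
          (eq_inv_iff_mul_eq_one.1 (congrArg Subtype.val e))
        have h2 := aut_iterate hyp c a k
        rw [h1, map_one] at h2
        exact ha (Subtype.ext (E.inj ((conj_eq_one_iff.1 h2.symm).trans (map_one E.ι).symm)))
      rcases hk with e | e
      · rw [if_pos e, if_neg (fun e' => hne (e.symm.trans e')), add_zero, mul_one]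
      · rw [if_neg (fun e' => hne (e'.symm.trans e)), if_pos e, zero_add, mul_one]
    · intro i hi hik
      rw [if_neg (fun e => hik (huniq i (Finset.mem_range.1 hi) (Or.inl e))),
        if_neg (fun e => hik (huniq i (Finset.mem_range.1 hi) (Or.inr e))), add_zero]
    · exact fun hn => absurd (Finset.mem_range.2 hk3) hn
  · push Not at h
    haveI : IsEmpty {g : G // g * E.ι (a : PST) * g⁻¹ = E.ι (b : PST)} := ⟨fun g => h g.1 g.2⟩
    rw [Nat.card_of_isEmpty, Finset.sum_eq_zero, mul_zero]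
    intro k _
    rw [if_neg fun e => h (c.v ^ k) (by rw [e, aut_iterate]), if_neg ?_, add_zero]
    · intro e
      refine h (c.v ^ k * c.d) ?_
      have e2 : E.ι (b : PST) = c.v ^ k * E.ι (a : PST)⁻¹ * (c.v ^ k)⁻¹ := by
        rw [e, Subgroup.coe_inv, map_inv, aut_iterate, map_inv]; group
      rw [e2, show c.v ^ k * c.d * E.ι (a : PST) * (c.v ^ k * c.d)⁻¹ =
        c.v ^ k * (c.d * E.ι (a : PST) * c.d⁻¹) * (c.v ^ k)⁻¹ by group, c.d_tor a.2.1]

/-- The involutions inverting an element of `E × C_r` outside `E`. -/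
theorem inverting_ECr {e : G} (he : c.IsFour e) {a : PST} (ha : a ∈ c.Cr) (ha1 : a ≠ 1) {x : G}
    (hx : x * (e * E.ι a) * x⁻¹ = (e * E.ι a)⁻¹) : ∃ y ∈ c.ECr, x = y * c.d := by
  have hpow : (e * E.ι a) ^ (rOf F + 1) = E.ι a := by
    rw [(show Commute e (E.ι a) from c.four_comm_Cr he ha).mul_pow]
    obtain ⟨j, hj⟩ := odd_r hyp.mod8
    rw [show e ^ (rOf F + 1) = 1 by
      rw [hj, show 2 * j + 1 + 1 = 2 * (j + 1) by ring, pow_mul, pow_two, c.four_sq he, one_pow],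
      one_mul, ← map_pow, pow_succ, ha.2, one_mul]
  have hxa : x * E.ι a * x⁻¹ = (E.ι a)⁻¹ := by rw [← hpow, ← conj_pow, hx, inv_pow]
  refine ⟨x * c.d, mem_ECr_of_commute hyp c ha ha1 ?_, by rw [mul_assoc, c.dd, mul_one]⟩
  rw [← mul_inv_eq_iff_eq_mul, show x * c.d * E.ι a * (x * c.d)⁻¹ =
    x * (c.d * E.ι a * c.d⁻¹) * x⁻¹ by group, c.d_tor ha.1, map_inv,
    show x * (E.ι a)⁻¹ * x⁻¹ = (x * E.ι a * x⁻¹)⁻¹ by group, hxa, inv_inv]

end Cyc

end CfsgLib.JankoThompson
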