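import Cfsg.Agent.JankoThompson.Section
import Cfsg.Agent.JankoThompson.Structure
import Cfsg.Agent.ClassPairs.Basic
import Mathlib

/-!
# Pairs of involutions with given product, weighted sums over the columns
-/

set_option autoImplicit false
set_option linter.unusedSectionVars false
set_option linter.style.haveILetI false

namespace CfsgLib.JankoThompson

open Matrix CfsgLib.ReeTypeS3
open scoped MatrixGroups ComplexConjugate

universe u v

variable {G : Type u} [Group G] [Fintype G] {F : Type v} [Field F] [Fintype F]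

local notation "PST" => Matrix.ProjectiveSpecialLinearGroup (Fin 2) F
local notation "qC" => (Fintype.card F : ℂ)
local notation "qQ" => (Fintype.card F : ℚ)

noncomputable local instance (priority := high) instFintypePSTCounts :
    Fintype (Matrix.ProjectiveSpecialLinearGroup (Fin 2) F) := Fintype.ofFinite _

noncomputable local instance (priority := high) instFintypeSubCounts
    (H : Subgroup (Matrix.ProjectiveSpecialLinearGroup (Fin 2) F)) : Fintype H := Fintype.ofFinite _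

/-- The number of involutions whose product with `g` is an involution. -/
noncomputable def pairs (g : G) : ℕ :=
  Nat.card {x : G // (x ≠ 1 ∧ x * x = 1) ∧ (x * g ≠ 1 ∧ x * g * (x * g) = 1)}

variable (E : Emb G (Matrix.ProjectiveSpecialLinearGroup (Fin 2) F))

/-- The value at `t`. -/
noncomputable def Tz : Cfsg.IrrCharacter G → ℤ :=
  Pz E (⊥ : Subgroup (Matrix.ProjectiveSpecialLinearGroup (Fin 2) F)) 1

theorem cast_Tz (χ : Cfsg.IrrCharacter G) : (Tz E χ : ℂ) = (χ : G → ℂ) E.t := by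
  rw [Tz, cast_Pz, P, avg, Fintype.sum_eq_single 1 (fun h hh => absurd (Subsingleton.elim h 1) hh)]
  simp

/-- The factor `|C|² / |G|`. -/
noncomputable def Kq : ℚ :=
  (Nat.card (Subgroup.centralizer ({E.t} : Set G)) : ℚ) ^ 2 / (Nat.card G : ℚ)

/-- The weighted sum of a column. -/
noncomputable def tw (v : Cfsg.IrrCharacter G → ℤ) : ℚ :=
  ∑ χ, (v χ : ℚ) * (Tz E χ : ℚ) ^ 2 / (deg χ : ℚ)

theorem tw_add (v w : Cfsg.IrrCharacter G → ℤ) :
    tw E (fun χ => v χ + w χ) = tw E v + tw E w := by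
  simp only [tw, ← Finset.sum_add_distrib]
  exact Finset.sum_congr rfl fun χ _ => by push_cast; ring

theorem tw_sub (v w : Cfsg.IrrCharacter G → ℤ) :
    tw E (fun χ => v χ - w χ) = tw E v - tw E w := by
  simp only [tw, ← Finset.sum_sub_distrib]
  exact Finset.sum_congr rfl fun χ _ => by push_cast; ring

theorem tw_smul (n : ℤ) (v : Cfsg.IrrCharacter G → ℤ) :
    tw E (fun χ => n * v χ) = n * tw E v := by
  simp only [tw, Finset.mul_sum]
  exact Finset.sum_congr rfl fun χ _ => by push_cast; ring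

theorem sum_Pz (H : Subgroup PST) [IsCyclic H] (ν : H →* ℂˣ) (hν : Function.Injective ν)
    (χ : Cfsg.IrrCharacter G) :
    ∑ j ∈ Finset.range (Nat.card H), Pz E H (ν ^ j) χ = Tz E χ := by
  classical
  have h : ((∑ j ∈ Finset.range (Nat.card H), Pz E H (ν ^ j) χ : ℤ) : ℂ) = (Tz E χ : ℂ) := by
    rw [cast_Tz, Int.cast_sum]
    simp only [cast_Pz, P, avg, ← Finset.mul_sum]
    rw [Finset.sum_comm]
    simp only [← Finset.mul_sum, sum_range_pow hν, mul_ite, mul_zero, Finset.sum_ite_eq',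
      Finset.mem_univ, if_true, map_one, mul_one]
    rw [Nat.card_eq_fintype_card, mul_comm ((χ : G → ℂ) E.t), ← mul_assoc,
      inv_mul_cancel₀ (Nat.cast_ne_zero.2 Fintype.card_ne_zero), one_mul]
  exact_mod_cast h

variable {E} (hyp : Hyp E)
include hyp

/-- The number of conjugators of `t` to an involution. -/
theorem sum_conj_t {M : Type*} [AddCommMonoid M] (f : G → M) [DecidableEq G] :
    ∑ a : G, f (a * E.t * a⁻¹) =
      Nat.card (Subgroup.centralizer ({E.t} : Set G)) •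
        ∑ x with x ≠ 1 ∧ x * x = 1, f x := by
  classical
  rw [Finset.smul_sum, ← Finset.sum_fiberwise_of_maps_to (g := fun a : G => a * E.t * a⁻¹)
    (t := Finset.univ.filter fun x : G => x ≠ 1 ∧ x * x = 1)]
  · refine Finset.sum_congr rfl fun x hx => ?_
    simp only [Finset.mem_filter, Finset.mem_univ, true_and] at hx
    obtain ⟨g, hg⟩ := exists_to_t hyp hx.1 hx.2
    rw [Finset.sum_congr rfl fun a ha => show f (a * E.t * a⁻¹) = f x by
      rw [(Finset.mem_filter.1 ha).2], Finset.sum_const]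
    congr 1
    rw [← Fintype.card_subtype, ← Nat.card_eq_fintype_card]
    refine Nat.card_congr
      { toFun := fun a => ⟨g * a.1, Subgroup.mem_centralizer_singleton_iff.2 ?_⟩
        invFun := fun k => ⟨g⁻¹ * k.1, ?_⟩
        left_inv := fun a => Subtype.ext (inv_mul_cancel_left g a.1)
        right_inv := fun k => Subtype.ext (mul_inv_cancel_left g k.1) }
    · rw [← mul_inv_eq_iff_eq_mul, show g * a.1 * E.t * (g * a.1)⁻¹ =
        g * (a.1 * E.t * a.1⁻¹) * g⁻¹ by group, a.2, hg]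
    · rw [show g⁻¹ * k.1 * E.t * (g⁻¹ * k.1)⁻¹ = g⁻¹ * (k.1 * E.t * k.1⁻¹) * g by group,
        Subgroup.mem_centralizer_singleton_iff.1 k.2, mul_inv_cancel_right]
      calc g⁻¹ * E.t * g = g⁻¹ * (g * x * g⁻¹) * g := by rw [hg]
        _ = x := by group
  · intro a _
    simp only [Finset.mem_filter, Finset.mem_univ, true_and, Ne, conj_eq_one_iff]
    refine ⟨E.t_ne_one, ?_⟩
    rw [show a * E.t * a⁻¹ * (a * E.t * a⁻¹) = a * (E.t * E.t) * a⁻¹ by group, E.sq, mul_one,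
      mul_inv_cancel]

/-- The weighted column sum at any element counts the pairs of involutions. -/
theorem sum_col_Tz (g : G) :
    ∑ χ : Cfsg.IrrCharacter G, (χ : G → ℂ) g * ((Tz E χ : ℂ) ^ 2 / (deg χ : ℂ)) =
      (pairs g : ℂ) * (Kq E : ℂ) := by
  classical
  have h := ClassPairs.card_pairs E.t E.t ({g} : Finset G)
  set N := Nat.card (Subgroup.centralizer ({E.t} : Set G)) with hN
  have hleft : (∑ a : G, ∑ b : G, if a * E.t * a⁻¹ * (b * E.t * b⁻¹) ∈ ({g} : Finset G)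
      then (1 : ℂ) else 0) = (N : ℂ) ^ 2 * (pairs g : ℂ) := by
    rw [sum_conj_t hyp (fun x => ∑ b : G, if x * (b * E.t * b⁻¹) ∈ ({g} : Finset G)
      then (1 : ℂ) else 0)]
    rw [Finset.sum_congr rfl fun x _ => sum_conj_t hyp
      (fun y => if x * y ∈ ({g} : Finset G) then (1 : ℂ) else 0)]
    have hinner : ∀ x ∈ Finset.univ.filter (fun x : G => x ≠ 1 ∧ x * x = 1),
        (∑ y with y ≠ 1 ∧ y * y = 1, if x * y ∈ ({g} : Finset G) then (1 : ℂ) else 0) =
          if x * g ≠ 1 ∧ x * g * (x * g) = 1 then 1 else 0 := by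
      intro x hx
      simp only [Finset.mem_filter, Finset.mem_univ, true_and] at hx
      have hiff : ∀ y, x * y ∈ ({g} : Finset G) ↔ y = x * g := fun y => by
        rw [Finset.mem_singleton]
        constructor
        · rintro rfl; rw [← mul_assoc, hx.2, one_mul]
        · rintro rfl; rw [← mul_assoc, hx.2, one_mul]
      simp only [hiff, Finset.sum_ite_eq', Finset.mem_filter, Finset.mem_univ, true_and]
    simp only [nsmul_eq_mul, ← Finset.mul_sum]
    rw [Finset.sum_congr rfl hinner, Finset.sum_boole, Finset.filter_filter, ← hN,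
      ← Fintype.card_subtype, ← Nat.card_eq_fintype_card, pairs]
    ring
  rw [hleft] at h
  have hG : (Nat.card G : ℂ) ≠ 0 := Nat.cast_ne_zero.2 Nat.card_pos.ne'
  have h' : ((N : ℂ) ^ 2 / (Nat.card G : ℂ)) * (pairs g : ℂ) =
      ∑ χ : Cfsg.IrrCharacter G, conj ((χ : G → ℂ) g) * ((Tz E χ : ℂ) ^ 2 / (deg χ : ℂ)) := by
    rw [div_mul_eq_mul_div, h, mul_div_cancel_left₀ _ hG]
    refine Finset.sum_congr rfl fun χ _ => ?_
    rw [Finset.sum_singleton, cast_Tz, deg_spec, pow_two]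
  have h'' := congrArg conj h'
  simp only [map_mul, map_div₀, map_pow, map_natCast, map_sum, Complex.conj_conj, map_intCast] at h''
  rw [← h'', Kq]
  push_cast
  rw [← hN, mul_comm]

/-- The weighted sum of averages. -/
theorem tw_avg {H : Type*} [Group H] [Fintype H] (f : H →* G) (α : H →* ℂˣ) (e : G)
    {z : Cfsg.IrrCharacter G → ℤ} (hz : ∀ χ : Cfsg.IrrCharacter G, avg (χ : G → ℂ) f α e = (z χ : ℂ)) :
    ((tw E z : ℚ) : ℂ) = (Kq E : ℂ) / (Fintype.card H : ℂ) *
      ∑ h : H, (pairs (e * f h) : ℂ) * (((α h)⁻¹ : ℂˣ) : ℂ) := by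
  rw [tw]
  push_cast
  rw [Finset.sum_congr rfl (g := fun χ : Cfsg.IrrCharacter G => ∑ h : H,
    (Fintype.card H : ℂ)⁻¹ * ((((α h)⁻¹ : ℂˣ) : ℂ) *
      ((χ : G → ℂ) (e * f h) * ((Tz E χ : ℂ) ^ 2 / (deg χ : ℂ))))) fun χ _ => by
    rw [← hz, avg, mul_div_assoc, mul_assoc, Finset.sum_mul, Finset.mul_sum]
    exact Finset.sum_congr rfl fun h _ => by ring, Finset.sum_comm, Finset.mul_sum]
  refine Finset.sum_congr rfl fun h _ => ?_
  rw [← Finset.mul_sum, ← Finset.mul_sum, sum_col_Tz hyp]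
  simp only [Units.val_inv_eq_inv_val]
  ring

/-- Involutions whose product with an element of the section is an involution. -/
theorem pairs_section {h : PST} (hh : Odd (orderOf h)) :
    pairs (E.t * E.ι h) = 2 * Nat.card {l : PST // (l ≠ 1 ∧ l * l = 1) ∧ l * h * l⁻¹ = h⁻¹} := by
  have hflip : ∀ {x g : G}, x * x = 1 → x * g * (x * g) = 1 → x * g * x⁻¹ = g⁻¹ := fun {x g} hx hg => by
    rw [inv_eq_of_mul_eq_one_right hx]
    exact eq_inv_of_mul_eq_one_left (by rw [mul_assoc (x * g)]; exact hg)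
  have hmul : ∀ l : PST, (E.t * E.ι l) * (E.t * E.ι h) = E.ι (l * h) := fun l => by
    rw [mul_assoc, ← mul_assoc (E.ι l), ← E.comm, mul_assoc E.t (E.ι l), ← map_mul, ← mul_assoc, E.sq,
      one_mul]
  have hmul' : ∀ l : PST, E.ι l * (E.t * E.ι h) = E.t * E.ι (l * h) := fun l => by
    rw [← mul_assoc, ← E.comm, mul_assoc, ← map_mul]
  have hsq : ∀ y : PST, E.t * E.ι y * (E.t * E.ι y) = E.ι (y * y) := fun y => by
    rw [mul_assoc, ← mul_assoc (E.ι y), ← E.comm, mul_assoc E.t (E.ι y), ← map_mul, ← mul_assoc, E.sq,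
      one_mul]
  let S : Type v := {l : PST // (l ≠ 1 ∧ l * l = 1) ∧ l * h * l⁻¹ = h⁻¹}
  have hl : ∀ l : S, (l.1 * h) * (l.1 * h) = 1 ∧ l.1 * h ≠ 1 := by
    rintro ⟨l, ⟨hl1, hll⟩, hlh⟩
    rw [inv_eq_of_mul_eq_one_right hll] at hlh
    refine ⟨by rw [← mul_assoc, hlh, inv_mul_cancel], fun e => ?_⟩
    have e' : l = h⁻¹ := eq_inv_of_mul_eq_one_left e
    have h2 : h ^ 2 = 1 := by
      have : (h⁻¹) * h⁻¹ = 1 := by rw [← e']; exact hll
      rw [← _root_.mul_inv_rev, inv_eq_one] at this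
      rw [pow_two, this]
    have h1 : orderOf h = 1 := Nat.eq_one_of_dvd_coprimes (Nat.coprime_two_right.2 hh) dvd_rfl
      (orderOf_dvd_of_pow_eq_one h2)
    exact hl1 (by rw [e', orderOf_eq_one_iff.1 h1, inv_one])
  let φ : Bool × S → {x : G // (x ≠ 1 ∧ x * x = 1) ∧
      (x * (E.t * E.ι h) ≠ 1 ∧ x * (E.t * E.ι h) * (x * (E.t * E.ι h)) = 1)} := fun p =>
    ⟨(if p.1 then E.t else 1) * E.ι p.2.1, by
      obtain ⟨b, l⟩ := p
      have h1 := l.2.1
      obtain ⟨h2, h3⟩ := hl l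
      cases b
      · simp only [Bool.false_eq_true, if_false, one_mul]
        refine ⟨⟨fun e => h1.1 (E.inj (e.trans (map_one E.ι).symm)), by rw [← map_mul, h1.2, map_one]⟩,
          ?_, ?_⟩
        · rw [hmul']
          exact fun e => E.ι_eq_t_mul_iff (a := (1 : PST)) ((map_one E.ι).trans e.symm)
        · rw [hmul', hsq, h2, map_one]
      · simp only [if_true]
        refine ⟨⟨fun e => E.ι_eq_t_mul_iff (a := (1 : PST)) ((map_one E.ι).trans e.symm),
          by rw [hsq, h1.2, map_one]⟩, ?_, ?_⟩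
        · rw [hmul]
          exact fun e => h3 (E.inj (e.trans (map_one E.ι).symm))
        · rw [hmul, ← map_mul, h2, map_one]⟩
  rw [pairs, ← Nat.card_eq_of_bijective φ ⟨?_, ?_⟩, Nat.card_prod]
  · simp [S]
  · rintro ⟨b, l⟩ ⟨b', l'⟩ e
    have e' : (if b then E.t else 1) * E.ι l.1 = (if b' then E.t else 1) * E.ι l'.1 :=
      congrArg Subtype.val e
    cases b <;> cases b' <;> simp at e'
    · simp [Subtype.ext (E.inj e')]
    · exact absurd e' E.ι_eq_t_mul_iff
    · exact absurd e'.symm E.ι_eq_t_mul_iff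
    · simp [Subtype.ext (E.inj e')]
  · rintro ⟨x, ⟨hx1, hxx⟩, hg1, hgg⟩
    have hinv := hflip hxx hgg
    have hxt : x * E.t * x⁻¹ = E.t := by
      conv_lhs => rw [t_eq_pow E hh, ← conj_pow, hinv, inv_pow, ← t_eq_pow E hh]
      rw [E.t_inv]
    obtain ⟨l, hl'⟩ := E.cent x (mul_inv_eq_iff_eq_mul.1 hxt)
    have hll : l * l = 1 := E.inj (by
      rw [map_mul, map_one]
      rcases hl' with e | e
      · rw [← e, hxx]
      · rw [e, hsq, map_mul] at hxx; exact hxx)
    have hprod : l * h * (l * h) = 1 := E.inj (by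
      rw [map_one]
      rcases hl' with e | e
      · rw [e, hmul', hsq] at hgg; exact hgg
      · rw [e, hmul, ← map_mul] at hgg; exact hgg)
    have hlh : l * h * l⁻¹ = h⁻¹ := by
      rw [inv_eq_of_mul_eq_one_right hll]
      exact eq_inv_of_mul_eq_one_left (by rw [mul_assoc (l * h)]; exact hprod)
    have hl1 : l ≠ 1 := by
      intro e1
      rw [e1, map_one, mul_one] at hl'
      rcases hl' with e | e
      · exact hx1 e
      · rw [e1, one_mul, inv_one, mul_one] at hlh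
        have h2 : h ^ 2 = 1 := by rw [pow_two]; exact eq_inv_iff_mul_eq_one.1 hlh
        have h1 : orderOf h = 1 := Nat.eq_one_of_dvd_coprimes (Nat.coprime_two_right.2 hh) dvd_rfl
          (orderOf_dvd_of_pow_eq_one h2)
        exact hg1 (by rw [e, orderOf_eq_one_iff.1 h1, map_one, mul_one, E.sq])
    rcases hl' with e | e
    · exact ⟨(false, ⟨l, ⟨hl1, hll⟩, hlh⟩), Subtype.ext (by simp [φ, e])⟩
    · exact ⟨(true, ⟨l, ⟨hl1, hll⟩, hlh⟩), Subtype.ext (by simp [φ, e])⟩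

theorem pairs_t : pairs E.t = 2 * (Fintype.card F * uOf F) := by
  have h := pairs_section hyp (h := (1 : PST)) (by rw [orderOf_one]; exact odd_one)
  rw [map_one, mul_one] at h
  rw [h, ← natCard_involutions hyp.mod8]
  congr 1
  exact Nat.card_congr (Equiv.subtypeEquivRight fun l => by simp)

/-- Involutions whose product with an element of `E × C_r` outside `E` is an involution. -/
theorem pairs_ECr (c : Cyc E) {e : G} (he : c.IsFour e) {a : PST} (ha : a ∈ c.Cr) (ha1 : a ≠ 1) :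
    pairs (e * E.ι a) = 4 * rOf F := by
  have hdmove : ∀ {y : G}, y ∈ c.ECr → y * c.d * (e * E.ι a) = y * e * E.ι a⁻¹ * c.d := fun {y} _ => by
    rw [mul_assoc y c.d, ← mul_assoc c.d, ← c.four_comm_d he, mul_assoc e c.d]
    have : c.d * E.ι a = E.ι a⁻¹ * c.d := by
      have h := c.d_Cr (inv_mem ha); rw [inv_inv] at h; exact h.symm
    rw [this]; group
  have hsq : ∀ {y : G}, y ∈ c.ECr → y * c.d * (y * c.d) = 1 := by
    rintro _ ⟨e', he', b, hb, rfl⟩
    calc e' * E.ι b * c.d * (e' * E.ι b * c.d) = e' * (E.ι b * c.d) * e' * (E.ι b * c.d) := by group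
      _ = e' * (c.d * E.ι b⁻¹) * e' * (E.ι b * c.d) := by rw [c.d_Cr hb]
      _ = e' * c.d * (E.ι b⁻¹ * e') * (E.ι b * c.d) := by group
      _ = e' * c.d * (e' * E.ι b⁻¹) * (E.ι b * c.d) := by rw [c.four_comm_Cr he' (inv_mem hb)]
      _ = e' * (c.d * e') * c.d := by rw [map_inv]; group
      _ = 1 := by rw [← c.four_comm_d he', ← mul_assoc, c.four_sq he', one_mul, c.dd]
  have hne : ∀ {y : G}, y ∈ c.ECr → y * c.d ≠ 1 := fun {y} hy h => by
    have h1 : c.d ∈ c.ECr := by rw [eq_inv_of_mul_eq_one_right h]; exact inv_mem hy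
    exact c.d_not_four (Cyc.four_of_sq hyp c h1 c.dd)
  let φ : c.ECr → {x : G // (x ≠ 1 ∧ x * x = 1) ∧
      (x * (e * E.ι a) ≠ 1 ∧ x * (e * E.ι a) * (x * (e * E.ι a)) = 1)} := fun y =>
    ⟨(y : G) * c.d, ⟨hne y.2, hsq y.2⟩, by
      rw [hdmove y.2]
      have h : (y : G) * e * E.ι a⁻¹ ∈ c.ECr := by
        rw [mul_assoc]; exact mul_mem y.2 (c.mul_mem_ECr he (inv_mem ha))
      exact ⟨hne h, hsq h⟩⟩
  rw [pairs, ← Nat.card_eq_of_bijective φ ⟨?_, ?_⟩, Cyc.natCard_ECr hyp c]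
  · intro y y' h
    exact Subtype.ext (mul_right_cancel (congrArg Subtype.val h))
  · rintro ⟨x, ⟨hx1, hxx⟩, hg1, hgg⟩
    obtain ⟨y, hy, rfl⟩ := Cyc.inverting_ECr hyp c he ha ha1 (x := x) (by
      rw [inv_eq_of_mul_eq_one_right hxx]
      exact eq_inv_of_mul_eq_one_left (by rw [mul_assoc (x * _)]; exact hgg))
    exact ⟨⟨y, hy⟩, rfl⟩

/-- A column all whose nontrivial elements have the same number of pairs. -/
theorem tw_Pz (H : Subgroup PST) (α : H →* ℂˣ) [Decidable (α = 1)] {n : ℕ}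
    (hn : ∀ h : H, h ≠ 1 → pairs (E.t * E.ι (h : PST)) = n) :
    tw E (Pz E H α) = Kq E * ((2 * (Fintype.card F * uOf F) - n : ℚ) / (Nat.card H : ℚ) +
      (n : ℚ) * if α = 1 then 1 else 0) := by
  classical
  have h1 := tw_avg hyp (E.ι.comp H.subtype) α E.t (z := Pz E H α) fun χ => (cast_Pz E H α χ).symm
  have hsum : ∑ h : H, (pairs (E.t * (E.ι.comp H.subtype) h) : ℂ) * (((α h)⁻¹ : ℂˣ) : ℂ) =
      (2 * (qC * (uOf F : ℂ)) - (n : ℂ)) + (n : ℂ) * if α = 1 then (Fintype.card H : ℂ) else 0 := by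
    have hh : ∀ h : H, (pairs (E.t * (E.ι.comp H.subtype) h) : ℂ) * (((α h)⁻¹ : ℂˣ) : ℂ) =
        (if h = 1 then 2 * (qC * (uOf F : ℂ)) - (n : ℂ) else 0) +
          (n : ℂ) * (((α⁻¹ : H →* ℂˣ) h : ℂˣ) : ℂ) := by
      intro h
      rw [MonoidHom.inv_apply, MonoidHom.comp_apply, Subgroup.coe_subtype]
      by_cases e : h = 1
      · rw [if_pos e, e, OneMemClass.coe_one, map_one, mul_one, pairs_t hyp, map_one, inv_one,
          Units.val_one]
        push_cast; ring
      · rw [if_neg e, hn h e, zero_add]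
    rw [Finset.sum_congr rfl fun h _ => hh h, Finset.sum_add_distrib, Finset.sum_ite_eq',
      if_pos (Finset.mem_univ _), ← Finset.mul_sum, ReeTypeS3.sum_hom]
    congr 2
    exact if_congr ⟨fun e => MonoidHom.ext fun x => inv_eq_one.1 (DFunLike.congr_fun e x),
      fun e => MonoidHom.ext fun x => by simp [e]⟩ rfl rfl
  rw [hsum] at h1
  refine (Rat.cast_injective (α := ℂ)) ?_
  rw [h1, Nat.card_eq_fintype_card (α := H)]
  have hH : (Fintype.card H : ℂ) ≠ 0 := Nat.cast_ne_zero.2 Fintype.card_ne_zero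
  split_ifs <;> push_cast <;> field_simp <;> ring

variable (D : Dat E)

theorem odd_of_mem {H : Subgroup PST} (hH : Odd (Nat.card H)) (h : H) : Odd (orderOf (h : PST)) :=
  ReeTypeS3.odd_orderOf hH h

theorem tw_Pz_Cr (μ : D.c.Cr →* ℂˣ) [Decidable (μ = 1)] :
    tw E (Pz E D.c.Cr μ) = Kq E * ((2 * (Fintype.card F * uOf F) - 4 * rOf F : ℚ) / (rOf F : ℚ) +
      4 * (rOf F : ℚ) * if μ = 1 then 1 else 0) := by
  rw [tw_Pz hyp D.c.Cr μ (n := 4 * rOf F) fun h hh => pairs_ECr hyp D.c (Or.inr (Or.inl rfl)) h.2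
    fun e => hh (Subtype.ext e), D.c.natCard_Cr]
  push_cast; ring

theorem tw_Pz_g₁ (τ : tor D.g₁ →* ℂˣ) [Decidable (τ = 1)] :
    tw E (Pz E (tor D.g₁) τ) = Kq E * ((2 * (Fintype.card F * uOf F) - 2 * uOf F : ℚ) / (uOf F : ℚ) +
      2 * (uOf F : ℚ) * if τ = 1 then 1 else 0) := by
  rw [tw_Pz hyp (tor D.g₁) τ (n := 2 * uOf F) fun h hh => ?_, D.card₁]
  · push_cast; ring
  · have ho := odd_of_mem hyp (Dat.odd_g₁ D hyp) h
    rw [pairs_section hyp ho, natCard_inverting_tor hyp.mod8 D.htr₁ h.2 ?_, D.card₁]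
    intro e
    have h1 : orderOf (h : PST) = 1 := Nat.eq_one_of_dvd_coprimes (Nat.coprime_two_right.2 ho) dvd_rfl
      (orderOf_dvd_of_pow_eq_one ((pow_two _).trans e))
    exact hh (Subtype.ext (orderOf_eq_one_iff.1 h1))

theorem lam_ne_one {e : F} (he : e ≠ 0) : lam e ≠ (1 : subQ (F := F) →* ℂˣ) := by
  intro h
  refine AddChar.FiniteField.primitiveChar_to_Complex_isPrimitive F he (DFunLike.ext _ _ fun x => ?_)
  rw [AddChar.mulShift_apply, AddChar.one_apply, ← lam_apply e x (uQ_mem _), h, MonoidHom.one_apply,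
    Units.val_one]

theorem tw_Pz_subQ {e : F} (he : e ≠ 0) :
    tw E (Pz E (subQ (F := F)) (lam e)) =
      Kq E * (2 * (uOf F : ℚ) - 1 - (sg F : ℚ)) := by
  classical
  rw [tw_Pz hyp (subQ (F := F)) (lam e) (n := if Fintype.card F % 8 = 5 then 2 * Fintype.card F else 0)
    fun h hh => ?_, if_neg (lam_ne_one hyp he), natCard_subQ, Nat.card_eq_fintype_card]
  · have h0 : qQ ≠ 0 := Nat.cast_ne_zero.2 Fintype.card_ne_zero
    rcases hyp.mod8.2 with h8 | h8
    · rw [if_neg (by omega), show sg F = -1 by unfold sg; rw [if_pos h8]]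
      push_cast; field_simp; ring
    · rw [if_pos h8, show sg F = 1 by unfold sg; rw [if_neg (by omega)]]
      push_cast; field_simp; ring
  · have ho := odd_of_mem hyp (Dat.odd_subQ' hyp) h
    rw [pairs_section hyp ho, natCard_inverting_subQ hyp.mod8 h.2 fun e => hh (Subtype.ext e)]
    split_ifs <;> ring

theorem tw_vE : tw E D.vE = 0 := by
  unfold Dat.vE
  rw [tw_sub, tw_Pz_subQ hyp one_ne_zero, tw_Pz_subQ hyp D.ns_ne_zero, sub_self]

theorem tw_vN : tw E D.vN = Kq E * (4 * (uOf F : ℚ) - 2 - 2 * (sg F : ℚ)) := by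
  unfold Dat.vN
  rw [tw_add, tw_Pz_subQ hyp one_ne_zero, tw_Pz_subQ hyp D.ns_ne_zero]
  ring

theorem uQ_eq : (uOf F : ℚ) = 2 * (rOf F : ℚ) + (sg F : ℚ) ∧ qQ = 4 * (rOf F : ℚ) + (sg F : ℚ) ∧
    (sg F : ℚ) * (sg F : ℚ) = 1 := by
  refine ⟨by exact_mod_cast u_eq hyp.mod8, by exact_mod_cast q_eq hyp.mod8, ?_⟩
  rcases sg_cases (F := F) with e | e <;> rw [e] <;> norm_num

theorem tw_vP (μ : D.c.Cr →* ℂˣ) [Decidable (μ = 1)] :
    tw E (D.vP μ) = Kq E * (2 * qQ / (rOf F : ℚ) +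
      4 * (rOf F : ℚ) * (sg F : ℚ) * if μ = 1 then 1 else 0) := by
  obtain ⟨hu, hq, hs⟩ := uQ_eq hyp
  have hr : (rOf F : ℚ) ≠ 0 := Nat.cast_ne_zero.2 (by have := three_le_r hyp.mod8; omega)
  unfold Dat.vP
  rw [tw_smul, tw_sub, tw_smul, tw_Pz_Cr hyp D, tw_vN hyp D]
  push_cast
  rw [hu, hq]
  split_ifs <;> field_simp <;>
    linear_combination (2 * Kq E * ((4 * (rOf F : ℚ) + (sg F : ℚ)))) * hs

theorem tw_vZ (τ : tor D.g₁ →* ℂˣ) [Decidable (τ = 1)] :
    tw E (D.vZ τ) = -Kq E * ((sg F : ℚ) * (2 * (uOf F : ℚ)) * if τ = 1 then 1 else 0) := by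
  obtain ⟨hu, hq, hs⟩ := uQ_eq hyp
  have hu0 : (uOf F : ℚ) ≠ 0 := Nat.cast_ne_zero.2 (by have := five_le_u hyp.mod8; omega)
  unfold Dat.vZ
  rw [tw_smul, tw_sub, tw_Pz_g₁ hyp D, tw_vN hyp D]
  push_cast
  rw [show (2 * (qQ * (uOf F : ℚ)) - 2 * (uOf F : ℚ)) / (uOf F : ℚ) = 2 * qQ - 2 by field_simp]
  rw [hu, hq]
  split_ifs <;> ring

end CfsgLib.JankoThompson
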