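import Cfsg.Agent.JankoThompson.Local
import Mathlib

/-!
# The four-group, its cycling element, the fixed involution and the odd part of the torus
-/

set_option autoImplicit false
set_option linter.unusedSectionVars false
set_option linter.style.haveILetI false

namespace CfsgLib.JankoThompson

open Matrix CfsgLib.ReeTypeS3
open scoped MatrixGroups

universe u v

variable {G : Type u} [Group G] [Fintype G] {F : Type v} [Field F] [Fintype F]

local notation "PST" => Matrix.ProjectiveSpecialLinearGroup (Fin 2) F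

/-- An element of order three cycling a four-group through `t`, with a fixed involution `d`
inverting the torus of the four-group. -/
structure Cyc (E : Emb G (Matrix.ProjectiveSpecialLinearGroup (Fin 2) F)) where
  /-- The cycling element. -/
  v : G
  /-- The second involution. -/
  t₁ : G
  /-- The involution of `L`. -/
  i : Matrix.ProjectiveSpecialLinearGroup (Fin 2) F
  /-- A matrix whose torus contains it. -/
  g : SL(2, F)
  /-- The involution fixed by `v`. -/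
  d : G
  v3 : v ^ 3 = 1
  v1 : v ≠ 1
  i1 : i ≠ 1
  ii : i * i = 1
  ht₁ : t₁ = E.ι i ∨ t₁ = E.t * E.ι i
  hv : v * E.t * v⁻¹ = t₁
  hv₁ : v * t₁ * v⁻¹ = E.t * t₁
  htr : SL2Tori.tr g ^ 2 ≠ 4
  card_tor : Nat.card (tor g) = 2 * rOf F
  mem : i ∈ tor g
  cent : ∀ l : Matrix.ProjectiveSpecialLinearGroup (Fin 2) F, l * i = i * l ↔ l ∈ torN g
  dd : d * d = 1
  dt : d * E.t = E.t * d
  dt₁ : d * t₁ = t₁ * d
  dv : v * d * v⁻¹ = d
  d1 : d ≠ 1

variable {E : Emb G (Matrix.ProjectiveSpecialLinearGroup (Fin 2) F)}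

theorem exists_cyc (hyp : Hyp E) : Nonempty (Cyc E) := by
  classical
  haveI : Fact (Nat.Prime 3) := ⟨Nat.prime_three⟩
  obtain ⟨S, -⟩ : ∃ S : Sylow 2 G, True := ⟨Classical.arbitrary _, trivial⟩
  obtain ⟨hC, hN, -⟩ := main_involutions hyp S
  obtain ⟨hS8, hsq⟩ := sylow_two hyp S
  have hcomm : ∀ {x y : G}, x ∈ (S : Subgroup G) → y ∈ (S : Subgroup G) → x * y = y * x :=
    fun hx hy => (two_group_facts hyp S.2 hx hy).2
  obtain ⟨⟨v, hvN⟩, hv⟩ := exists_prime_orderOf_dvd_card' (G := Subgroup.normalizer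
    ((S : Subgroup G) : Set G)) 3 (by rw [hN]; norm_num)
  rw [Subgroup.orderOf_mk] at hv
  have hv3 : v ^ 3 = 1 := hv ▸ pow_orderOf_eq_one v
  have hv1 : v ≠ 1 := fun h => by rw [h, orderOf_one] at hv; omega
  have hvS : v ∉ (S : Subgroup G) := fun h => by
    have := hsq v h
    rw [pow_succ, pow_two, this, one_mul] at hv3
    exact hv1 hv3
  obtain ⟨s, hs, hmove⟩ : ∃ s ∈ (S : Subgroup G), v * s * v⁻¹ ≠ s := by
    by_contra h
    push Not at h
    refine hvS (hC ▸ Subgroup.mem_centralizer_iff.2 fun s hs => ?_)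
    exact (mul_inv_eq_iff_eq_mul.1 (h s hs)).symm
  have hsS : ∀ y ∈ (S : Subgroup G), v * y * v⁻¹ ∈ (S : Subgroup G) := fun y hy =>
    (Subgroup.mem_normalizer_iff.1 hvN y).1 hy
  obtain ⟨x, hx⟩ : ∃ x, x = s * (v * s * v⁻¹) := ⟨_, rfl⟩
  have hxS : x ∈ (S : Subgroup G) := hx ▸ mul_mem hs (hsS s hs)
  have hxx := hsq x hxS
  have hx1 : x ≠ 1 := fun h => hmove (by
    rw [hx, mul_eq_one_iff_eq_inv] at h
    exact (inv_inv (v * s * v⁻¹)).symm.trans
      ((congrArg (·⁻¹) h.symm).trans (inv_eq_of_mul_eq_one_right (hsq s hs))))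
  have hx₁S : v * x * v⁻¹ ∈ (S : Subgroup G) := hsS x hxS
  have hprod : v * (v * x * v⁻¹) * v⁻¹ = x * (v * x * v⁻¹) := by
    have h3 : v * (v * (v * s * v⁻¹) * v⁻¹) * v⁻¹ = s := by
      rw [show v * (v * (v * s * v⁻¹) * v⁻¹) * v⁻¹ = v ^ 3 * s * (v ^ 3)⁻¹ by
        simp only [pow_succ, pow_zero, one_mul, _root_.mul_inv_rev, mul_assoc], hv3]
      group
    obtain ⟨a, ha⟩ : ∃ a, a = v * s * v⁻¹ := ⟨_, rfl⟩
    obtain ⟨b, hb⟩ : ∃ b, b = v * a * v⁻¹ := ⟨_, rfl⟩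
    have haS : a ∈ (S : Subgroup G) := ha ▸ hsS s hs
    have hbS : b ∈ (S : Subgroup G) := hb ▸ hsS a haS
    have e1 : v * x * v⁻¹ = a * b := by
      rw [hx, hb, ha, show v * (s * (v * s * v⁻¹)) * v⁻¹ =
        (v * s * v⁻¹) * (v * (v * s * v⁻¹) * v⁻¹) by group]
    have e2 : v * (a * b) * v⁻¹ = b * s := by
      have h3' : v * b * v⁻¹ = s := by rw [hb, ha]; exact h3
      rw [show v * (a * b) * v⁻¹ = (v * a * v⁻¹) * (v * b * v⁻¹) by group, ← hb, h3']
    rw [e1, e2, hx, ← ha, show s * a * (a * b) = s * (a * a) * b by group, hsq a haS, mul_one,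
      hcomm hbS hs]
  have hx₁x : v * x * v⁻¹ ≠ x := fun h => by
    rw [h, hxx, h] at hprod
    exact hx1 hprod
  -- the fixed involution
  obtain ⟨d, hdS, hd1, hdv⟩ : ∃ d ∈ (S : Subgroup G), d ≠ 1 ∧ v * d * v⁻¹ = d := by
    let σ : Equiv.Perm (S : Subgroup G) := Equiv.ofBijective
      (fun y => ⟨v * y.1 * v⁻¹, hsS _ y.2⟩) (Finite.injective_iff_bijective.1 fun a b h =>
        Subtype.ext (mul_left_cancel (mul_right_cancel (congrArg Subtype.val h))))
    have hσ : σ ^ 3 ^ 1 = 1 := Equiv.ext fun y => Subtype.ext (by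
      show v * (v * (v * y.1 * v⁻¹) * v⁻¹) * v⁻¹ = y.1
      rw [show v * (v * (v * y.1 * v⁻¹) * v⁻¹) * v⁻¹ = v ^ 3 * y.1 * (v ^ 3)⁻¹ by
        simp only [pow_succ, pow_zero, one_mul, _root_.mul_inv_rev, mul_assoc], hv3]
      group)
    by_contra hcon
    push Not at hcon
    have hsupp : σ.supportᶜ = {1} := by
      ext y
      rw [Finset.mem_compl, Equiv.Perm.notMem_support, Finset.mem_singleton]
      constructor
      · intro hy
        by_contra hy1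
        exact hcon y.1 y.2 (fun e => hy1 (Subtype.ext e)) (congrArg Subtype.val hy)
      · rintro rfl
        exact Subtype.ext (by simp [σ])
    have hmod := Equiv.Perm.card_compl_support_modEq hσ
    rw [hsupp, Finset.card_singleton, ← Nat.card_eq_fintype_card, hS8] at hmod
    norm_num [Nat.ModEq] at hmod
  have hd4 : d ≠ x ∧ d ≠ v * x * v⁻¹ ∧ d ≠ x * (v * x * v⁻¹) := by
    refine ⟨fun e => hx₁x (e ▸ hdv), fun e => hx₁x ?_, fun e => hx₁x ?_⟩
    · rw [e] at hdv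
      exact mul_left_cancel (mul_right_cancel hdv)
    · rw [e, ← hprod] at hdv
      exact mul_left_cancel (mul_right_cancel (mul_left_cancel (mul_right_cancel hdv)))
  obtain ⟨g, hg⟩ := exists_to_t hyp hx1 hxx
  obtain ⟨w, hw⟩ : ∃ w, w = g * v * g⁻¹ := ⟨_, rfl⟩
  obtain ⟨t₁, ht₁⟩ : ∃ t₁, t₁ = g * (v * x * v⁻¹) * g⁻¹ := ⟨_, rfl⟩
  have hconjc : ∀ {a b : G}, a * b = b * a → g * a * g⁻¹ * (g * b * g⁻¹) = g * b * g⁻¹ * (g * a * g⁻¹) :=
    fun {a b} h => by
      rw [show g * a * g⁻¹ * (g * b * g⁻¹) = g * (a * b) * g⁻¹ by group, h]; group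
  obtain ⟨i, hi⟩ := E.cent t₁ (by rw [ht₁, ← hg]; exact hconjc (hcomm hx₁S hxS))
  have hne : t₁ ≠ E.t := fun h => hx₁x (by
    rw [← hg, ht₁] at h
    exact mul_left_cancel (mul_right_cancel h))
  have hne1 : t₁ ≠ 1 := fun h => hx1 (by rwa [ht₁, conj_eq_one_iff, conj_eq_one_iff] at h)
  have ht₁2 : t₁ * t₁ = 1 := by
    rw [ht₁, show g * (v * x * v⁻¹) * g⁻¹ * (g * (v * x * v⁻¹) * g⁻¹) =
      g * v * (x * x) * v⁻¹ * g⁻¹ by group, hxx]
    group
  have hi1 : i ≠ 1 := by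
    intro h
    rw [h, map_one, mul_one] at hi
    exact hi.elim hne1 hne
  have hii : i * i = 1 := by
    refine E.inj ?_
    rw [map_mul, map_one]
    rcases hi with e | e
    · rw [← e, ht₁2]
    · have e' : E.ι i = E.t * t₁ := by rw [e, ← mul_assoc, E.sq, one_mul]
      have htt : t₁ * E.t = E.t * t₁ := E.mem_cent (Or.inr e)
      rw [e', show E.t * t₁ * (E.t * t₁) = E.t * (t₁ * E.t) * t₁ by group, htt, ← mul_assoc E.t E.t,
        E.sq, one_mul, ht₁2]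
  obtain ⟨g', ht', hcard', hmem', hcent'⟩ := exists_involution_tor_two hyp.mod8 hi1 hii
  refine ⟨⟨w, t₁, i, g', g * d * g⁻¹, ?_, fun h => hv1 (conj_eq_one_iff.1 (hw ▸ h)), hi1, hii, hi,
    ?_, ?_, ht', hcard', hmem', hcent', ?_, ?_, ?_, ?_, fun h => hd1 (conj_eq_one_iff.1 h)⟩⟩
  · rw [hw, conj_pow, hv3, mul_one, mul_inv_cancel]
  · rw [← hg, hw, ht₁]; group
  · rw [hw, ht₁, ← hg]
    calc g * v * g⁻¹ * (g * (v * x * v⁻¹) * g⁻¹) * (g * v * g⁻¹)⁻¹
        = g * (v * (v * x * v⁻¹) * v⁻¹) * g⁻¹ := by group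
      _ = _ := by rw [hprod]; group
  · rw [show g * d * g⁻¹ * (g * d * g⁻¹) = g * (d * d) * g⁻¹ by group, hsq d hdS]; group
  · rw [← hg]; exact hconjc (hcomm hdS hxS)
  · rw [ht₁]; exact hconjc (hcomm hdS hx₁S)
  · rw [hw, show g * v * g⁻¹ * (g * d * g⁻¹) * (g * v * g⁻¹)⁻¹ = g * (v * d * v⁻¹) * g⁻¹ by group,
      hdv]

namespace Cyc

variable (hyp : Hyp E) (c : Cyc E)

theorem t₁_comm : c.t₁ * E.t = E.t * c.t₁ := E.mem_cent c.ht₁

theorem t₁_sq : c.t₁ * c.t₁ = 1 := by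
  rcases c.ht₁ with h | h <;> rw [h]
  · rw [← map_mul, c.ii, map_one]
  · rw [← mul_assoc, mul_assoc E.t, ← E.comm c.i, ← mul_assoc, E.sq, one_mul, ← map_mul, c.ii, map_one]

theorem v_inv : c.v⁻¹ = c.v * c.v :=
  inv_eq_of_mul_eq_one_right (by rw [← mul_assoc, ← pow_two, ← pow_succ, c.v3])

theorem d_inv : c.d⁻¹ = c.d := inv_eq_of_mul_eq_one_right c.dd

theorem hv₂ : c.v * (E.t * c.t₁) * c.v⁻¹ = E.t := by
  calc c.v * (E.t * c.t₁) * c.v⁻¹ = c.v * E.t * c.v⁻¹ * (c.v * c.t₁ * c.v⁻¹) := by group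
    _ = c.t₁ * (E.t * c.t₁) := by rw [c.hv, c.hv₁]
    _ = E.t * (c.t₁ * c.t₁) := by rw [← mul_assoc, c.t₁_comm, mul_assoc]
    _ = E.t := by rw [c.t₁_sq, mul_one]

theorem commute_t₁_iff {x : G} {l : PST} (hx : x = E.ι l ∨ x = E.t * E.ι l) :
    x * c.t₁ = c.t₁ * x ↔ l ∈ torN c.g := by
  rw [← mul_inv_eq_iff_eq_mul, ← c.cent, ← mul_inv_eq_iff_eq_mul]
  rcases c.ht₁ with h | h <;> rw [h]
  · rw [E.conj_ι hx]
    exact E.inj.eq_iff
  · have : x * (E.t * E.ι c.i) * x⁻¹ = E.t * (x * E.ι c.i * x⁻¹) := by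
      rw [← mul_assoc, E.mem_cent hx]
      simp only [mul_assoc]
    rw [this, E.conj_ι hx, mul_left_cancel_iff]
    exact E.inj.eq_iff

/-- Membership in the four-group. -/
def IsFour (x : G) : Prop := x = 1 ∨ x = E.t ∨ x = c.t₁ ∨ x = E.t * c.t₁

theorem four_of {x : G} {u : PST} (hx : x = E.ι u ∨ x = E.t * E.ι u) (hu : u = 1 ∨ u = c.i) :
    c.IsFour x := by
  rcases c.ht₁ with h | h <;> rcases hx with rfl | rfl <;> rcases hu with rfl | rfl
  · left; exact map_one _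
  · right; right; left; exact h.symm
  · right; left; rw [map_one, mul_one]
  · right; right; right; rw [h]
  · left; exact map_one _
  · right; right; right; rw [h, ← mul_assoc, E.sq, one_mul]
  · right; left; rw [map_one, mul_one]
  · right; right; left; exact h.symm

theorem four_exists {x : G} (hx : c.IsFour x) :
    ∃ u : PST, (u = 1 ∨ u = c.i) ∧ (x = E.ι u ∨ x = E.t * E.ι u) := by
  rcases hx with rfl | rfl | rfl | rfl
  · exact ⟨1, Or.inl rfl, Or.inl (map_one _).symm⟩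
  · exact ⟨1, Or.inl rfl, Or.inr (by rw [map_one, mul_one])⟩
  · exact ⟨c.i, Or.inr rfl, c.ht₁⟩
  · refine ⟨c.i, Or.inr rfl, ?_⟩
    rcases c.ht₁ with h | h
    · exact Or.inr (by rw [h])
    · exact Or.inl (by rw [h, ← mul_assoc, E.sq, one_mul])

theorem four_sq {x : G} (hx : c.IsFour x) : x * x = 1 := by
  rcases hx with rfl | rfl | rfl | rfl
  · exact one_mul 1
  · exact E.sq
  · exact c.t₁_sq
  · rw [show E.t * c.t₁ * (E.t * c.t₁) = E.t * (c.t₁ * E.t) * c.t₁ by group, c.t₁_comm,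
      ← mul_assoc E.t E.t, E.sq, one_mul, c.t₁_sq]

theorem four_inv {x : G} (hx : c.IsFour x) : x⁻¹ = x :=
  inv_eq_of_mul_eq_one_right (c.four_sq hx)

theorem four_mul {x y : G} (hx : c.IsFour x) (hy : c.IsFour y) : c.IsFour (x * y) := by
  obtain ⟨a, ha, hxa⟩ := c.four_exists hx
  obtain ⟨b, hb, hyb⟩ := c.four_exists hy
  refine c.four_of (u := a * b) ?_ ?_
  · rcases hxa with rfl | rfl <;> rcases hyb with rfl | rfl
    · exact Or.inl (map_mul _ _ _).symm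
    · right; rw [map_mul, ← mul_assoc (E.ι a), ← E.comm a, mul_assoc]
    · right; rw [map_mul, mul_assoc]
    · left
      rw [map_mul, ← mul_assoc, mul_assoc E.t (E.ι a), ← E.comm a, ← mul_assoc, E.sq, one_mul]
  · rcases ha with rfl | rfl <;> rcases hb with rfl | rfl
    · exact Or.inl (one_mul 1)
    · exact Or.inr (one_mul _)
    · exact Or.inr (mul_one _)
    · exact Or.inl c.ii

/-- The four-group. -/
def fourG : Subgroup G where
  carrier := {x | c.IsFour x}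
  one_mem' := Or.inl rfl
  mul_mem' := c.four_mul
  inv_mem' {x} hx := by
    show c.IsFour x⁻¹
    rw [c.four_inv hx]; exact hx

theorem t₁_ne_one : c.t₁ ≠ 1 := fun h => by
  rw [← c.hv, conj_eq_one_iff] at h
  exact E.t_ne_one h

theorem t₁_ne_t : c.t₁ ≠ E.t := fun h => by
  rcases c.ht₁ with e | e <;> rw [h] at e
  · exact E.notMem c.i e.symm
  · exact c.i1 (E.inj (by rw [map_one]; exact (left_eq_mul.1 e)))

theorem t_mul_t₁_ne_one : E.t * c.t₁ ≠ 1 := fun h => c.t₁_ne_t (by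
  rw [mul_eq_one_iff_inv_eq, E.t_inv] at h; exact h.symm)

theorem natCard_fourG : Nat.card c.fourG = 4 := by
  classical
  have h2 : E.t * c.t₁ ≠ E.t := fun h => c.t₁_ne_one (mul_eq_left.1 h)
  have h3 : E.t * c.t₁ ≠ c.t₁ := fun h => E.t_ne_one (mul_eq_right.1 h)
  have e : (c.fourG : Set G) = ↑({1, E.t, c.t₁, E.t * c.t₁} : Finset G) := by
    ext x
    simp [fourG, IsFour]
  show Nat.card (c.fourG : Set G) = 4
  rw [Nat.card_coe_set_eq, e, Set.ncard_coe_finset,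
    Finset.card_insert_of_notMem (by simp [E.t_ne_one.symm, c.t₁_ne_one.symm, c.t_mul_t₁_ne_one.symm]),
    Finset.card_insert_of_notMem (by simp [c.t₁_ne_t.symm, h2.symm]),
    Finset.card_insert_of_notMem (by simp [h3.symm]), Finset.card_singleton]

theorem four_comm_t {x : G} (hx : c.IsFour x) : x * E.t = E.t * x := by
  obtain ⟨u, -, h⟩ := c.four_exists hx
  exact E.mem_cent h

theorem four_comm_t₁ {x : G} (hx : c.IsFour x) : x * c.t₁ = c.t₁ * x := by
  obtain ⟨u, hu, h⟩ := c.four_exists hx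
  refine (c.commute_t₁_iff h).2 ?_
  rcases hu with rfl | rfl
  · exact one_mem _
  · exact tor_le_torN c.g c.mem

theorem four_comm_d {e : G} (he : c.IsFour e) : e * c.d = c.d * e := by
  rcases he with rfl | rfl | rfl | rfl
  · rw [one_mul, mul_one]
  · exact c.dt.symm
  · exact c.dt₁.symm
  · rw [mul_assoc, ← c.dt₁, ← mul_assoc, ← c.dt, mul_assoc]

theorem four_conj_v {e : G} (he : c.IsFour e) : c.IsFour (c.v * e * c.v⁻¹) := by
  rcases he with rfl | rfl | rfl | rfl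
  · left; simp
  · right; right; left; exact c.hv
  · right; right; right; exact c.hv₁
  · right; left; exact c.hv₂

theorem four_conj_pow {e : G} (he : c.IsFour e) (k : ℕ) :
    c.IsFour (c.v ^ k * e * (c.v ^ k)⁻¹) := by
  induction k with
  | zero => simpa using he
  | succ k ih =>
    rw [pow_succ', show c.v * c.v ^ k * e * (c.v * c.v ^ k)⁻¹ =
      c.v * (c.v ^ k * e * (c.v ^ k)⁻¹) * c.v⁻¹ by group]
    exact c.four_conj_v ih

theorem four_to_t {e : G} (he : c.IsFour e) (he1 : e ≠ 1) :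
    ∃ k : ℕ, c.v ^ k * e * (c.v ^ k)⁻¹ = E.t := by
  rcases he with rfl | rfl | rfl | rfl
  · exact absurd rfl he1
  · exact ⟨0, by simp⟩
  · refine ⟨2, ?_⟩
    calc c.v ^ 2 * c.t₁ * (c.v ^ 2)⁻¹ = c.v * (c.v * c.t₁ * c.v⁻¹) * c.v⁻¹ := by
          simp only [pow_two, _root_.mul_inv_rev, mul_assoc]
      _ = E.t := by rw [c.hv₁, c.hv₂]
  · exact ⟨1, by rw [pow_one, c.hv₂]⟩

theorem d_pow_v (k : ℕ) : c.v ^ k * c.d * (c.v ^ k)⁻¹ = c.d := by
  induction k with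
  | zero => simp
  | succ k ih =>
    rw [pow_succ', show c.v * c.v ^ k * c.d * (c.v * c.v ^ k)⁻¹ =
      c.v * (c.v ^ k * c.d * (c.v ^ k)⁻¹) * c.v⁻¹ by group, ih, c.dv]

theorem d_not_four : ¬ c.IsFour c.d := by
  intro h
  have h' := c.dv
  rcases h with e | e | e | e
  · exact c.d1 e
  · rw [e, c.hv] at h'
    exact c.t₁_ne_t h'
  · rw [e, c.hv₁] at h'
    exact E.t_ne_one (mul_eq_right.1 h')
  · rw [e, c.hv₂] at h'
    exact c.t₁_ne_one (mul_eq_left.1 h'.symm)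

/-- Conjugation by `v` preserves the centraliser of the four-group. -/
theorem conj_cent {x : G} (h : x * E.t = E.t * x) (h₁ : x * c.t₁ = c.t₁ * x) :
    (c.v * x * c.v⁻¹) * E.t = E.t * (c.v * x * c.v⁻¹) ∧
      (c.v * x * c.v⁻¹) * c.t₁ = c.t₁ * (c.v * x * c.v⁻¹) := by
  have key : ∀ e e' : G, c.v * e * c.v⁻¹ = e' → x * e = e * x →
      (c.v * x * c.v⁻¹) * e' = e' * (c.v * x * c.v⁻¹) := by
    intro e e' he hx
    rw [← he]
    calc c.v * x * c.v⁻¹ * (c.v * e * c.v⁻¹) = c.v * (x * e) * c.v⁻¹ := by group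
      _ = _ := by rw [hx]; group
  refine ⟨key _ _ c.hv₂ ?_, key _ _ c.hv h⟩
  rw [← mul_assoc, h, mul_assoc, h₁, mul_assoc]

/-- The odd part of the torus. -/
def Cr : Subgroup PST where
  carrier := {x | x ∈ tor c.g ∧ x ^ rOf F = 1}
  one_mem' := ⟨one_mem _, one_pow _⟩
  mul_mem' {a b} ha hb := ⟨mul_mem ha.1 hb.1, by
    rw [(show Commute a b from tor_comm c.htr ha.1 hb.1).mul_pow, ha.2, hb.2, one_mul]⟩
  inv_mem' {a} ha := ⟨inv_mem ha.1, by rw [inv_pow, ha.2, inv_one]⟩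

theorem mem_Cr {x : PST} : x ∈ c.Cr ↔ x ∈ tor c.g ∧ x ^ rOf F = 1 := Iff.rfl

theorem Cr_le : c.Cr ≤ tor c.g := fun _ h => h.1

theorem isCyclic_Cr : IsCyclic c.Cr := by
  haveI := isCyclic_tor c.htr
  exact Subgroup.isCyclic_of_le c.Cr_le

theorem natCard_Cr : Nat.card c.Cr = rOf F := by
  haveI := isCyclic_tor c.htr
  letI : CommGroup (tor c.g) := IsCyclic.commGroup
  have e : c.Cr ≃ (powMonoidHom (rOf F) : tor c.g →* tor c.g).ker :=
    { toFun := fun x => ⟨⟨x.1, x.2.1⟩, Subtype.ext x.2.2⟩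
      invFun := fun x => ⟨x.1.1, x.1.2, congrArg Subtype.val x.2⟩
      left_inv := fun _ => rfl
      right_inv := fun _ => rfl }
  rw [Nat.card_congr e, IsCyclic.card_powMonoidHom_ker, c.card_tor]
  exact Nat.gcd_eq_right (Dvd.intro_left 2 rfl)

theorem Cr_comm_t₁ {a : PST} (ha : a ∈ c.Cr) : E.ι a * c.t₁ = c.t₁ * E.ι a :=
  (c.commute_t₁_iff (Or.inl rfl)).2 (tor_le_torN c.g ha.1)

theorem four_comm_tor {x : G} (hx : c.IsFour x) {a : PST} (ha : a ∈ tor c.g) :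
    x * E.ι a = E.ι a * x := by
  obtain ⟨u, hu, h⟩ := c.four_exists hx
  rw [← mul_inv_eq_iff_eq_mul, E.conj_ι h]
  refine congrArg E.ι ?_
  rcases hu with rfl | rfl
  · simp
  · rw [tor_comm c.htr c.mem ha, mul_inv_cancel_right]

theorem four_comm_Cr {x : G} (hx : c.IsFour x) {a : PST} (ha : a ∈ c.Cr) :
    x * E.ι a = E.ι a * x := c.four_comm_tor hx ha.1

theorem tor_sq {u : PST} (hu : u ∈ tor c.g) (h : u * u = 1) : u = 1 ∨ u = c.i := by
  classical
  by_contra hh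
  push Not at hh
  haveI := isCyclic_tor c.htr
  haveI : Fintype (tor c.g) := Fintype.ofFinite _
  have h3 : ({1, (⟨c.i, c.mem⟩ : tor c.g), ⟨u, hu⟩} : Finset (tor c.g)) ⊆
      Finset.univ.filter fun x => x ^ 2 = 1 := by
    intro x hx
    simp only [Finset.mem_insert, Finset.mem_singleton] at hx
    simp only [Finset.mem_filter, Finset.mem_univ, true_and]
    rcases hx with rfl | rfl | rfl
    · exact one_pow 2
    · exact Subtype.ext ((pow_two _).trans c.ii)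
    · exact Subtype.ext ((pow_two _).trans h)
  have hle := (Finset.card_le_card h3).trans (IsCyclic.card_pow_eq_one_le two_pos)
  rw [Finset.card_insert_of_notMem (by
      simp only [Finset.mem_insert, Finset.mem_singleton, not_or]
      exact ⟨fun e => c.i1 (congrArg Subtype.val e).symm, fun e => hh.1 (congrArg Subtype.val e).symm⟩),
    Finset.card_insert_of_notMem (by
      simp only [Finset.mem_singleton]
      exact fun e => hh.2 (congrArg Subtype.val e).symm), Finset.card_singleton] at hle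
  omega

/-- The involution `d` inverts the torus. -/
theorem d_tor {a : PST} (ha : a ∈ tor c.g) : c.d * E.ι a * c.d⁻¹ = E.ι a⁻¹ := by
  obtain ⟨l, hl⟩ := E.cent c.d c.dt
  have hN := (c.commute_t₁_iff hl).1 c.dt₁
  have hll : l * l = 1 := by
    refine E.inj ?_
    rw [map_mul, map_one]
    rcases hl with e | e
    · rw [← e, c.dd]
    · have e' : E.ι l = E.t * c.d := by rw [e, ← mul_assoc, E.sq, one_mul]
      rw [e', show E.t * c.d * (E.t * c.d) = E.t * (c.d * E.t) * c.d by group, c.dt,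
        ← mul_assoc E.t E.t, E.sq, one_mul, c.dd]
  have hT : l ∉ tor c.g := fun h => c.d_not_four (c.four_of hl (c.tor_sq h hll))
  rw [E.conj_ι hl]
  exact congrArg E.ι ((torN_cases c.htr hN).resolve_left hT a ha)

theorem d_Cr {a : PST} (ha : a ∈ c.Cr) : E.ι a * c.d = c.d * E.ι a⁻¹ := by
  have h := c.d_tor (inv_mem ha.1)
  rw [inv_inv, c.d_inv] at h
  rw [← h, mul_assoc, c.dd, mul_one]

include hyp

theorem odd_Cr : Odd (Nat.card c.Cr) := by
  rw [natCard_Cr c]; exact odd_r hyp.mod8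

theorem eq_one_of_sq {a : PST} (ha : a ∈ c.Cr) (h : a * a = 1) : a = 1 := by
  have h4 : a ^ rOf F = 1 := ha.2
  obtain ⟨j, hj⟩ := odd_r hyp.mod8
  rwa [hj, pow_succ, pow_mul, pow_two, h, one_pow, one_mul] at h4

theorem tor_split {u : PST} (hu : u ∈ tor c.g) :
    ∃ a ∈ c.Cr, ∃ w : PST, (w = 1 ∨ w = c.i) ∧ u = w * a := by
  have hpow : u ^ (2 * rOf F) = 1 := by
    have h1 : (⟨u, hu⟩ : tor c.g) ^ Nat.card (tor c.g) = 1 := pow_card_eq_one'
    rw [c.card_tor] at h1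
    exact congrArg Subtype.val h1
  have hw : u ^ rOf F = 1 ∨ u ^ rOf F = c.i :=
    c.tor_sq (pow_mem hu _) (by rw [← pow_add, ← two_mul, hpow])
  refine ⟨(u ^ rOf F)⁻¹ * u, ⟨mul_mem (inv_mem (pow_mem hu _)) hu, ?_⟩, u ^ rOf F, hw,
    (mul_inv_cancel_left _ _).symm⟩
  have hc : Commute (u ^ rOf F)⁻¹ u := (Commute.pow_self u _).inv_left
  rw [hc.mul_pow, inv_pow]
  have h2 : (u ^ rOf F) * (u ^ rOf F) = 1 := by rw [← pow_add, ← two_mul, hpow]
  obtain ⟨j, hj⟩ := odd_r hyp.mod8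
  have : (u ^ rOf F) ^ rOf F = u ^ rOf F := by
    nth_rewrite 2 [hj]
    rw [pow_succ, pow_mul, pow_two, h2, one_pow, one_mul]
  rw [this, inv_mul_cancel]

theorem four_mul_Cr_inj {e e' : G} (he : c.IsFour e) (he' : c.IsFour e') {a a' : PST}
    (ha : a ∈ c.Cr) (ha' : a' ∈ c.Cr) (h : e * E.ι a = e' * E.ι a') : e = e' ∧ a = a' := by
  have h1 : E.ι (a' * a⁻¹) = e' * e := by
    have h2 : E.ι a' = e' * (e * E.ι a) := by rw [h, ← mul_assoc, c.four_sq he', one_mul]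
    rw [map_mul, map_inv, h2, ← mul_assoc, mul_inv_cancel_right]
  have h3 : a' * a⁻¹ * (a' * a⁻¹) = 1 := E.inj (by
    rw [map_mul, h1, c.four_sq (c.four_mul he' he), map_one])
  have hae : a = a' := (mul_inv_eq_one.1 (eq_one_of_sq hyp c (mul_mem ha' (inv_mem ha)) h3)).symm
  subst hae
  exact ⟨mul_right_cancel h, rfl⟩

theorem odd_mem_Cr {x : G} (h : x * E.t = E.t * x) (h₁ : x * c.t₁ = c.t₁ * x) {m : ℕ} (hm : Odd m)
    (hx : x ^ m = 1) : ∃ a ∈ c.Cr, x = E.ι a := by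
  obtain ⟨l, hl, hlm⟩ := exists_ι_of_odd hyp h hm hx
  have hN := (c.commute_t₁_iff (Or.inl hl)).1 h₁
  have hA : (⟨l, hN⟩ : torN c.g) ∈ (tor c.g).subgroupOf (torN c.g) :=
    mem_of_odd_order (index_tor_torN hyp.mod8 c.htr) hm (Subtype.ext (by simpa using hlm))
  rw [Subgroup.mem_subgroupOf] at hA
  refine ⟨l, ⟨hA, ?_⟩, hl⟩
  have h2r : orderOf l ∣ 2 * rOf F := by
    rw [← c.card_tor, ← Subgroup.orderOf_mk l hA]
    exact orderOf_dvd_natCard _
  have hco : Nat.Coprime (orderOf l) 2 :=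
    Nat.coprime_two_right.2 (hm.of_dvd_nat (orderOf_dvd_of_pow_eq_one hlm))
  exact orderOf_dvd_iff_pow_eq_one.1 (hco.dvd_of_dvd_mul_left h2r)

theorem conj_Cr {a : PST} (ha : a ∈ c.Cr) : ∃ b ∈ c.Cr, c.v * E.ι a * c.v⁻¹ = E.ι b := by
  obtain ⟨h1, h2⟩ := c.conj_cent (E.comm a).symm (c.Cr_comm_t₁ ha)
  exact odd_mem_Cr hyp c h1 h2 (odd_r hyp.mod8)
    (by rw [conj_pow, ← map_pow, ha.2, map_one, mul_one, mul_inv_cancel])

theorem conj_pow_Cr {a : PST} (ha : a ∈ c.Cr) (k : ℕ) :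
    ∃ b ∈ c.Cr, c.v ^ k * E.ι a * (c.v ^ k)⁻¹ = E.ι b := by
  induction k with
  | zero => exact ⟨a, ha, by simp⟩
  | succ k ih =>
    obtain ⟨b, hb, e⟩ := ih
    obtain ⟨b', hb', e'⟩ := conj_Cr hyp c hb
    exact ⟨b', hb', by rw [pow_succ', ← e', ← e]; group⟩

/-- The elements commuting with a nontrivial element of the four-group and an element of `C_r`. -/
theorem cent_four {x e : G} {a : PST} (ha : a ∈ c.Cr) (ha1 : a ≠ 1)
    (hxa : x * E.ι a = E.ι a * x) (he : c.IsFour e) (he1 : e ≠ 1) (hx : x * e = e * x) :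
    ∃ e', c.IsFour e' ∧ ∃ b ∈ c.Cr, x = e' * E.ι b := by
  have base : ∀ {y : G} {a : PST}, a ∈ c.Cr → a ≠ 1 → y * E.ι a = E.ι a * y →
      y * E.t = E.t * y → ∃ e', c.IsFour e' ∧ ∃ b ∈ c.Cr, y = e' * E.ι b := by
    intro y a ha ha1 hya hyt
    obtain ⟨l, hl⟩ := E.cent y hyt
    have hla : l * a = a * l := by
      refine mul_inv_eq_iff_eq_mul.1 (E.inj ?_)
      rw [← E.conj_ι hl, hya, mul_inv_cancel_right]
    obtain ⟨b, hb, w, hw, rfl⟩ := tor_split hyp c (mem_tor_of_commute hyp.mod8 c.htr ha.1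
      (fun h => ha1 (eq_one_of_sq hyp c ha h)) hla)
    rcases hl with rfl | rfl
    · exact ⟨E.ι w, c.four_of (Or.inl rfl) hw, b, hb, map_mul _ _ _⟩
    · exact ⟨E.t * E.ι w, c.four_of (Or.inr rfl) hw, b, hb, by rw [map_mul, mul_assoc]⟩
  obtain ⟨k, hk⟩ := c.four_to_t he he1
  obtain ⟨a', ha', hka⟩ := conj_pow_Cr hyp c ha k
  have ha'1 : a' ≠ 1 := fun h => by
    rw [h, map_one, conj_eq_one_iff] at hka
    exact ha1 (E.inj (hka.trans (map_one E.ι).symm))
  obtain ⟨e', he', b, hb, hy⟩ := base (y := c.v ^ k * x * (c.v ^ k)⁻¹) ha' ha'1 (by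
      rw [← hka]
      calc c.v ^ k * x * (c.v ^ k)⁻¹ * (c.v ^ k * E.ι a * (c.v ^ k)⁻¹)
          = c.v ^ k * (x * E.ι a) * (c.v ^ k)⁻¹ := by group
        _ = _ := by rw [hxa]; group) (by
      rw [← hk]
      calc c.v ^ k * x * (c.v ^ k)⁻¹ * (c.v ^ k * e * (c.v ^ k)⁻¹)
          = c.v ^ k * (x * e) * (c.v ^ k)⁻¹ := by group
        _ = _ := by rw [hx]; group)
  obtain ⟨i, hi⟩ : ∃ i : ℕ, c.v ^ i = (c.v ^ k)⁻¹ := ⟨2 * k, by
    rw [eq_inv_iff_mul_eq_one, ← pow_add, show 2 * k + k = 3 * k by ring, pow_mul, c.v3, one_pow]⟩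
  obtain ⟨b', hb', hib⟩ := conj_pow_Cr hyp c hb i
  refine ⟨_, c.four_conj_pow he' i, b', hb', ?_⟩
  calc x = (c.v ^ i) * (c.v ^ k * x * (c.v ^ k)⁻¹) * (c.v ^ i)⁻¹ := by rw [hi]; group
    _ = (c.v ^ i) * e' * (c.v ^ i)⁻¹ * ((c.v ^ i) * E.ι b * (c.v ^ i)⁻¹) := by rw [hy]; group
    _ = _ := by rw [hib]

end Cyc

end CfsgLib.JankoThompson
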