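import Cfsg.Agent.ReeTypeS3.PSLFacts
import Cfsg.Agent.Linear.SL2Sylow
import Cfsg.Agent.Linear.SylowChar
import Cfsg.Agent.Small.Counting
import Mathlib

/-!
# Tori, unipotent elements and involutions of `PSL₂(q)`, `q ≡ ±3 (mod 8)`

The constants `rOf`, `uOf` and the sign `sg`, conjugacy of elements of odd prime order into the tori
or the unipotent subgroup, their centralisers and the involutions inverting them.
-/

set_option autoImplicit false
set_option linter.unusedSectionVars false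
set_option linter.style.haveILetI false

namespace CfsgLib.JankoThompson

open Matrix CfsgLib.ReeTypeS3
open scoped MatrixGroups

universe v

variable (F : Type v) [Fintype F]

/-- The number `(q - δ) / 4`. -/
def rOf : ℕ := if Fintype.card F % 8 = 3 then (Fintype.card F + 1) / 4 else (Fintype.card F - 1) / 4

/-- The number `(q + δ) / 2`. -/
def uOf : ℕ := if Fintype.card F % 8 = 3 then (Fintype.card F - 1) / 2 else (Fintype.card F + 1) / 2

/-- The sign `δ` with `q ≡ δ (mod 4)`. -/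
def sg : ℤ := if Fintype.card F % 8 = 3 then -1 else 1

/-- The hypothesis on the field. -/
def Mod8 : Prop :=
  11 ≤ Fintype.card F ∧ (Fintype.card F % 8 = 3 ∨ Fintype.card F % 8 = 5)

variable {F}

theorem sg_cases : sg F = 1 ∨ sg F = -1 := by
  unfold sg; split_ifs <;> simp

section Facts

variable (h : Mod8 F)
include h

theorem q_eq : (Fintype.card F : ℤ) = 4 * (rOf F : ℤ) + sg F := by
  obtain ⟨h11, h8 | h8⟩ := h <;> unfold rOf sg <;> rw [h8] <;> norm_num <;> omega

theorem u_eq : (uOf F : ℤ) = 2 * (rOf F : ℤ) + sg F := by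
  obtain ⟨h11, h8 | h8⟩ := h <;> unfold rOf uOf sg <;> rw [h8] <;> norm_num <;> omega

theorem odd_r : Odd (rOf F) := by
  obtain ⟨h11, h8 | h8⟩ := h <;> unfold rOf <;> rw [h8] <;> norm_num [Nat.odd_iff] <;> omega

theorem three_le_r : 3 ≤ rOf F := by
  obtain ⟨h11, h8 | h8⟩ := h <;> unfold rOf <;> rw [h8] <;> norm_num <;> omega

theorem odd_u : Odd (uOf F) := by
  obtain ⟨h11, h8 | h8⟩ := h <;> unfold uOf <;> rw [h8] <;> norm_num [Nat.odd_iff] <;> omega

theorem odd_card : Odd (Fintype.card F) := by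
  obtain ⟨h11, h8 | h8⟩ := h <;> rw [Nat.odd_iff] <;> omega

theorem five_le_u : 5 ≤ uOf F := by
  obtain ⟨h11, h8 | h8⟩ := h <;> unfold uOf <;> rw [h8] <;> norm_num <;> omega

theorem sq_sub_one : Fintype.card F ^ 2 - 1 = 8 * (rOf F * uOf F) := by
  have h1 := q_eq h
  have h2 := u_eq h
  have h3 : (Fintype.card F : ℤ) ^ 2 = 8 * ((rOf F : ℤ) * uOf F) + 1 := by
    rcases sg_cases (F := F) with e | e <;> rw [e] at h1 h2 <;> rw [h1, h2] <;> ring
  have h4 : Fintype.card F ^ 2 = 8 * (rOf F * uOf F) + 1 := by exact_mod_cast h3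
  omega

theorem coprime_r_u : Nat.Coprime (rOf F) (uOf F) := by
  have h2 := u_eq h
  rw [Nat.coprime_iff_gcd_eq_one]
  have hd : ((Nat.gcd (rOf F) (uOf F) : ℕ) : ℤ) ∣ sg F := by
    have ha := Int.natCast_dvd_natCast.2 (Nat.gcd_dvd_left (rOf F) (uOf F))
    have hb := Int.natCast_dvd_natCast.2 (Nat.gcd_dvd_right (rOf F) (uOf F))
    have := dvd_sub hb (ha.mul_left 2)
    rwa [h2, add_sub_cancel_left] at this
  rcases sg_cases (F := F) with e | e <;> rw [e] at hd
  · exact Nat.dvd_one.1 (Int.natCast_dvd_natCast.1 hd)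
  · exact Nat.dvd_one.1 (Int.natCast_dvd_natCast.1 (by simpa using hd))

end Facts

variable [Field F]

local notation "PST" => Matrix.ProjectiveSpecialLinearGroup (Fin 2) F
local notation "pr" => SL2Trace.proj (F := F)

section General

variable {L : Type*} [Group L] [Finite L]

/-- An element whose order is a power of a prime not dividing the index is conjugate into the
subgroup. -/
theorem exists_conj_mem_of_index (H : Subgroup L) {ℓ : ℕ} [Fact ℓ.Prime] (hidx : ¬ ℓ ∣ H.index)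
    {x : L} {j : ℕ} (hx : x ^ ℓ ^ j = 1) : ∃ l : L, l * x * l⁻¹ ∈ H := by
  obtain ⟨Q⟩ : Nonempty (Sylow ℓ H) := inferInstance
  have hcard : Nat.card ((Q : Subgroup H).map H.subtype) = ℓ ^ (Nat.card L).factorization ℓ := by
    rw [Subgroup.card_map_of_injective H.subtype_injective, Q.card_eq_multiplicity,
      ← H.card_mul_index,
      Nat.factorization_mul Nat.card_pos.ne' Subgroup.index_ne_zero_of_finite, Finsupp.add_apply,
      Nat.factorization_eq_zero_of_not_dvd hidx, add_zero]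
  let P : Sylow ℓ L := Sylow.ofCard _ hcard
  have hp : IsPGroup ℓ (Subgroup.zpowers x) := by
    obtain ⟨i, -, hi⟩ := (Nat.dvd_prime_pow (Fact.out : ℓ.Prime)).1 (orderOf_dvd_of_pow_eq_one hx)
    exact IsPGroup.of_card (n := i) (by rw [Nat.card_zpowers, hi])
  obtain ⟨P', hP'⟩ := hp.exists_le_sylow
  obtain ⟨l, hl⟩ := MulAction.exists_smul_eq L P' P
  refine ⟨l, ?_⟩
  have hm : MulAut.conj l • x ∈ ((l • P' : Sylow ℓ L) : Subgroup L) := by
    rw [Sylow.coe_subgroup_smul]
    exact Subgroup.smul_mem_pointwise_smul _ _ _ (hP' (Subgroup.mem_zpowers x))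
  rw [hl] at hm
  obtain ⟨y, -, hy⟩ := hm
  rw [MulAut.smul_def, MulAut.conj_apply] at hy
  exact hy ▸ y.2

end General

variable (h : Mod8 F)
include h

theorem two_ne_F : (2 : F) ≠ 0 := SL2Tori.two_ne_zero_of_odd (odd_card h)

theorem natCard_L : Nat.card PST = 4 * Fintype.card F * rOf F * uOf F := by
  have h1 := Linear.card_PSL_two_odd (F := F) (odd_card h)
  rw [sq_sub_one h, show Fintype.card F * (8 * (rOf F * uOf F)) =
    2 * (4 * Fintype.card F * rOf F * uOf F) by ring] at h1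
  omega

/-- A torus of order `2 r`. -/
theorem exists_tor_two :
    ∃ g : SL(2, F), SL2Tori.tr g ^ 2 ≠ 4 ∧ Nat.card (tor g) = 2 * rOf F := by
  have h2 := two_ne_F h
  obtain ⟨h11, h8⟩ := h
  rcases h8 with h8 | h8
  · obtain ⟨g, ht, hno⟩ := SL2Tori.exists_nonsplit (F := F)
    refine ⟨g, ht, ?_⟩
    have := (ReeTypeS3.natCard_tor ht h2).trans (SL2Tori.card_centralizer_nonsplit ht hno)
    unfold rOf; rw [if_pos h8]; omega
  · obtain ⟨g, ht, l, hl⟩ := SL2Tori.exists_split (F := F) (by omega)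
    refine ⟨g, ht, ?_⟩
    have := (ReeTypeS3.natCard_tor ht h2).trans (SL2Tori.card_centralizer_split ht hl)
    unfold rOf; rw [if_neg (by omega)]; omega

/-- A torus of order `u`. -/
theorem exists_tor_odd :
    ∃ g : SL(2, F), SL2Tori.tr g ^ 2 ≠ 4 ∧ Nat.card (tor g) = uOf F := by
  have h2 := two_ne_F h
  obtain ⟨h11, h8⟩ := h
  rcases h8 with h8 | h8
  · obtain ⟨g, ht, l, hl⟩ := SL2Tori.exists_split (F := F) (by omega)
    refine ⟨g, ht, ?_⟩
    have := (ReeTypeS3.natCard_tor ht h2).trans (SL2Tori.card_centralizer_split ht hl)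
    unfold uOf; rw [if_pos h8]; omega
  · obtain ⟨g, ht, hno⟩ := SL2Tori.exists_nonsplit (F := F)
    refine ⟨g, ht, ?_⟩
    have := (ReeTypeS3.natCard_tor ht h2).trans (SL2Tori.card_centralizer_nonsplit ht hno)
    unfold uOf; rw [if_neg (by omega)]; omega

omit h in
/-- The torus of an involution, for any odd `q`. -/
theorem exists_involution_tor_odd (h2 : (2 : F) ≠ 0) {i : PST} (hi : i ≠ 1) (hii : i * i = 1) :
    ∃ g : SL(2, F), SL2Tori.tr g ^ 2 ≠ 4 ∧
      (2 * Nat.card (tor g) = Fintype.card F - 1 ∨ 2 * Nat.card (tor g) = Fintype.card F + 1) ∧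
      i ∈ tor g ∧ SL2Tori.tr g = 0 ∧ pr g = i ∧ ∀ l : PST, l * i = i * l ↔ l ∈ torN g := by
  classical
  obtain ⟨g, rfl⟩ := SL2Trace.proj_surjective i
  have hgg : g.1 * g.1 = -1 := by
    rw [← pr_mul, SL2Trace.proj_eq_one_iff] at hii
    rcases hii with h | h
    · exact absurd ((SL2Trace.proj_eq_one_iff g).2 (SL2Tori.eq_one_or_neg_one_of_sq h2 h)) hi
    · have := congrArg Subtype.val h
      rw [Matrix.SpecialLinearGroup.coe_mul, Matrix.SpecialLinearGroup.coe_neg,
        Matrix.SpecialLinearGroup.coe_one] at this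
      exact this
  have htr := SL2Tori.trace_eq_zero_of_sq h2 hgg
  have h4 : (4 : F) ≠ 0 := by
    rw [show (4 : F) = 2 * 2 by norm_num]
    exact mul_ne_zero h2 h2
  have ht : SL2Tori.tr g ^ 2 ≠ 4 := by rw [htr]; simpa [eq_comm] using h4
  have hgT : pr g ∈ tor g := ⟨g, Subgroup.mem_centralizer_singleton_iff.2 rfl, rfl⟩
  have hcard : 2 * Nat.card (tor g) = Fintype.card F - 1 ∨
      2 * Nat.card (tor g) = Fintype.card F + 1 := by
    rw [ReeTypeS3.natCard_tor ht h2]
    by_cases hr : ∃ l : F, l ^ 2 + SL2Tori.tr g * l + 1 = 0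
    · obtain ⟨l, hl⟩ := hr
      exact Or.inl (SL2Tori.card_centralizer_split ht hl)
    · exact Or.inr (SL2Tori.card_centralizer_nonsplit ht fun m hm => hr ⟨m, hm⟩)
  refine ⟨g, ht, hcard, hgT, htr, rfl, fun l => ?_⟩
  constructor
  · intro h
    refine mem_torN_of_conj ht hgT hi ?_
    rw [h, mul_inv_cancel_right]
    exact hgT
  · intro hl
    rcases torN_cases ht hl with h | h
    · exact tor_comm ht h hgT
    · have := h _ hgT
      rw [inv_eq_of_mul_eq_one_right hii] at this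
      exact mul_inv_eq_iff_eq_mul.1 this

theorem exists_involution_tor_two {i : PST} (hi : i ≠ 1) (hii : i * i = 1) :
    ∃ g : SL(2, F), SL2Tori.tr g ^ 2 ≠ 4 ∧ Nat.card (tor g) = 2 * rOf F ∧ i ∈ tor g ∧
      ∀ l : PST, l * i = i * l ↔ l ∈ torN g := by
  obtain ⟨g, ht, hcard, hmem, -, -, hcent⟩ := exists_involution_tor_odd (two_ne_F h) hi hii
  refine ⟨g, ht, ?_, hmem, hcent⟩
  have h2d : 2 ∣ Nat.card (tor g) := by
    have := orderOf_dvd_natCard (⟨i, hmem⟩ : tor g)
    rwa [Subgroup.orderOf_mk, orderOf_eq_prime ((pow_two i).trans hii) hi] at this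
  obtain ⟨h11, h8⟩ := h
  unfold rOf
  split_ifs <;> omega

/-- All involutions of `L` are conjugate. -/
theorem isConj_involutions {i j : PST} (hi : i ≠ 1) (hii : i * i = 1) (hj : j ≠ 1)
    (hjj : j * j = 1) : IsConj i j := by
  obtain ⟨a, ha, -, -, hta, rfl, -⟩ := exists_involution_tor_odd (two_ne_F h) hi hii
  obtain ⟨b, hb, -, -, htb, rfl, -⟩ := exists_involution_tor_odd (two_ne_F h) hj hjj
  obtain ⟨k, hk⟩ := isConj_iff.1 (SL2Trace.isConj_of_trace_eq a b (hta.trans htb.symm) ha)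
  exact isConj_iff.2 ⟨pr k, by rw [← pr_inv, ← pr_mul, ← pr_mul, hk]⟩

/-- The involutions of `L`. -/
theorem natCard_involutions :
    Nat.card {i : PST // i ≠ 1 ∧ i * i = 1} = Fintype.card F * uOf F := by
  classical
  obtain ⟨g, ht, hcard⟩ := exists_tor_two h
  haveI : Fact (Nat.Prime 2) := ⟨Nat.prime_two⟩
  obtain ⟨⟨i, hiT⟩, hio⟩ := exists_prime_orderOf_dvd_card' (G := tor g) 2 (hcard ▸ Dvd.intro _ rfl)
  rw [Subgroup.orderOf_mk] at hio
  have hi : i ≠ 1 := fun e => by rw [e, orderOf_one] at hio; omega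
  have hii : i * i = 1 := (pow_two i).symm.trans (orderOf_dvd_iff_pow_eq_one.1 (by rw [hio]))
  obtain ⟨g', ht', hcard', hmem', hcent'⟩ := exists_involution_tor_two h hi hii
  have e : {x : PST // x ≠ 1 ∧ x * x = 1} ≃ {x : PST // IsConj i x} :=
    Equiv.subtypeEquivRight fun x => ⟨fun hx => isConj_involutions h hi hii hx.1 hx.2, fun hx => by
      obtain ⟨k, rfl⟩ := isConj_iff.1 hx
      exact ⟨fun e => hi (conj_eq_one_iff.1 e), by
        rw [show k * i * k⁻¹ * (k * i * k⁻¹) = k * (i * i) * k⁻¹ by group, hii, mul_one,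
          mul_inv_cancel]⟩⟩
  have hC : Subgroup.centralizer ({i} : Set PST) = torN g' := by
    ext l
    rw [Subgroup.mem_centralizer_singleton_iff, hcent']
  have hmul := Small.card_conjugates_mul_card_centralizer i
  rw [hC, ReeTypeS3.natCard_torN ht' (two_ne_F h), hcard', natCard_L h] at hmul
  rw [Nat.card_congr e]
  refine Nat.eq_of_mul_eq_mul_right (show 0 < 2 * (2 * rOf F) by have := three_le_r h; omega) ?_
  rw [hmul]; ring

section Torus

variable {g : SL(2, F)} (ht : SL2Tori.tr g ^ 2 ≠ 4)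
include ht

theorem index_tor_torN : ((tor g).subgroupOf (torN g)).index = 2 := by
  have h' := ((tor g).subgroupOf (torN g)).card_mul_index
  rw [Nat.card_congr (Subgroup.subgroupOfEquivOfLe (tor_le_torN g)).toEquiv,
    ReeTypeS3.natCard_torN ht (two_ne_F h), mul_comm 2] at h'
  exact Nat.eq_of_mul_eq_mul_left Nat.card_pos h'

theorem sq_eq_one_of_torN {l : PST} (hl : l ∈ torN g) (hlT : l ∉ tor g) : l * l = 1 := by
  obtain ⟨w, hwN, hwT, hww⟩ := exists_inverting_tor ht (two_ne_F h)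
  have hu : l * w ∈ tor g := by
    have := (Subgroup.mul_mem_iff_of_index_two (index_tor_torN h ht)
      (a := (⟨l, hl⟩ : torN g)) (b := ⟨w, hwN⟩)).2
      (iff_of_false (fun h => hlT (Subgroup.mem_subgroupOf.1 h))
        (fun h => hwT (Subgroup.mem_subgroupOf.1 h)))
    exact Subgroup.mem_subgroupOf.1 this
  have h' := (torN_cases ht hwN).resolve_left hwT _ hu
  rw [_root_.mul_inv_rev, inv_eq_of_mul_eq_one_right hww,
    show w * (l * w) * w = w * l * (w * w) by group, hww, mul_one] at h'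
  exact eq_inv_iff_mul_eq_one.1 (mul_left_cancel h')

/-- The involutions inverting a torus element. -/
theorem natCard_inverting_tor {x : PST} (hx : x ∈ tor g) (hx2 : x * x ≠ 1) :
    Nat.card {l : PST // (l ≠ 1 ∧ l * l = 1) ∧ l * x * l⁻¹ = x⁻¹} = Nat.card (tor g) := by
  classical
  have hx1 : x ≠ 1 := fun e => hx2 (by rw [e, mul_one])
  have e : {l : PST // (l ≠ 1 ∧ l * l = 1) ∧ l * x * l⁻¹ = x⁻¹} ≃
      {l : PST // l ∈ (torN g : Set PST) \ (tor g : Set PST)} := Equiv.subtypeEquivRight fun l => by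
    constructor
    · rintro ⟨-, hl⟩
      refine ⟨mem_torN_of_conj ht hx hx1 (hl ▸ inv_mem hx), fun hlT => hx2 ?_⟩
      rw [tor_comm ht hlT hx, mul_inv_cancel_right] at hl
      nth_rewrite 1 [hl]
      exact inv_mul_cancel x
    · rintro ⟨hl, hlT⟩
      exact ⟨⟨fun e => hlT (e ▸ one_mem _), sq_eq_one_of_torN h ht hl hlT⟩,
        (torN_cases ht hl).resolve_left hlT _ hx⟩
  rw [Nat.card_congr e]
  show Nat.card ((torN g : Set PST) \ (tor g : Set PST) : Set PST) = _
  rw [Nat.card_coe_set_eq, Set.ncard_sdiff (tor_le_torN g), ← Nat.card_coe_set_eq,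
    ← Nat.card_coe_set_eq]
  show Nat.card (torN g) - Nat.card (tor g) = _
  rw [ReeTypeS3.natCard_torN ht (two_ne_F h)]
  omega

theorem mem_tor_of_commute {x l : PST} (hx : x ∈ tor g) (hx2 : x * x ≠ 1) (hl : l * x = x * l) :
    l ∈ tor g := by
  have hx1 : x ≠ 1 := fun e => hx2 (by rw [e, mul_one])
  have hlx : l * x * l⁻¹ = x := by rw [hl, mul_inv_cancel_right]
  rcases torN_cases ht (mem_torN_of_conj ht hx hx1 (by rw [hlx]; exact hx)) with h' | h'
  · exact h'
  · exfalso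
    have := h' x hx
    rw [hlx] at this
    apply hx2
    nth_rewrite 1 [this]
    exact inv_mul_cancel x

theorem index_tor {T : ℕ} (hT : Nat.card (tor g) = T) :
    T * (tor g).index = 4 * Fintype.card F * rOf F * uOf F := by
  rw [← hT, Subgroup.card_mul_index, natCard_L h]

end Torus

/-- An element of odd prime power order dividing the odd torus part is conjugate into the torus. -/
theorem exists_conj_tor_r {g : SL(2, F)} (hcard : Nat.card (tor g) = 2 * rOf F) {ℓ : ℕ}
    [hℓ : Fact ℓ.Prime] (h2 : ℓ ≠ 2) (hdvd : ℓ ∣ rOf F) {x : PST} {j : ℕ} (hx : x ^ ℓ ^ j = 1) :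
    ∃ l, l * x * l⁻¹ ∈ tor g := by
  refine exists_conj_mem_of_index (tor g) ?_ hx
  have hi := (tor g).card_mul_index
  rw [hcard, natCard_L h] at hi
  have hidx : (tor g).index = 2 * Fintype.card F * uOf F :=
    Nat.eq_of_mul_eq_mul_left (show 0 < 2 * rOf F by have := three_le_r h; omega)
      (by rw [hi]; ring)
  rw [hidx]
  intro hd
  rcases hℓ.out.dvd_mul.1 hd with hd | hd
  · rcases hℓ.out.dvd_mul.1 hd with hd | hd
    · exact h2 ((Nat.prime_dvd_prime_iff_eq hℓ.out Nat.prime_two).1 hd)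
    · have := q_eq h
      have h' : (ℓ : ℤ) ∣ sg F := by
        have e : sg F = (Fintype.card F : ℤ) - 4 * (rOf F : ℤ) := by omega
        rw [e]
        exact dvd_sub (Int.natCast_dvd_natCast.2 hd) ((Int.natCast_dvd_natCast.2 hdvd).mul_left 4)
      have h1 := Int.natAbs_dvd_natAbs.2 h'
      rcases sg_cases (F := F) with e | e <;> rw [e] at h1 <;>
        exact hℓ.out.one_lt.ne' (Nat.dvd_one.1 (by simpa using h1))
  · exact hℓ.out.one_lt.ne'
      (Nat.eq_one_of_dvd_coprimes (coprime_r_u h) hdvd hd)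

/-- An element of prime power order prime to `2 q r` is conjugate into the odd torus. -/
theorem exists_conj_tor_u {g : SL(2, F)} (hcard : Nat.card (tor g) = uOf F) {ℓ : ℕ}
    [hℓ : Fact ℓ.Prime] (h2 : ℓ ≠ 2) (hq : ¬ ℓ ∣ Fintype.card F) (hr : ¬ ℓ ∣ rOf F) {x : PST}
    {j : ℕ} (hx : x ^ ℓ ^ j = 1) : ∃ l, l * x * l⁻¹ ∈ tor g := by
  refine exists_conj_mem_of_index (tor g) ?_ hx
  have hi := (tor g).card_mul_index
  rw [hcard, natCard_L h] at hi
  have hidx : (tor g).index = 4 * Fintype.card F * rOf F :=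
    Nat.eq_of_mul_eq_mul_left (show 0 < uOf F by have := five_le_u h; omega) (by rw [hi]; ring)
  rw [hidx]
  intro hd
  rcases hℓ.out.dvd_mul.1 hd with hd | hd
  · rcases hℓ.out.dvd_mul.1 hd with hd | hd
    · exact h2 ((Nat.prime_dvd_prime_iff_eq hℓ.out Nat.prime_two).1
        (hℓ.out.dvd_of_dvd_pow (show ℓ ∣ 2 ^ 2 from hd)))
    · exact hq hd
  · exact hr hd

/-- An element of order a power of the characteristic is conjugate into the unipotent subgroup. -/
theorem exists_conj_subQ {ℓ : ℕ} [hℓ : Fact ℓ.Prime] (hdvd : ℓ ∣ Fintype.card F) {x : PST} {j : ℕ}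
    (hx : x ^ ℓ ^ j = 1) : ∃ l, l * x * l⁻¹ ∈ subQ (F := F) := by
  refine exists_conj_mem_of_index (subQ (F := F)) ?_ hx
  have hi := (subQ (F := F)).card_mul_index
  rw [natCard_subQ, Nat.card_eq_fintype_card, natCard_L h] at hi
  have hidx : (subQ (F := F)).index = 4 * (rOf F * uOf F) :=
    Nat.eq_of_mul_eq_mul_left Fintype.card_pos (by rw [hi]; ring)
  rw [hidx]
  intro hd
  have h1 : ℓ ∣ Fintype.card F ^ 2 - 1 := by
    rw [sq_sub_one h]
    exact hd.trans ⟨2, by ring⟩
  have h2 : ℓ ∣ Fintype.card F ^ 2 := hdvd.pow two_ne_zero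
  have hpos : 1 ≤ Fintype.card F ^ 2 := Nat.one_le_pow _ _ Fintype.card_pos
  have h3 := Nat.dvd_sub h2 h1
  rw [show Fintype.card F ^ 2 - (Fintype.card F ^ 2 - 1) = 1 by omega] at h3
  exact hℓ.out.one_lt.ne' (Nat.dvd_one.1 h3)

/-- Elements commuting with a nontrivial unipotent element. -/
theorem mem_subQ_of_commute' {x l : PST} (hx : x ∈ subQ (F := F)) (hx1 : x ≠ 1)
    (hl : l * x = x * l) : l ∈ subQ (F := F) := by
  have hlx : l * x * l⁻¹ = x := by rw [hl, mul_inv_cancel_right]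
  obtain ⟨a, -, ha⟩ := inB_conj (inB_of_conj (two_ne_F h) hx hx1 (by rw [hlx]; exact hx))
  obtain ⟨b, rfl⟩ := hx
  obtain ⟨y, rfl⟩ := Multiplicative.ofAdd.surjective b
  have hy : y ≠ 0 := fun e => hx1 (by rw [e]; exact map_one uQ)
  have haa : a * a = 1 := by
    have := congrArg Multiplicative.toAdd (uQ_injective ((ha y).symm.trans hlx))
    exact mul_right_cancel₀ hy (by simpa using this)
  refine mem_subQ_of_commute (two_ne_F h) ?_
  rw [ha, haa, one_mul]

/-- The involutions inverting a nontrivial unipotent element. -/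
theorem natCard_inverting_subQ {x : PST} (hx : x ∈ subQ (F := F)) (hx1 : x ≠ 1) :
    Nat.card {l : PST // (l ≠ 1 ∧ l * l = 1) ∧ l * x * l⁻¹ = x⁻¹} =
      if Fintype.card F % 8 = 5 then Fintype.card F else 0 := by
  classical
  obtain ⟨b, hb⟩ := hx
  obtain ⟨y, rfl⟩ := Multiplicative.ofAdd.surjective b
  subst hb
  have hy : y ≠ 0 := fun e => hx1 (by rw [e]; exact map_one uQ)
  have hinv : (uQ (.ofAdd y) : PST)⁻¹ = uQ (.ofAdd ((-1 : F) * y)) := by
    rw [← map_inv, neg_one_mul]; rfl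
  have hchar : ∀ l : PST, ((l ≠ 1 ∧ l * l = 1) ∧ l * uQ (.ofAdd y) * l⁻¹ = (uQ (.ofAdd y))⁻¹) →
      ∃ a : F, a * a = -1 ∧ ∀ z : F, l * uQ (.ofAdd z) * l⁻¹ = uQ (.ofAdd (-z)) := by
    rintro l ⟨-, hl⟩
    obtain ⟨a, -, ha⟩ := inB_conj (inB_of_conj (two_ne_F h) ⟨_, rfl⟩ hx1
      (by rw [hl]; exact inv_mem ⟨_, rfl⟩))
    have haa : a * a = -1 := by
      have := congrArg Multiplicative.toAdd (uQ_injective ((ha y).symm.trans (hl.trans hinv)))
      exact mul_right_cancel₀ hy (by simpa using this)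
    exact ⟨a, haa, fun z => by rw [ha, haa, neg_one_mul]⟩
  have h4 : IsSquare (-1 : F) ↔ Fintype.card F % 8 = 5 := by
    rw [FiniteField.isSquare_neg_one_iff]
    obtain ⟨-, h8 | h8⟩ := h <;> omega
  split_ifs with h5
  · obtain ⟨a, ha⟩ := h4.2 h5
    have ha0 : a ≠ 0 := fun e => by rw [e, mul_zero] at ha; exact neg_ne_zero.2 one_ne_zero ha
    let d₀ : SL(2, F) := ⟨!![a, 0; 0, a⁻¹], by simp [Matrix.det_fin_two, ha0]⟩
    have hd : ∀ z : F, pr d₀ * uQ (.ofAdd z) * (pr d₀)⁻¹ = uQ (.ofAdd (-z)) := fun z => by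
      rw [mul_inv_eq_iff_eq_mul, uQ_apply, uQ_apply, ← pr_mul, ← pr_mul,
        PSL2Borel.conj_upper_of_borel F d₀ (show d₀.1 1 0 = 0 from rfl) z]
      congr 4
      show a * a * z = -z
      rw [← ha, neg_one_mul]
    -- the elements acting as `-1`
    have hsq : ∀ l : PST, (∀ z : F, l * uQ (.ofAdd z) * l⁻¹ = uQ (.ofAdd (-z))) → l * l = 1 := by
      intro l hl
      have hmem : l * l ∈ subQ (F := F) := by
        refine mem_subQ_of_commute (two_ne_F h) ?_
        rw [show l * l * uQ (.ofAdd (1 : F)) * (l * l)⁻¹ =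
          l * (l * uQ (.ofAdd (1 : F)) * l⁻¹) * l⁻¹ by group, hl, hl, neg_neg]
      obtain ⟨w, hw⟩ := hmem
      obtain ⟨z, rfl⟩ := Multiplicative.ofAdd.surjective w
      have hc := hl z
      rw [hw, show l * (l * l) * l⁻¹ = l * l by group, ← hw] at hc
      have hz := congrArg Multiplicative.toAdd (uQ_injective hc)
      simp only [toAdd_ofAdd] at hz
      have : z = 0 := (mul_eq_zero.1 (show (2 : F) * z = 0 by linear_combination hz)).resolve_left
        (two_ne_F h)
      rw [← hw, this]; exact map_one uQ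
    let φ : F → {l : PST // (l ≠ 1 ∧ l * l = 1) ∧ l * uQ (.ofAdd y) * l⁻¹ = (uQ (.ofAdd y))⁻¹} :=
      fun z => ⟨pr d₀ * uQ (.ofAdd z), by
        have hl : ∀ w : F, pr d₀ * uQ (.ofAdd z) * uQ (.ofAdd w) * (pr d₀ * uQ (.ofAdd z))⁻¹ =
            uQ (.ofAdd (-w)) := fun w => by
          rw [← hd w, show pr d₀ * uQ (.ofAdd z) * uQ (.ofAdd w) * (pr d₀ * uQ (.ofAdd z))⁻¹ =
            pr d₀ * (uQ (.ofAdd z) * uQ (.ofAdd w) * (uQ (.ofAdd z))⁻¹) * (pr d₀)⁻¹ by group,
            ← map_mul, ← map_inv, ← map_mul, mul_inv_cancel_comm]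
        refine ⟨⟨fun e => ?_, hsq _ hl⟩, by rw [hl, hinv, neg_one_mul]⟩
        have h1 := hl 1
        rw [e, one_mul, inv_one, mul_one] at h1
        have h2 := congrArg Multiplicative.toAdd (uQ_injective h1)
        simp only [toAdd_ofAdd] at h2
        exact two_ne_F h (by linear_combination h2)⟩
    rw [← Nat.card_eq_of_bijective φ ⟨?_, ?_⟩, Nat.card_eq_fintype_card]
    · intro z z' e
      exact Multiplicative.ofAdd.injective (uQ_injective (mul_left_cancel (congrArg Subtype.val e)))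
    · rintro ⟨l, hl⟩
      obtain ⟨a', -, ha'⟩ := hchar l hl
      have hmem : (pr d₀)⁻¹ * l ∈ subQ (F := F) := by
        refine mem_subQ_of_commute (two_ne_F h) ?_
        rw [show (pr d₀)⁻¹ * l * uQ (.ofAdd (1 : F)) * ((pr d₀)⁻¹ * l)⁻¹ =
          (pr d₀)⁻¹ * (l * uQ (.ofAdd (1 : F)) * l⁻¹) * pr d₀ by group, ha', ← hd 1]
        group
      obtain ⟨w, hw⟩ := hmem
      refine ⟨Multiplicative.toAdd w, Subtype.ext ?_⟩
      show pr d₀ * uQ (.ofAdd (Multiplicative.toAdd w)) = l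
      rw [ofAdd_toAdd, hw, mul_inv_cancel_left]
  · rw [Nat.card_eq_zero]
    refine Or.inl ⟨fun ⟨l, hl⟩ => h5 (h4.1 ?_)⟩
    obtain ⟨a, ha, -⟩ := hchar l hl
    exact ⟨a, ha.symm⟩

end CfsgLib.JankoThompson
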