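import Cfsg.Agent.JankoThompson.FourSelf
import Cfsg.Agent.JankoThompson.Tori
import Cfsg.Agent.S0799
import Mathlib

/-!
# Subgroups of `PSL₂(q)` with a self-centralising cycled four-group
-/

set_option autoImplicit false
set_option linter.unusedSectionVars false
set_option linter.style.haveILetI false

namespace CfsgLib.JankoThompson

open Matrix CfsgLib.ReeTypeS3
open scoped MatrixGroups

universe u v

variable {G : Type u} [Group G] [Finite G] {F : Type v} [Field F] [Fintype F]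

local notation "PST" => Matrix.ProjectiveSpecialLinearGroup (Fin 2) F

/-- Commutators of the normaliser of the unipotent subgroup are unipotent. -/
theorem commutator_inB (h : Mod8 F) {x y : PST} (hx : InB x) (hy : InB y) :
    x * y * x⁻¹ * y⁻¹ ∈ subQ (F := F) := by
  obtain ⟨a, ha0, ha⟩ := inB_conj hx
  obtain ⟨b, hb0, hb⟩ := inB_conj hy
  refine mem_subQ_of_commute (two_ne_F h) ?_
  have hinv : ∀ {l : PST} {c : F}, c ≠ 0 →
      (∀ z : F, l * uQ (.ofAdd z) * l⁻¹ = uQ (.ofAdd (c * c * z))) →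
      ∀ z : F, l⁻¹ * uQ (.ofAdd z) * l = uQ (.ofAdd (c⁻¹ * c⁻¹ * z)) := by
    intro l c hc0 hc z
    have h1 := hc (c⁻¹ * c⁻¹ * z)
    rw [show c * c * (c⁻¹ * c⁻¹ * z) = z by field_simp] at h1
    rw [← h1]; group
  rw [show x * y * x⁻¹ * y⁻¹ * uQ (.ofAdd (1 : F)) * (x * y * x⁻¹ * y⁻¹)⁻¹ =
    x * (y * (x⁻¹ * (y⁻¹ * uQ (.ofAdd (1 : F)) * y) * x) * y⁻¹) * x⁻¹ by group,
    hinv hb0 hb, hinv ha0 ha, hb, ha]
  congr 2
  field_simp

/-- A subgroup of `L` with a self-centralising four-group cycled by an element of itself has order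
`12` or `60`. -/
theorem card_eq_of_embedding (h : Mod8 F) {J : Subgroup G} (φ : J →* PST) (hφ : Function.Injective φ)
    {e e₁ v : G} (he : e ∈ J) (hv : v ∈ J) (he0 : e ≠ 1) (hee : e * e = 1)
    (hcomm : e * e₁ = e₁ * e) (hne : e₁ ≠ e) (hve : v * e * v⁻¹ = e₁)
    (hve₁ : v * e₁ * v⁻¹ = e * e₁)
    (hcent : ∀ x ∈ J, ∀ z, z = e ∨ z = e₁ ∨ z = e * e₁ → x * z = z * x → InFour e e₁ x) :
    Nat.card J = 12 ∨ Nat.card J = 60 := by
  classical
  have he₁ : e₁ ∈ J := hve ▸ mul_mem (mul_mem hv he) (inv_mem hv)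
  have he₁0 : e₁ ≠ 1 := fun h1 => he0 (conj_eq_one_iff.1 (hve.trans h1))
  have he₁₁ : e₁ * e₁ = 1 := by
    rw [← hve, show v * e * v⁻¹ * (v * e * v⁻¹) = v * (e * e) * v⁻¹ by group, hee]; group
  have hJ4 : Nat.card {x : J // x * ⟨e, he⟩ = ⟨e, he⟩ * x} ≤ 4 := by
    let l : Fin 4 → J := ![1, ⟨e, he⟩, ⟨e₁, he₁⟩, ⟨e, he⟩ * ⟨e₁, he₁⟩]
    refine (Nat.card_mono (Set.finite_range l) ?_).trans ((Finite.card_range_le l).trans (by simp))
    intro x (hx : x * ⟨e, he⟩ = ⟨e, he⟩ * x)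
    rcases hcent x x.2 e (Or.inl rfl) (congrArg Subtype.val hx) with h | h | h | h
    · exact ⟨0, Subtype.ext h.symm⟩
    · exact ⟨1, Subtype.ext h.symm⟩
    · exact ⟨2, Subtype.ext h.symm⟩
    · exact ⟨3, Subtype.ext h.symm⟩
  have h8 : ¬ 8 ∣ Nat.card J := by
    intro hd
    have h1 := hd.trans (Subgroup.card_dvd_of_injective φ hφ)
    rw [natCard_L h] at h1
    have ho : Odd (Fintype.card F * rOf F * uOf F) :=
      ((odd_card h).mul (odd_r h)).mul (odd_u h)
    obtain ⟨j, hj⟩ := ho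
    rw [show 4 * Fintype.card F * rOf F * uOf F = 4 * (Fintype.card F * rOf F * uOf F) by ring, hj] at h1
    omega
  obtain ⟨p, hp⟩ := CharP.exists F
  haveI := hp
  obtain ⟨k, hpp, hq⟩ := FiniteField.card F p
  haveI : Fact p.Prime := ⟨hpp⟩
  let χ : J ≃* φ.range := MonoidHom.ofInjective hφ
  rcases Cfsg.Agent.S0799.result (rfl : Fintype.card F = Fintype.card F) p φ.range with
    ⟨k', -, hcyc | ⟨⟨f⟩⟩⟩ | ⟨P, K, hK, ⟨f⟩⟩ | ⟨⟨f⟩⟩ | ⟨⟨f⟩⟩ | ⟨⟨f⟩⟩ | ⟨K, _, _, m, hKm, hiso⟩
  · exfalso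
    haveI := hcyc.1
    haveI : IsCyclic J := isCyclic_of_surjective χ.symm χ.symm.surjective
    letI : CommGroup J := IsCyclic.commGroup
    have h := congrArg Subtype.val (mul_comm (⟨v, hv⟩ : J) ⟨e, he⟩)
    simp only [Subgroup.coe_mul] at h
    rw [h, mul_inv_cancel_right] at hve
    exact hne hve.symm
  · exfalso
    let g := χ.trans f
    have hcm : ∀ x y : J, g x * g y = g y * g x → x * y = y * x := fun x y h =>
      g.injective (by rw [map_mul, map_mul, h])
    have hnc : ∀ (x y : G) (hx : x ∈ J) (hy : y ∈ J), x * y ≠ y * x →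
        g ⟨x, hx⟩ * g ⟨y, hy⟩ ≠ g ⟨y, hy⟩ * g ⟨x, hx⟩ := fun x y hx hy h h' =>
      h (congrArg Subtype.val (hcm ⟨x, hx⟩ ⟨y, hy⟩ h'))
    have hve' : v * e ≠ e * v := fun h => hne (by rw [← hve, h, mul_inv_cancel_right])
    have heq₁ : (⟨e₁, he₁⟩ : J) = ⟨v, hv⟩ * ⟨e, he⟩ * ⟨v, hv⟩⁻¹ := Subtype.ext hve.symm
    cases hgv : g ⟨v, hv⟩ with
    | r a =>
      cases hge : g ⟨e, he⟩ with
      | r b => exact hnc v e hv he hve' (by rw [hgv, hge, DihedralGroup.r_mul_r,
          DihedralGroup.r_mul_r, add_comm])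
      | sr b =>
        have hprod : v * (e * e₁) ≠ e * e₁ * v := by
          intro h
          have h' : v * (e * e₁) * v⁻¹ = e * e₁ := by rw [h, mul_inv_cancel_right]
          rw [show v * (e * e₁) * v⁻¹ = v * e * v⁻¹ * (v * e₁ * v⁻¹) by group, hve, hve₁] at h'
          have h1 : e₁ = 1 := mul_left_cancel (a := e * e₁) (by
            rw [mul_one]
            calc e * e₁ * e₁ = e₁ * e * e₁ := by rw [hcomm]
              _ = e₁ * (e * e₁) := mul_assoc _ _ _
              _ = e * e₁ := h')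
          exact he₁0 h1
        refine hnc v (e * e₁) hv (mul_mem he he₁) hprod ?_
        rw [show (⟨e * e₁, mul_mem he he₁⟩ : J) = ⟨e, he⟩ * ⟨e₁, he₁⟩ from rfl, heq₁, map_mul,
          map_mul, map_mul, map_inv, hgv, hge]
        simp only [DihedralGroup.inv_r, DihedralGroup.r_mul_sr, DihedralGroup.sr_mul_r,
          DihedralGroup.sr_mul_sr, DihedralGroup.r_mul_r, add_comm]
    | sr a =>
      have h2 : g ⟨v, hv⟩ * g ⟨v, hv⟩ = 1 := by rw [hgv, DihedralGroup.sr_mul_sr, sub_self]; rfl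
      rw [← map_mul, ← map_one g] at h2
      have hvv : v * v = 1 := congrArg Subtype.val (g.injective h2)
      have h : e = e * e₁ := by
        conv_lhs => rw [show e = (v * v) * e * (v * v)⁻¹ by rw [hvv, one_mul, inv_one, mul_one]]
        rw [show (v * v) * e * (v * v)⁻¹ = v * (v * e * v⁻¹) * v⁻¹ by group, hve, hve₁]
      rw [left_eq_mul] at h
      exact he₁0 h
  · -- inside a Borel subgroup
    exfalso
    have hcardP : Nat.card (subQ (F := F)) = Nat.card (P : Subgroup PST) := by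
      rw [natCard_subQ, Nat.card_eq_fintype_card, hq, P.card_eq_multiplicity, natCard_L h]
      congr 1
      rw [show 4 * Fintype.card F * rOf F * uOf F = Fintype.card F * (4 * rOf F * uOf F) by ring, hq,
        Nat.factorization_mul (pow_ne_zero _ hpp.ne_zero) (by
          have := three_le_r h; have := five_le_u h; positivity), Finsupp.add_apply,
        hpp.factorization_pow, Finsupp.single_eq_same, Nat.factorization_eq_zero_of_not_dvd ?_,
        add_zero]
      intro hd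
      have h1 : p ∣ Fintype.card F ^ 2 - 1 := by
        rw [sq_sub_one h]; exact hd.trans ⟨2, by ring⟩
      have h2 : p ∣ Fintype.card F ^ 2 := by rw [hq]; exact dvd_pow (dvd_pow_self p k.ne_zero) two_ne_zero
      have h3 := Nat.dvd_sub h2 h1
      have : 1 ≤ Fintype.card F ^ 2 := Nat.one_le_pow _ _ Fintype.card_pos
      rw [show Fintype.card F ^ 2 - (Fintype.card F ^ 2 - 1) = 1 by omega] at h3
      exact hpp.one_lt.ne' (Nat.dvd_one.1 h3)
    let P0 : Sylow p PST := Sylow.ofCard (subQ (F := F))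
      (hcardP.trans P.card_eq_multiplicity)
    obtain ⟨l, hl⟩ := MulAction.exists_smul_eq PST P P0
    let g : J →* PST :=
      (MulAut.conj l).toMonoidHom.comp (K.subtype.comp (χ.trans f).toMonoidHom)
    have hg : Function.Injective g :=
      (MulAut.conj l).injective.comp (K.subtype_injective.comp (χ.trans f).injective)
    have hone : (uQ (.ofAdd (1 : F)) : PST) ≠ 1 := fun e =>
      one_ne_zero (α := F) (congrArg Multiplicative.toAdd (uQ_injective (e.trans (map_one uQ).symm)))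
    have hB : ∀ x : J, InB (g x) := by
      intro x
      have hx : g x ∈ Subgroup.normalizer ((P0 : Subgroup PST) : Set PST) := by
        refine smul_sylow_eq_iff.1 ?_
        rw [← hl]
        show (l * ((χ.trans f) x : PST) * l⁻¹) • (l • P) = l • P
        rw [← mul_smul, inv_mul_cancel_right, mul_smul, smul_sylow_eq_iff.2 (hK ((χ.trans f) x).2)]
      exact inB_of_conj (two_ne_F h) (y := uQ (.ofAdd (1 : F))) ⟨_, rfl⟩ hone
        ((Subgroup.mem_normalizer_iff.1 hx _).1 (show uQ (.ofAdd (1 : F)) ∈ (P0 : Subgroup PST) from ⟨_, rfl⟩))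
    obtain ⟨Q0, hQ0⟩ : ∃ Q0 : Subgroup G, Q0 = ((subQ (F := F)).comap g).map J.subtype := ⟨_, rfl⟩
    have hodd : Odd (Nat.card Q0) := by
      rw [hQ0, Subgroup.card_map_of_injective J.subtype_injective]
      refine (odd_card h).of_dvd_nat ?_
      rw [← Nat.card_eq_fintype_card, ← natCard_subQ (F := F)]
      exact Subgroup.card_comap_dvd_of_injective _ g hg
    have hnormal : ∀ z, z ∈ J → z * z = 1 → ∀ x ∈ Q0, z * x * z ∈ Q0 := by
      intro z hz hzz y hy
      rw [hQ0] at hy ⊢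
      obtain ⟨x, hx, rfl⟩ := hy
      refine ⟨⟨z, hz⟩ * x * ⟨z, hz⟩⁻¹, ?_, by
        show z * (x : G) * z⁻¹ = _
        rw [inv_eq_of_mul_eq_one_right hzz]; rfl⟩
      obtain ⟨a, ha⟩ := hx
      obtain ⟨b, -, hb⟩ := inB_conj (hB ⟨z, hz⟩)
      show g (⟨z, hz⟩ * x * ⟨z, hz⟩⁻¹) ∈ subQ
      rw [map_mul, map_mul, map_inv, ← ha, show a = .ofAdd (Multiplicative.toAdd a) from rfl, hb]
      exact ⟨_, rfl⟩
    have hbot : ∀ z, z = e ∨ z = e₁ ∨ z = e * e₁ → ∀ x ∈ Q0, x * z = z * x →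
        x ∈ (⊥ : Subgroup G) := by
      intro z hz x hx hxz
      rw [Subgroup.mem_bot]
      have h4 := hcent x (Subgroup.map_subtype_le _ (hQ0 ▸ hx)) z hz hxz
      exact congrArg Subtype.val (sq_eq_one_imp hodd (x := (⟨x, hx⟩ : Q0))
        (Subtype.ext (inFour_sq hee he₁₁ hcomm h4)))
    have hle := le_of_four Q0 hodd hee he₁₁ hcomm (hnormal e he hee) (hnormal e₁ he₁ he₁₁) ⊥
      (hbot e (Or.inl rfl)) (hbot e₁ (Or.inr (Or.inl rfl))) (hbot _ (Or.inr (Or.inr rfl)))
      (fun x hx => by rw [Subgroup.mem_bot.1 hx]; simp)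
    have h1 : v * e * v⁻¹ * e⁻¹ ∈ Q0 := by
      rw [hQ0]
      refine ⟨⟨v, hv⟩ * ⟨e, he⟩ * ⟨v, hv⟩⁻¹ * ⟨e, he⟩⁻¹, ?_, rfl⟩
      show g _ ∈ subQ
      rw [map_mul, map_mul, map_mul, map_inv, map_inv]
      exact commutator_inB h (hB _) (hB _)
    have h2 := Subgroup.mem_bot.1 (hle h1)
    rw [hve, mul_inv_eq_one] at h2
    exact hne h2
  · left
    rw [Nat.card_congr (χ.trans f).toEquiv, nat_card_alternatingGroup]
    simp [Nat.card_eq_fintype_card, Nat.factorial]
  · refine absurd ?_ h8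
    rw [Nat.card_congr (χ.trans f).toEquiv, Nat.card_perm]
    simp [Nat.card_eq_fintype_card, Nat.factorial]
  · right
    rw [Nat.card_congr (χ.trans f).toEquiv, nat_card_alternatingGroup]
    simp [Nat.card_eq_fintype_card, Nat.factorial]
  · have hm0 : m ≠ 0 := fun h0 => by
      rw [h0, pow_zero] at hKm
      have := h.1
      omega
    have hKo : Odd (Fintype.card K) := (odd_card h).of_dvd_nat (hKm ▸ dvd_pow_self _ hm0)
    have hK1 : 2 ≤ Fintype.card K := Fintype.one_lt_card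
    rcases hiso with ⟨⟨f⟩⟩ | ⟨⟨f⟩⟩
    · have hc := Linear.card_PSL_two_odd (F := K) hKo
      rw [← Nat.card_congr (χ.trans f).toEquiv] at hc
      have hK2 := SL2Tori.two_ne_zero_of_odd hKo
      let g := χ.trans f
      obtain ⟨M, hM1, hM2, -, -, -, hM4⟩ := exists_involution_tor_odd hK2 (i := g ⟨e, he⟩)
        (fun h => he0 (congrArg Subtype.val (g.injective (h.trans (map_one g).symm))))
        (by rw [← map_mul, ← map_one g]; exact congrArg g (Subtype.ext hee))
      have hle : Nat.card (torN M) ≤ 4 := le_trans (Nat.card_le_card_of_injective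
        (fun x : torN M => (⟨g.symm x.1, g.injective (by
          rw [map_mul, map_mul, MulEquiv.apply_symm_apply]; exact (hM4 x.1).2 x.2)⟩ :
            {x : J // x * ⟨e, he⟩ = ⟨e, he⟩ * x}))
        (fun a b hab => Subtype.ext (g.symm.injective (congrArg (fun y : {x : J // _} => y.1) hab)))) hJ4
      rw [natCard_torN hM1 hK2] at hle
      have hK5 : Fintype.card K = 3 ∨ Fintype.card K = 5 := by
        obtain ⟨j, hj⟩ := hKo
        omega
      rcases hK5 with e5 | e5 <;> rw [e5] at hc <;> norm_num at hc <;> omega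
    · refine absurd ?_ h8
      rw [Nat.card_congr (χ.trans f).toEquiv, Linear.card_PGL, Linear.card_SL_two]
      obtain ⟨a, ha⟩ := hKo
      have : (2 * a + 1) ^ 2 - 1 = 4 * (a * (a + 1)) := by
        rw [show (2 * a + 1) ^ 2 = 4 * (a * (a + 1)) + 1 by ring, Nat.add_sub_cancel]
      rw [ha, this]
      obtain ⟨b, hb⟩ := Nat.even_mul_succ_self a
      exact Dvd.dvd.mul_left ⟨b, by omega⟩ _

end CfsgLib.JankoThompson
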