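import Cfsg.Agent.ReeTypeS3.Local
import Cfsg.Agent.Linear.SylowChar
import Cfsg.Agent.Transfer.Fusion
import Cfsg.Agent.TwoTransTwo.Mersenne
import Cfsg.Agent.S0205
import Cfsg.Agent.S3360
import Mathlib

/-!
# No simple group has an involution centraliser `Z₂ × SL₂(2ⁿ)`, `n ≥ 3`, and abelian Sylow 2-subgroups

The automizer of the Sylow 2-subgroup would be a solvable group of odd order transitive on the
`2q - 1` involutions with a point stabiliser of order at least `q - 1`, hence semilinear over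
`GF(2q)`, and the stabiliser of a point would have order at most `n + 1`.
-/

set_option autoImplicit false
set_option linter.unusedSectionVars false
set_option linter.style.haveILetI false

namespace CfsgLib.JankoThompson

open Matrix CfsgLib.ReeTypeS3 CfsgLib.Linear
open scoped MatrixGroups commutatorElement

universe u v

theorem z2_cases' : ∀ z : ZMod 2, z = 0 ∨ z = 1 := by decide

theorem z2_shift : ∀ z i : ZMod 2, z = i ∨ z = i + 1 := by decide

theorem z2_mul_cases : ∀ z : Multiplicative (ZMod 2), z = 1 ∨ z = Multiplicative.ofAdd 1 := by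
  decide

variable {F : Type v} [Field F] [Fintype F]

/-- The diagonal element `(a, a⁻¹)`. -/
def diagSL (a : Fˣ) : SL(2, F) :=
  ⟨!![(a : F), 0; 0, ((a⁻¹ : Fˣ) : F)], by simp [Matrix.det_fin_two]⟩

theorem diagSL_conj (a : Fˣ) (x : F) :
    diagSL a * upperUni x * (diagSL a)⁻¹ = upperUni ((a : F) * a * x) := by
  rw [mul_inv_eq_iff_eq_mul]
  refine Subtype.ext ?_
  show !![(a : F), 0; 0, ((a⁻¹ : Fˣ) : F)] * (upperUni x).1 =
    (upperUni ((a : F) * a * x)).1 * !![(a : F), 0; 0, ((a⁻¹ : Fˣ) : F)]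
  rw [upperUni_val, upperUni_val, Matrix.mul_fin_two, Matrix.mul_fin_two]
  simp only [Units.val_inv_eq_inv_val]
  have := a.ne_zero
  ext i j
  fin_cases i <;> fin_cases j <;> simp <;> field_simp

variable [CharP F 2]

/-- The centraliser of a root element is the root group, in characteristic two. -/
theorem eq_upperUni_of_comm {l : SL(2, F)} (h : l * upperUni 1 = upperUni 1 * l) :
    l = upperUni (l.1 0 1) := by
  have h00 := congrArg (fun g : SL(2, F) => g.1 0 0) h
  have h01 := congrArg (fun g : SL(2, F) => g.1 0 1) h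
  simp [upperUni_val, Matrix.mul_apply, Fin.sum_univ_two] at h00 h01
  have h10 : l.1 1 0 = 0 := by linear_combination h00
  have h11 : l.1 1 1 = l.1 0 0 := by linear_combination -h01
  have hd := l.2
  rw [Matrix.det_fin_two, h10, h11, mul_zero, sub_zero] at hd
  have ha : l.1 0 0 = 1 := by
    rcases mul_self_eq_one_iff.1 hd with e | e
    · exact e
    · rw [e, CharTwo.neg_eq]
  refine Subtype.ext ?_
  ext i j
  fin_cases i <;> fin_cases j <;> simp [upperUni_val, h10, h11, ha]

variable {G : Type u} [Group G] [Finite G]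

/-- No simple group has an involution centraliser `Z₂ × SL₂(2ⁿ)` with `n ≥ 3` and abelian Sylow
2-subgroups. -/
theorem false_of_even (E : Emb G SL(2, F)) (hperf : commutator G = ⊤)
    (hab : ∀ P : Sylow 2 G, ∀ a b : P, a * b = b * a) {n : ℕ} (hn : 3 ≤ n)
    (hq : Fintype.card F = 2 ^ n) : False := by
  classical
  haveI := Fintype.ofFinite G
  haveI : Fact (Nat.Prime 2) := ⟨Nat.prime_two⟩
  let _ : Module (ZMod 2) (ZMod 2 × F) := AddCommGroup.zmodModule fun x => by
    rw [two_nsmul]
    exact Prod.ext (CharTwo.add_self_eq_zero x.1) (CharTwo.add_self_eq_zero x.2)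
  have hV2 : ∀ v : ZMod 2 × F, v + v = 0 := fun x =>
    Prod.ext (CharTwo.add_self_eq_zero x.1) (CharTwo.add_self_eq_zero x.2)
  have hne : Multiplicative.ofAdd (1 : ZMod 2) ≠ 1 := fun h =>
    one_ne_zero (α := ZMod 2) (congrArg Multiplicative.toAdd h)
  have hprod1 : ∀ l, E.prodHom (1, l) = E.ι l := fun l => by simp [Emb.prodHom]
  have hprodt : E.prodHom (Multiplicative.ofAdd 1, 1) = E.t := by simp [Emb.prodHom, hne]
  -- the Sylow subgroup `⟨t⟩ × U`
  let ψ : Multiplicative (ZMod 2 × F) →* G :=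
    E.prodHom.comp (MonoidHom.mk' (fun v => (Multiplicative.ofAdd v.toAdd.1, upperUni v.toAdd.2))
      fun v w => Prod.ext rfl (Matrix.SpecialLinearGroup.transvection_add zero_ne_one _ _))
  let f : ZMod 2 × F → G := fun v => ψ (Multiplicative.ofAdd v)
  have hfadd : ∀ v w, f (v + w) = f v * f w := fun v w => map_mul ψ _ _
  have hfinj : Function.Injective f := fun v w h => by
    have h' : (Multiplicative.ofAdd v.1, upperUni v.2) = (Multiplicative.ofAdd w.1, upperUni w.2) :=
      E.prodHom_injective h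
    exact Prod.ext (Multiplicative.ofAdd.injective (Prod.ext_iff.1 h').1)
      (upperUni_injective (congrArg Prod.snd h'))
  have hf10 : f (1, 0) = E.t := by
    show E.prodHom (Multiplicative.ofAdd 1, upperUni 0) = E.t
    rw [show (upperUni (0 : F)) = 1 from Matrix.SpecialLinearGroup.transvection_coeff_zero _, hprodt]
  have hf01 : f (0, 1) = E.ι (upperUni 1) := hprod1 _
  have hrp : IsPGroup 2 ψ.range := by
    rintro ⟨_, v, rfl⟩
    refine ⟨1, Subtype.ext ?_⟩
    rw [pow_one, Subgroup.coe_pow, pow_two, Subgroup.coe_one, ← map_mul,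
      show v * v = 1 from hV2 v.toAdd, map_one]
  obtain ⟨P, hP⟩ := hrp.exists_le_sylow
  have hPcomm : ∀ x ∈ (P : Subgroup G), ∀ y ∈ (P : Subgroup G), x * y = y * x := fun x hx y hy =>
    congrArg Subtype.val (hab P ⟨x, hx⟩ ⟨y, hy⟩)
  have hfP : ∀ v, f v ∈ (P : Subgroup G) := fun v => hP ⟨_, rfl⟩
  have hmemP : ∀ x, x ∈ (P : Subgroup G) ↔ ∃ v, f v = x := fun x => by
    refine ⟨fun hx => ?_, fun ⟨v, hv⟩ => hv ▸ hfP v⟩
    obtain ⟨⟨z, l⟩, rfl⟩ : x ∈ E.prodHom.range := by
      rw [E.range_prodHom, Subgroup.mem_centralizer_singleton_iff, ← hf10]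
      exact hPcomm x hx _ (hfP _)
    have hc := hPcomm _ hx _ (hfP (0, 1))
    rw [hf01, ← hprod1, ← map_mul, ← map_mul] at hc
    have hl := eq_upperUni_of_comm (congrArg Prod.snd (E.prodHom_injective hc))
    exact ⟨(z.toAdd, l.1 0 1), by
      show E.prodHom (Multiplicative.ofAdd z.toAdd, upperUni (l.1 0 1)) = _
      rw [← hl]; rfl⟩
  -- the automizer
  set N := Subgroup.normalizer ((P : Subgroup G) : Set G) with hN
  have hconj : ∀ (g : N) (v : ZMod 2 × F), ∃ w, f w = (g : G) * f v * (g : G)⁻¹ := fun g v =>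
    (hmemP _).1 ((Subgroup.mem_normalizer_iff.1 g.2 _).1 (hfP v))
  choose c hc using hconj
  have hc1 : ∀ v, c 1 v = v := fun v => hfinj (by rw [hc]; simp)
  have hcmul : ∀ g k v, c (g * k) v = c g (c k v) := fun g k v => hfinj (by
    rw [hc, hc, hc, Subgroup.coe_mul]; group)
  have hcadd : ∀ g v w, c g (v + w) = c g v + c g w := fun g v w => hfinj (by
    rw [hc, hfadd, hfadd, hc, hc]; group)
  let ρ : N →* ((ZMod 2 × F) ≃ₗ[ZMod 2] (ZMod 2 × F)) :=
    MonoidHom.mk' (fun g =>
      { toFun := c g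
        invFun := c g⁻¹
        left_inv := fun v => by rw [← hcmul, inv_mul_cancel, hc1]
        right_inv := fun v => by rw [← hcmul, mul_inv_cancel, hc1]
        map_add' := hcadd g
        map_smul' := fun r v => ZMod.map_smul (AddMonoidHom.mk' (c g) (hcadd g)) r v })
      fun g k => LinearEquiv.ext fun v => hcmul g k v
  set A := ρ.range with hA
  haveI : Finite ((ZMod 2 × F) ≃ₗ[ZMod 2] (ZMod 2 × F)) :=
    Finite.of_injective _ DFunLike.coe_injective
  have hodd : Odd (Nat.card A) := by
    have hle : (P : Subgroup G).subgroupOf N ≤ ρ.ker := fun g hg => by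
      refine MonoidHom.mem_ker.2 (LinearEquiv.ext fun v => hfinj ?_)
      show f (c g v) = f v
      rw [hc, hPcomm _ (Subgroup.mem_subgroupOf.1 hg) _ (hfP v), mul_inv_cancel_right]
    rw [hA, ← Subgroup.index_ker, ← Nat.not_even_iff_odd, even_iff_two_dvd]
    exact fun h => P.not_dvd_index ((h.trans (Subgroup.index_dvd_of_le hle)).trans
      (Subgroup.relIndex_dvd_index_of_le Subgroup.le_normalizer))
  -- the torus
  have htor : ∀ a : Fˣ, ∃ g : N, ∀ v, c g v = (v.1, (a : F) * a * v.2) := fun a => by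
    have key : ∀ (b : Fˣ) v, E.ι (diagSL b) * f v * (E.ι (diagSL b))⁻¹ =
        f (v.1, (b : F) * b * v.2) := fun b v => by
      show _ * E.prodHom (Multiplicative.ofAdd v.1, upperUni v.2) * _ =
        E.prodHom (Multiplicative.ofAdd v.1, upperUni ((b : F) * b * v.2))
      rw [← hprod1, ← map_inv, ← map_mul, ← map_mul, Prod.inv_mk, Prod.mk_mul_mk, Prod.mk_mul_mk,
        inv_one, one_mul, mul_one, diagSL_conj]
    have hmem : E.ι (diagSL a) ∈ N := by
      rw [hN, Subgroup.mem_normalizer_iff]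
      intro x
      constructor
      · intro hx
        obtain ⟨v, rfl⟩ := (hmemP x).1 hx
        rw [key]; exact hfP _
      · intro hx
        obtain ⟨w, hw⟩ := (hmemP _).1 hx
        have hxe : x = f (w.1, ((a⁻¹ : Fˣ) : F) * ((a⁻¹ : Fˣ) : F) * w.2) := by
          refine mul_left_cancel (a := E.ι (diagSL a)) (mul_right_cancel (b := (E.ι (diagSL a))⁻¹) ?_)
          rw [← hw, key]
          congr 1
          refine Prod.ext rfl ?_
          simp only [Units.val_inv_eq_inv_val]
          field_simp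
        rw [hxe]; exact hfP _
    exact ⟨⟨_, hmem⟩, fun v => hfinj (by rw [hc]; exact key a v)⟩
  -- some element of the normaliser moves `t`
  obtain ⟨g₀, hg₀⟩ : ∃ g : N, c g (1, 0) ≠ (1, 0) := by
    by_contra hall
    push Not at hall
    have hfoc := Transfer.commutator_inf_eq_of_controlsFusion P (N := N) Subgroup.le_normalizer
      (Transfer.controlsFusion_normalizer_of_isMulCommutative P
        ⟨⟨fun a b => hab P a b⟩⟩)
    rw [hperf, top_inf_eq] at hfoc
    have ht : E.t ∈ ⁅N, N⁆ :=
      (hfoc ▸ hf10 ▸ hfP (1, 0) : E.t ∈ ⁅N, N⁆ ⊓ (P : Subgroup G)).1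
    have hle : ⁅N, N⁆ ≤ E.ι.range := Subgroup.commutator_le.2 fun g hg k hk => by
      have hmem : ∀ g ∈ N, ∃ p, E.prodHom p = g := fun g hg => by
        rw [← MonoidHom.mem_range, E.range_prodHom, Subgroup.mem_centralizer_singleton_iff, ← hf10]
        have h := hc ⟨g, hg⟩ (1, 0)
        rw [hall, eq_mul_inv_iff_mul_eq] at h
        exact h.symm
      obtain ⟨p, rfl⟩ := hmem g hg
      obtain ⟨r, rfl⟩ := hmem k hk
      refine ⟨⁅p.2, r.2⁆, ?_⟩
      rw [← hprod1, ← map_commutatorElement]
      congr 1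
      refine Prod.ext ?_ rfl
      show (1 : Multiplicative (ZMod 2)) = ⁅p.1, r.1⁆
      exact (commutatorElement_eq_one_iff_mul_comm.2 (mul_comm _ _)).symm
    obtain ⟨l, hl⟩ := hle ht
    exact E.notMem l hl
  -- transitivity
  set v₀ : ZMod 2 × F := (1, 0) with hv₀
  set O := MulAction.orbit A v₀ with hO
  have hOmem : ∀ g : N, c g v₀ ∈ O := fun g => ⟨⟨ρ g, g, rfl⟩, rfl⟩
  have hOA : ∀ g : N, ∀ v ∈ O, c g v ∈ O := by
    rintro g _ ⟨⟨_, k, rfl⟩, rfl⟩
    show c g (c k v₀) ∈ O
    rw [← hcmul]
    exact hOmem _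
  have hzero : ∀ x ∈ O, x ≠ 0 := by
    rintro _ ⟨⟨_, k, rfl⟩, rfl⟩ h
    have h0 : c k v₀ = c k 0 := by
      rw [show c k 0 = 0 from map_zero (AddMonoidHom.mk' (c k) (hcadd k))]
      exact h
    have := (ρ k).injective h0
    exact one_ne_zero (congrArg Prod.fst this : (1 : ZMod 2) = 0)
  have hv₀O : v₀ ∈ O := MulAction.mem_orbit_self _
  have hfam : ∀ (i : ZMod 2) (x y : F), x ≠ 0 → y ≠ 0 → (i, x) ∈ O → (i, y) ∈ O := by
    intro i x y hx hy h
    obtain ⟨b, hb⟩ := FiniteField.isSquare_of_char_two (ringChar.eq F 2) (y * x⁻¹)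
    have hb0 : b ≠ 0 := fun e => by simp [e, hx, hy] at hb
    obtain ⟨g, hg⟩ := htor (Units.mk0 b hb0)
    have := hOA g _ h
    rw [hg] at this
    simp only [Units.val_mk0] at this
    rwa [show b * b * x = y by rw [← hb, mul_assoc, inv_mul_cancel₀ hx, mul_one]] at this
  obtain ⟨i, x₁, hx₁, hix⟩ : ∃ (i : ZMod 2) (x : F), x ≠ 0 ∧ (i, x) ∈ O := by
    refine ⟨(c g₀ v₀).1, (c g₀ v₀).2, fun h => ?_, hOmem g₀⟩
    rcases z2_cases' (c g₀ v₀).1 with e | e
    · exact hzero _ (hOmem g₀) (Prod.ext e h)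
    · exact hg₀ (Prod.ext e h)
  obtain ⟨y₁, hy₁, hiy⟩ : ∃ y : F, y ≠ 0 ∧ (i + 1, y) ∈ O := by
    by_contra hcon
    push Not at hcon
    let emb : F → ZMod 2 × F := fun y => if y = 0 then v₀ else (i, y)
    have hemb : O = Set.range emb := by
      ext w
      constructor
      · intro hw
        by_cases hy : w.2 = 0
        · refine ⟨0, ?_⟩
          simp only [emb, if_true]
          rcases z2_cases' w.1 with e | e
          · exact absurd (Prod.ext e hy) (hzero w hw)
          · exact (Prod.ext e hy : w = v₀).symm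
        · refine ⟨w.2, ?_⟩
          simp only [emb, if_neg hy]
          rcases z2_shift w.1 i with e | e
          · exact Prod.ext e.symm rfl
          · exact absurd (e ▸ hw : (i + 1, w.2) ∈ O) (hcon _ hy)
      · rintro ⟨y, rfl⟩
        by_cases hy : y = 0
        · simp only [emb, if_pos hy]; exact hv₀O
        · simp only [emb, if_neg hy]; exact hfam i x₁ y hx₁ hy hix
    have hinj : Function.Injective emb := fun y z h => by
      by_cases hy : y = 0 <;> by_cases hz : z = 0 <;>
        simp only [emb, hv₀, hy, hz, if_true, if_false, Prod.ext_iff] at h ⊢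
      · exact (hz h.2.symm).elim
      · exact h.2.elim
      · exact h.2
    have hcard : O.ncard = Fintype.card F := by
      rw [hemb, ← Nat.card_coe_set_eq, Nat.card_range_of_injective hinj, Nat.card_eq_fintype_card]
    have hd : O.ncard ∣ Nat.card A := by
      rw [hO, ← MulAction.index_stabilizer]
      exact Subgroup.index_dvd_card _
    rw [hcard, hq] at hd
    exact hodd.not_two_dvd_nat ((dvd_pow_self 2 (by omega)).trans hd)
  have hall : ∀ v : ZMod 2 × F, v ≠ 0 → v ∈ O := by
    rintro ⟨j, y⟩ hv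
    by_cases hy : y = 0
    · subst hy
      rcases z2_cases' j with rfl | rfl
      · exact absurd rfl hv
      · exact hv₀O
    · rcases z2_shift j i with rfl | rfl
      · exact hfam _ x₁ y hx₁ hy hix
      · exact hfam _ y₁ y hy₁ hy hiy
  -- semilinearity
  have hcardV : Nat.card (ZMod 2 × F) = 2 ^ (n + 1) := by
    rw [Nat.card_prod, Nat.card_zmod, Nat.card_eq_fintype_card, hq, pow_succ']
  have htrans : ∀ v w : ZMod 2 × F, v ≠ 0 → w ≠ 0 → ∃ g : A, A.subtype g v = w := fun v w hv hw => by
    obtain ⟨g, hg⟩ := hall v hv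
    obtain ⟨k, hk⟩ := hall w hw
    refine ⟨k * g⁻¹, ?_⟩
    show (k * g⁻¹) • v = w
    rw [← hg, ← mul_smul, inv_mul_cancel_right]
    exact hk
  rcases Cfsg.Agent.S3360.result 2 (Cfsg.Agent.S0205.result hodd) A.subtype A.subtype_injective
      htrans with ⟨K, _, _, e, he⟩ | h9
  · choose a σ haσ using he
    have hK : Nat.card K = 2 ^ (n + 1) := by rw [← hcardV, Nat.card_congr e.toEquiv]
    choose d hd using htor
    let τ : Fˣ → A := fun b => ⟨ρ (d b), d b, rfl⟩
    have hτ : ∀ b v, A.subtype (τ b) v = (v.1, (b : F) * b * v.2) := fun b v => hd b v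
    have he0 : e v₀ ≠ 0 := fun h =>
      hzero v₀ hv₀O (e.injective (h.trans (map_zero e).symm))
    have hinj : Function.Injective fun b => σ (τ b) := fun b b' hbb => by
      simp only at hbb
      have h1 := haσ (τ b) v₀
      have h2 := haσ (τ b') v₀
      simp only [hτ, hv₀, mul_zero] at h1 h2
      rw [← hv₀, ← hbb] at h2
      rw [← hv₀] at h1
      have hs : σ (τ b) (e v₀) ≠ 0 := fun h => he0 ((σ (τ b)).injective (h.trans (map_zero _).symm))
      have haa : a (τ b) = a (τ b') := mul_right_cancel₀ hs (h1.symm.trans h2)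
      have h3 := haσ (τ b) (0, 1)
      have h4 := haσ (τ b') (0, 1)
      rw [haa, hbb, ← h4] at h3
      have h5 := congrArg Prod.snd (e.injective h3)
      simp only [hτ, mul_one] at h5
      exact Units.ext (CharTwo.sq_injective (R := F) (by simpa [pow_two] using h5))
    haveI : Finite (K ≃+* K) := Finite.of_injective _ DFunLike.coe_injective
    have hle := Nat.card_le_card_of_injective _ hinj
    have hdv := Nat.le_of_dvd (by omega) (TwoTransTwo.card_ringAut_semilinear hK (by omega)
      (id : (K ≃+* K) → (K ≃+* K)) Function.injective_id fun _ _ _ => rfl)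
    rw [Nat.card_eq_fintype_card, Fintype.card_units, hq] at hle
    have : ∀ m, 3 ≤ m → m + 3 < 2 ^ m := fun m hm => by
      induction m, hm using Nat.le_induction with
      | base => norm_num
      | succ k _ ih => rw [pow_succ]; omega
    have := this n hn
    omega
  · rw [hcardV] at h9
    have h2 : 2 ∣ 2 ^ (n + 1) := dvd_pow_self 2 (by omega)
    simp only [Set.mem_insert_iff, Set.mem_singleton_iff] at h9
    omega

end CfsgLib.JankoThompson
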