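import Cfsg.Agent.JankoThompson.StdCase
import Mathlib

/-!
# One character common to the three base columns: impossible
-/

set_option autoImplicit false
set_option linter.unusedSectionVars false
set_option linter.style.haveILetI false
set_option maxHeartbeats 1000000

namespace CfsgLib.JankoThompson

open Matrix CfsgLib.ReeTypeS3
open scoped MatrixGroups

universe u v

variable {G : Type u} [Group G] [Fintype G] {F : Type v} [Field F] [Fintype F]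

local notation "PST" => Matrix.ProjectiveSpecialLinearGroup (Fin 2) F
local notation "qI" => (Fintype.card F : ℤ)
local notation "rI" => (rOf F : ℤ)

noncomputable local instance (priority := high) instFintypePSTTriCase :
    Fintype (Matrix.ProjectiveSpecialLinearGroup (Fin 2) F) := Fintype.ofFinite _

noncomputable local instance (priority := high) instFintypeSubTriCase
    (H : Subgroup (Matrix.ProjectiveSpecialLinearGroup (Fin 2) F)) : Fintype H := Fintype.ofFinite _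

variable {E : Emb G (Matrix.ProjectiveSpecialLinearGroup (Fin 2) F)}

namespace Dat.Tri

variable {D : Dat E} (hyp : Hyp E) (s : D.Tri)

theorem nd : trivC G ≠ s.A ∧ trivC G ≠ s.B ∧ trivC G ≠ s.C ∧ trivC G ≠ s.P ∧ trivC G ≠ s.R ∧
    trivC G ≠ s.R2 ∧
    s.A ≠ s.B ∧ s.A ≠ s.C ∧ s.A ≠ s.P ∧ s.A ≠ s.R ∧ s.A ≠ s.R2 ∧
    s.B ≠ s.C ∧ s.B ≠ s.P ∧ s.B ≠ s.R ∧ s.B ≠ s.R2 ∧
    s.C ≠ s.P ∧ s.C ≠ s.R ∧ s.C ≠ s.R2 ∧ s.P ≠ s.R ∧ s.P ≠ s.R2 ∧ s.R ≠ s.R2 := by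
  have h := s.nodup
  simp only [List.nodup_cons, List.mem_cons, List.not_mem_nil, List.nodup_nil, or_false,
    not_or, and_true, not_false_eq_true] at h
  grind

theorem x_at : D.vZ 1 s.P = 0 ∧ D.vZ 1 s.R = 0 ∧ D.vZ 1 s.R2 = 0 := by
  have := s.nd
  refine ⟨s.x_zero _ ?_ ?_ ?_ ?_, s.x_zero _ ?_ ?_ ?_ ?_, s.x_zero _ ?_ ?_ ?_ ?_⟩ <;> grind

theorem y_at : D.vH1 (trivC G) = 0 ∧ D.vH1 s.C = 0 ∧ D.vH1 s.R2 = 0 := by
  have := s.nd
  refine ⟨s.y_zero _ ?_ ?_ ?_ ?_, s.y_zero _ ?_ ?_ ?_ ?_, s.y_zero _ ?_ ?_ ?_ ?_⟩ <;> grind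

theorem w_at : D.vH2 (trivC G) = 0 ∧ D.vH2 s.B = 0 ∧ D.vH2 s.R = 0 := by
  have := s.nd
  refine ⟨s.w_zero _ ?_ ?_ ?_ ?_, s.w_zero _ ?_ ?_ ?_ ?_, s.w_zero _ ?_ ?_ ?_ ?_⟩ <;> grind

include hyp

theorem sign :
    (D.vZ 1 s.A = 1 ∨ D.vZ 1 s.A = -1) ∧ (D.vZ 1 s.B = 1 ∨ D.vZ 1 s.B = -1) ∧
    (D.vZ 1 s.C = 1 ∨ D.vZ 1 s.C = -1) ∧ (D.vH1 s.P = 1 ∨ D.vH1 s.P = -1) ∧
    (D.vH1 s.R = 1 ∨ D.vH1 s.R = -1) ∧ (D.vH2 s.R2 = 1 ∨ D.vH2 s.R2 = -1) := by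
  obtain ⟨h1, h2, h3, -⟩ := D.dot_base hyp
  have ax := abs_le_one (v := D.vZ 1) deg_pos h1.le (D.col_vZ 1).deg_orth
  have ay := abs_le_one (v := D.vH1) deg_pos h2.le (D.col_vH1 hyp).deg_orth
  have aw := abs_le_one (v := D.vH2) deg_pos h3.le (D.col_vH2 hyp).deg_orth
  obtain ⟨x1, x2, x3⟩ := s.x_ne
  obtain ⟨y1, y2⟩ := s.y_ne
  have w2 := s.w_ne
  have := ax s.A; have := ax s.B; have := ax s.C; have := ay s.P; have := ay s.R
  have := aw s.R2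
  omega

theorem hT :
    Tz E s.A = D.vZ 1 s.A * qI ∧ Tz E s.B = D.vZ 1 s.B * (2 * rI) ∧
    Tz E s.C = D.vZ 1 s.C * (2 * rI) ∧ Tz E s.P = D.vH1 s.P * (qI + sg F) ∧
    Tz E s.R = D.vH1 s.R * (2 * rI + sg F) ∧ Tz E s.R2 = D.vH2 s.R2 * (2 * rI + sg F) := by
  have hu := u_eq hyp.mod8
  have hq := q_eq hyp.mod8
  obtain ⟨x1, x2, x3⟩ := s.x_ne
  obtain ⟨y1, y2⟩ := s.y_ne
  have w2 := s.w_ne
  obtain ⟨xP, xR, xR2⟩ := s.x_at
  obtain ⟨-, yC, yR2⟩ := s.y_at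
  obtain ⟨-, wB, wR⟩ := s.w_at
  have p := fun χ h => D.plain_Tz hyp (χ := χ) (D.plain_of_base hyp h)
  refine ⟨?_, ?_, ?_, ?_, ?_, ?_⟩
  · rw [p _ (Or.inl x1), s.valA.1, s.valA.2, hu, hq]; ring
  · rw [p _ (Or.inl x2), s.valB, wB, hu]; ring
  · rw [p _ (Or.inl x3), s.valC, yC, hu]; ring
  · rw [p _ (Or.inr (Or.inl y1)), xP, s.valP, hu, hq]; ring
  · rw [p _ (Or.inr (Or.inl y2)), xR, wR, hu]; ring
  · rw [p _ (Or.inr (Or.inr w2)), xR2, yR2, hu]; ring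

theorem sum_x {M : Type*} [CommRing M] (φ : Cfsg.IrrCharacter G → M) :
    ∑ χ, (D.vZ 1 χ : M) * φ χ = -(sg F : M) * φ (trivC G) + (D.vZ 1 s.A : M) * φ s.A +
      (D.vZ 1 s.B : M) * φ s.B + (D.vZ 1 s.C : M) * φ s.C := by
  classical
  have := s.nd
  rw [list_sum_eq [trivC G, s.A, s.B, s.C] (by simp; grind) _ fun χ hχ => by
    simp only [List.mem_cons, List.not_mem_nil, or_false, not_or] at hχ
    rw [s.x_zero χ hχ.1 hχ.2.1 hχ.2.2.1 hχ.2.2.2, Int.cast_zero, zero_mul]]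
  simp only [List.map_cons, List.map_nil, List.sum_cons, List.sum_nil, D.vZ_trivC hyp, if_true,
    Int.cast_neg]
  ring

theorem sum_y {M : Type*} [CommRing M] (φ : Cfsg.IrrCharacter G → M) :
    ∑ χ, (D.vH1 χ : M) * φ χ = (D.vZ 1 s.A : M) * φ s.A + (D.vZ 1 s.B : M) * φ s.B +
      (D.vH1 s.P : M) * φ s.P + (D.vH1 s.R : M) * φ s.R := by
  classical
  have := s.nd
  rw [list_sum_eq [s.A, s.B, s.P, s.R] (by simp; grind) _ fun χ hχ => by
    simp only [List.mem_cons, List.not_mem_nil, or_false, not_or] at hχ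
    rw [s.y_zero χ hχ.1 hχ.2.1 hχ.2.2.1 hχ.2.2.2, Int.cast_zero, zero_mul]]
  simp only [List.map_cons, List.map_nil, List.sum_cons, List.sum_nil, s.valA.1, s.valB]
  ring

theorem sum_w {M : Type*} [CommRing M] (φ : Cfsg.IrrCharacter G → M) :
    ∑ χ, (D.vH2 χ : M) * φ χ = (D.vZ 1 s.A : M) * φ s.A + (D.vZ 1 s.C : M) * φ s.C +
      (D.vH1 s.P : M) * φ s.P + (D.vH2 s.R2 : M) * φ s.R2 := by
  classical
  have := s.nd
  rw [list_sum_eq [s.A, s.C, s.P, s.R2] (by simp; grind) _ fun χ hχ => by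
    simp only [List.mem_cons, List.not_mem_nil, or_false, not_or] at hχ
    rw [s.w_zero χ hχ.1 hχ.2.1 hχ.2.2.1 hχ.2.2.2, Int.cast_zero, zero_mul]]
  simp only [List.map_cons, List.map_nil, List.sum_cons, List.sum_nil, s.valA.2, s.valC, s.valP]
  ring

/-- The linear relations between the signed degrees. -/
theorem rel :
    sd (D.vZ 1) s.C = sg F - sd (D.vZ 1) s.A - sd (D.vZ 1) s.B ∧
    sd (D.vZ 1) s.A + sd (D.vZ 1) s.B + sd D.vH1 s.P + sd D.vH1 s.R = 0 ∧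
    sd (D.vZ 1) s.A + sd (D.vZ 1) s.C + sd D.vH1 s.P + sd D.vH2 s.R2 = 0 := by
  have hx := (D.col_vZ (1 : tor D.g₁ →* ℂˣ)).deg_orth
  have hy := (D.col_vH1 hyp).deg_orth
  have hw := (D.col_vH2 hyp).deg_orth
  have ex := s.sum_x hyp (fun χ => (deg χ : ℤ))
  have ey := s.sum_y hyp (fun χ => (deg χ : ℤ))
  have ew := s.sum_w hyp (fun χ => (deg χ : ℤ))
  simp only [Int.cast_id, deg_trivC, Nat.cast_one] at ex ey ew
  rw [hx] at ex
  rw [hy] at ey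
  rw [hw] at ew
  unfold sd
  refine ⟨by linarith, by linarith, by linarith⟩

/-- The three equations from the base columns. -/
theorem eqs :
    -(sg F : ℚ) + (qI : ℚ) ^ 2 / (sd (D.vZ 1) s.A : ℚ) +
      ((2 * rI : ℤ) : ℚ) ^ 2 / (sd (D.vZ 1) s.B : ℚ) +
      ((2 * rI : ℤ) : ℚ) ^ 2 / (sd (D.vZ 1) s.C : ℚ) =
      -(sg F : ℚ) * ((qI : ℚ) + (sg F : ℚ)) * Kq E ∧
    (qI : ℚ) ^ 2 / (sd (D.vZ 1) s.A : ℚ) + ((2 * rI : ℤ) : ℚ) ^ 2 / (sd (D.vZ 1) s.B : ℚ) +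
      ((qI : ℚ) + (sg F : ℚ)) ^ 2 / (sd D.vH1 s.P : ℚ) +
      ((2 * rI + sg F : ℤ) : ℚ) ^ 2 / (sd D.vH1 s.R : ℚ) = ((qI : ℚ) / (rI : ℚ) - 1) * Kq E ∧
    (qI : ℚ) ^ 2 / (sd (D.vZ 1) s.A : ℚ) + ((2 * rI : ℤ) : ℚ) ^ 2 / (sd (D.vZ 1) s.C : ℚ) +
      ((qI : ℚ) + (sg F : ℚ)) ^ 2 / (sd D.vH1 s.P : ℚ) +
      ((2 * rI + sg F : ℤ) : ℚ) ^ 2 / (sd D.vH2 s.R2 : ℚ) = ((qI : ℚ) / (rI : ℚ) - 1) * Kq E := by
  obtain ⟨hA, hB, hC, hP, hR, hR2⟩ := s.sign hyp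
  obtain ⟨tA, tB, tC, tP, tR, tR2⟩ := s.hT hyp
  obtain ⟨wx, wy, ww⟩ := D.tw_base hyp
  have ex := s.sum_x hyp (fun χ => (Tz E χ : ℚ) ^ 2 / (deg χ : ℚ))
  have ey := s.sum_y hyp (fun χ => (Tz E χ : ℚ) ^ 2 / (deg χ : ℚ))
  have ew := s.sum_w hyp (fun χ => (Tz E χ : ℚ) ^ 2 / (deg χ : ℚ))
  simp only [← mul_div_assoc, term_eq E hA tA, term_eq E hB tB, term_eq E hC tC, term_eq E hP tP,
    term_eq E hR tR, term_eq E hR2 tR2, Tz_trivC, deg_trivC] at ex ey ew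
  rw [← tw, wx] at ex
  rw [← tw, wy] at ey
  rw [← tw, ww] at ew
  push_cast at ex ey ew ⊢
  exact ⟨by linear_combination -ex, by linear_combination -ey, by linear_combination -ew⟩

theorem not_R {μ : D.c.Cr →* ℂˣ} (o : D.Orb hyp μ) :
    ∀ χ ∈ [s.A, s.B, s.C, s.P, s.R, s.R2], χ ∉ o.R := by
  intro χ hχ
  refine D.not_mem_R hyp o ?_
  obtain ⟨x1, x2, x3⟩ := s.x_ne
  obtain ⟨y1, y2⟩ := s.y_ne
  have w2 := s.w_ne
  simp only [List.mem_cons, List.not_mem_nil, or_false] at hχ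
  rcases hχ with rfl | rfl | rfl | rfl | rfl | rfl <;> tauto

/-- A character carrying the last unit of the norm has value `0` at `t`. -/
theorem Tz_rest {μ : D.c.Cr →* ℂˣ} (hμ : μ ≠ 1) (o : D.Orb hyp μ) {Z : Cfsg.IrrCharacter G}
    (hnd : (trivC G :: o.i₀ :: [s.A, s.B, s.C, s.P, s.R, s.R2, Z]).Nodup)
    (hzero : ∀ χ, χ ∉ trivC G :: o.i₀ :: [s.A, s.B, s.C, s.P, s.R, s.R2, Z] → D.vA μ χ = 0)
    (ha : D.vA μ Z = 1 ∨ D.vA μ Z = -1) : Tz E Z = 0 := by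
  classical
  have hodd := D.c.odd_Cr hyp
  have hne : D.vA μ Z ≠ 0 := by omega
  have hZ : Z ≠ trivC G ∧ Z ≠ o.i₀ ∧ Z ≠ s.A ∧ Z ≠ s.B ∧ Z ≠ s.C ∧ Z ≠ s.P ∧ Z ≠ s.R ∧ Z ≠ s.R2 := by
    simp only [List.nodup_cons, List.mem_cons, List.not_mem_nil, List.nodup_nil, or_false,
      not_or, and_true, not_false_eq_true] at hnd
    grind
  have hb0 : D.vZ 1 Z = 0 ∧ D.vH1 Z = 0 ∧ D.vH2 Z = 0 :=
    ⟨s.x_zero Z hZ.1 hZ.2.2.1 hZ.2.2.2.1 hZ.2.2.2.2.1,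
      s.y_zero Z hZ.2.2.1 hZ.2.2.2.1 hZ.2.2.2.2.2.1 hZ.2.2.2.2.2.2.1,
      s.w_zero Z hZ.2.2.1 hZ.2.2.2.2.1 hZ.2.2.2.2.2.1 hZ.2.2.2.2.2.2.2⟩
  have hplain : ∀ χ ∈ [s.A, s.B, s.C, s.P, s.R, s.R2], D.Plain χ := by
    intro χ hχ
    refine D.plain_of_base hyp ?_
    obtain ⟨x1, x2, x3⟩ := s.x_ne
    obtain ⟨y1, y2⟩ := s.y_ne
    have w2 := s.w_ne
    simp only [List.mem_cons, List.not_mem_nil, or_false] at hχ
    rcases hχ with rfl | rfl | rfl | rfl | rfl | rfl <;> tauto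
  -- orthogonality to a column vanishing at the trivial character and at the named ones
  have hvan : ∀ v : Cfsg.IrrCharacter G → ℤ, v (trivC G) = 0 → v o.i₀ = 0 →
      (∀ χ ∈ [s.A, s.B, s.C, s.P, s.R, s.R2], v χ = 0) → dotp (D.vA μ) v = 0 → v Z = 0 := by
    intro v h0 h1 h2 hd
    rw [dotp, list_sum_eq _ hnd _ fun χ hχ => by rw [hzero χ hχ, zero_mul]] at hd
    simp only [List.mem_cons, List.not_mem_nil, or_false] at h2
    simp only [List.map_cons, List.map_nil, List.sum_cons, List.sum_nil, h0, h1,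
      h2 s.A (by simp), h2 s.B (by simp), h2 s.C (by simp), h2 s.P (by simp), h2 s.R (by simp),
      h2 s.R2 (by simp), mul_zero, zero_add, add_zero] at hd
    exact (mul_eq_zero.1 hd).resolve_left hne
  have hPz : ∀ ν, ν ≠ 1 → D.vP ν Z = 0 := by
    intro ν hν
    have hZR : Z ∉ o.R := by
      intro hR
      obtain ⟨k, hk0, hk, hkR⟩ := D.vA_on_R hyp hμ o
      have hi₀ : D.vA μ o.i₀ = sg F := by
        have hd := hzero
        by_contra hh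
        have hk' : k ≠ 0 := fun e => hh (by rw [hk0, e, add_zero])
        obtain ⟨i, hi, hni⟩ : ∃ i ∈ o.R.erase o.i₀, i ≠ Z := by
          have h3 : (o.R.erase o.i₀).card = 3 := by rw [Finset.card_erase_of_mem o.mem, o.card]
          exact Finset.exists_mem_ne (by omega) Z
        obtain ⟨hine, hiR⟩ := Finset.mem_erase.1 hi
        refine hk' ((hk i hiR hine).symm.trans (hzero i ?_))
        simp only [List.mem_cons, List.not_mem_nil, or_false, not_or]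
        have hnR := s.not_R hyp o
        refine ⟨fun e => D.triv_not_mem_R hyp o (e ▸ hiR), hine, ?_, ?_, ?_, ?_, ?_, ?_, hni⟩ <;>
          · rintro rfl
            exact hnR _ (by simp) hiR
      have := hk Z hR hZ.2.1
      rw [hk0] at hi₀
      omega
    by_cases horb : dlt ν μ = 0 ∧ dlt ν (D.rot hyp μ) = 0 ∧ dlt ν (D.rot hyp (D.rot hyp μ)) = 0
    · obtain ⟨h0, h1, h2⟩ := horb
      have hc := o.const (D.vP ν) (by rw [D.dot_PP hyp, h0, mul_zero])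
        (by rw [D.dot_PP hyp, h1, mul_zero]) (by rw [D.dot_PP hyp, h2, mul_zero])
      have hR0 : D.vP ν o.i₀ = 0 := eq_zero_of_const o.card deg_pos
        (le_of_eq (show dotp (D.vP ν) (D.vP ν) = 4 by
          rw [D.dot_PP hyp, dlt_self_odd hodd hν, mul_one])) (D.col_vP ν).deg_orth hc o.mem
      refine hvan _ (by rw [D.vP_trivC hyp, if_neg hν]) hR0
        (fun χ hχ => (hplain χ hχ).1 ν hν) ?_
      have h := D.dot_vA hyp μ (D.col_vP ν)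
      unfold vW at h
      simp only [dotp_sub, dotp_add, dotp_smul, D.dot_PP hyp, dlt_comm μ ν,
        dlt_comm (D.rot hyp μ) ν, dlt_comm (D.rot hyp (D.rot hyp μ)) ν, h0, h1, h2,
        dlt_one_left hν] at h
      omega
    · obtain ⟨o0, o1, o2⟩ := o.outside Z hZR
      have key : ∀ κ, κ ≠ 1 → dlt ν κ ≠ 0 → D.vP κ Z = 0 → D.vP ν Z = 0 := by
        intro κ hκ hd hz
        rcases dlt_cases hodd ν hκ with e | ⟨-, e | e⟩
        · exact absurd e hd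
        · rw [e]; exact hz
        · rw [e, D.vP_inv hyp]; exact hz
      have n1 := D.rot_ne_one hyp hμ
      have n2 := D.rot_ne_one hyp n1
      by_cases h0 : dlt ν μ = 0
      · by_cases h1 : dlt ν (D.rot hyp μ) = 0
        · exact key _ n2 (fun h2 => horb ⟨h0, h1, h2⟩) o2
        · exact key _ n1 h1 o1
      · exact key _ hμ h0 o0
  have hZz : ∀ τ, τ ≠ 1 → D.vZ τ Z = 0 := by
    intro τ hτ
    refine hvan _ (by rw [D.vZ_trivC hyp, if_neg hτ]) ((o.base _ o.mem).2.2 τ)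
      (fun χ hχ => (hplain χ hχ).2 τ hτ) ?_
    have h := D.dot_vA hyp μ (D.col_vZ τ)
    unfold vW at h
    simp only [dotp_sub, dotp_add, dotp_smul, D.dot_PZ hyp] at h
    omega
  rw [D.plain_Tz hyp ⟨hPz, hZz⟩, hb0.1, hb0.2.1, hb0.2.2]
  ring

include s in
/-- This configuration does not occur. -/
theorem false : False := by
  classical
  haveI := D.c.isCyclic_Cr
  have hr7 := Cyc.seven_le_r hyp D.c
  have hμ : D.μ₀ ≠ 1 := fun e => by
    have h := pow_ne_one_of_pos D.μ₀_inj (j := 1) (by rw [D.c.natCard_Cr]; omega) one_ne_zero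
    exact h (MonoidHom.ext fun x => by simp [e])
  obtain ⟨o⟩ := D.exists_orb hyp hμ
  obtain ⟨μ, hμe⟩ : ∃ μ, μ = D.vA D.μ₀ := ⟨_, rfl⟩
  obtain ⟨hA, hB, hC, hP, hR, hR2⟩ := s.sign hyp
  obtain ⟨tA, tB, tC, tP, tR, tR2⟩ := s.hT hyp
  obtain ⟨hD, hs1, hs2⟩ := s.rel hyp
  obtain ⟨E0, E1, E2⟩ := s.eqs hyp
  obtain ⟨a1, a2, a3⟩ := D.vA_base hyp hμ
  obtain ⟨a, ea⟩ : ∃ z, z = sb F (D.vZ 1) μ s.A := ⟨_, rfl⟩
  obtain ⟨b, eb⟩ : ∃ z, z = sb F (D.vZ 1) μ s.B := ⟨_, rfl⟩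
  obtain ⟨c, ec⟩ : ∃ z, z = sb F (D.vZ 1) μ s.C := ⟨_, rfl⟩
  obtain ⟨p, ep⟩ : ∃ z, z = sb F D.vH1 μ s.P := ⟨_, rfl⟩
  obtain ⟨r, er⟩ : ∃ z, z = sb F D.vH1 μ s.R := ⟨_, rfl⟩
  obtain ⟨r2, er2⟩ : ∃ z, z = sb F D.vH2 μ s.R2 := ⟨_, rfl⟩
  subst hμe
  have e1 := s.sum_x hyp (D.vA D.μ₀)
  have e2 := s.sum_y hyp (D.vA D.μ₀)
  have e3 := s.sum_w hyp (D.vA D.μ₀)
  simp only [Int.cast_id, sb_mul (F := F) hA, sb_mul (F := F) hB, sb_mul (F := F) hC,
    sb_mul (F := F) hP, sb_mul (F := F) hR, sb_mul (F := F) hR2,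
    ← ea, ← eb, ← ec, ← ep, ← er, ← er2] at e1 e2 e3
  rw [show ∑ χ, D.vZ 1 χ * D.vA D.μ₀ χ = dotp (D.vA D.μ₀) (D.vZ 1) from dotp_comm _ _, a1,
    D.vA_trivC hyp hμ] at e1
  rw [show ∑ χ, D.vH1 χ * D.vA D.μ₀ χ = dotp (D.vA D.μ₀) D.vH1 from dotp_comm _ _, a2] at e2
  rw [show ∑ χ, D.vH2 χ * D.vA D.μ₀ χ = dotp (D.vA D.μ₀) D.vH2 from dotp_comm _ _, a3] at e3
  have h1 : a + b + c = 1 := by
    rcases sg_cases (F := F) with e | e <;> rw [e] at e1 <;> linarith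
  have h2 : a + b + p + r = 3 := by
    rcases sg_cases (F := F) with e | e <;> rw [e] at e2 <;> linarith
  have h3 : a + c + p + r2 = 3 := by
    rcases sg_cases (F := F) with e | e <;> rw [e] at e3 <;> linarith
  obtain ⟨k, hk0, -, hkR⟩ := D.vA_on_R hyp hμ o
  have hn := D.norm_bound hyp hμ o [s.A, s.B, s.C, s.P, s.R, s.R2] s.nodup (s.not_R hyp o)
  simp only [List.map_cons, List.map_nil, List.sum_cons, List.sum_nil, hkR, sb_sq (F := F) hA,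
    sb_sq (F := F) hB, sb_sq (F := F) hC, sb_sq (F := F) hP, sb_sq (F := F) hR,
    sb_sq (F := F) hR2, ← ea, ← eb, ← ec, ← ep, ← er, ← er2] at hn
  have hlow := tri_lower h1 h2 h3
  have hk : k = 0 := by
    by_contra hne
    rcases sg_cases (F := F) with e | e <;> rw [e] at hn <;>
      rcases (show k ≤ -1 ∨ 1 ≤ k by omega) with h | h <;> nlinarith
  subst hk
  rw [add_zero] at hk0
  have h5 : a * a + b * b + c * c + p * p + r * r + r2 * r2 ≤ 5 := by linarith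
  have hnd : (trivC G :: o.i₀ :: [s.A, s.B, s.C, s.P, s.R, s.R2]).Nodup := by
    have h := s.nodup
    rw [List.nodup_cons] at h ⊢
    refine ⟨?_, List.nodup_cons.2 ⟨fun hm => s.not_R hyp o _ hm o.mem, h.2⟩⟩
    simp only [List.mem_cons] at h ⊢
    rintro (e | e)
    · exact D.triv_not_mem_R hyp o (e ▸ o.mem)
    · exact h.1 e
  have hrest := D.rest_norm hyp hμ o hk0 [s.A, s.B, s.C, s.P, s.R, s.R2] hnd
  simp only [List.map_cons, List.map_nil, List.sum_cons, List.sum_nil, sb_sq (F := F) hA,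
    sb_sq (F := F) hB, sb_sq (F := F) hC, sb_sq (F := F) hP, sb_sq (F := F) hR,
    sb_sq (F := F) hR2, ← ea, ← eb, ← ec, ← ep, ← er, ← er2] at hrest
  obtain ⟨b0, b1, b2⟩ := o.at_i₀
  have hT0 : Tz E o.i₀ = (qI + sg F) * 3 := by rw [o.hT _ o.mem, b0, b1, b2]; norm_num
  have hd := D.deg_vA hyp D.μ₀
  have hw := D.tw_vA hyp hμ
  have hfp : (0 : ℤ) < o.f := by exact_mod_cast o.f_pos
  rcases tri_cases h1 h2 h3 h5 with ⟨rfl, rfl, rfl, rfl, rfl, rfl⟩ | ⟨rfl, rfl, rfl, rfl, rfl, rfl⟩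
  · have hzero : ∀ χ, χ ∉ trivC G :: o.i₀ :: [s.A, s.B, s.C, s.P, s.R, s.R2] →
        D.vA D.μ₀ χ = 0 :=
      fun χ hχ => mul_self_eq_zero.1 ((Finset.sum_eq_zero_iff_of_nonneg
        fun i _ => mul_self_nonneg (D.vA D.μ₀ i)).1 (by linarith) χ
        (Finset.mem_filter.2 ⟨Finset.mem_univ χ, hχ⟩))
    rw [list_sum_eq _ hnd _ fun χ hχ => by rw [hzero χ hχ, zero_mul]] at hd
    rw [tw, list_sum_eq _ hnd _ fun χ hχ => by
      rw [hzero χ hχ, Int.cast_zero, zero_mul, zero_div]] at hw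
    simp only [List.map_cons, List.map_nil, List.sum_cons, List.sum_nil, D.vA_trivC hyp hμ, Tz_trivC,
      deg_trivC, hk0, hT0, o.hdeg _ o.mem, sb_deg (F := F) hA, sb_deg (F := F) hB,
      sb_deg (F := F) hC, sb_deg (F := F) hP, sb_deg (F := F) hR, sb_deg (F := F) hR2,
      ← ea, ← eb, ← ec, ← ep, ← er, ← er2] at hd
    simp only [List.map_cons, List.map_nil, List.sum_cons, List.sum_nil, D.vA_trivC hyp hμ, Tz_trivC,
      deg_trivC, hk0, hT0, o.hdeg _ o.mem, term_sb (F := F) E hA tA, term_sb (F := F) E hB tB,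
      term_sb (F := F) E hC tC, term_sb (F := F) E hP tP, term_sb (F := F) E hR tR,
      term_sb (F := F) E hR2 tR2, ← ea, ← eb, ← ec, ← ep, ← er, ← er2] at hw
    push_cast at hd hw
    have hf : (o.f : ℤ) = sg F + sd (D.vZ 1) s.A + 2 * sd D.vH1 s.P := by
      rcases sg_cases (F := F) with e | e <;> rw [e] at hd ⊢ <;> linarith
    obtain ⟨p', k', hp', hpk⟩ := prime_pow hyp
    have hdA := sd_dvd hyp o hA tA
    rw [show qI ^ 2 * qI = qI ^ 3 by ring] at hdA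
    refine triangle_two (num hyp D.c) hp' hpk (K := Kq E) (sd_ne_zero s.x_ne.1)
      (sd_ne_zero s.x_ne.2.1) (sd_ne_zero s.y_ne.1) (sd_ne_zero s.y_ne.2) (sd_ne_zero s.w_ne) hfp hD
      hs1 hs2 hf (m_dvd_f hyp o) hdA (sd_dvd hyp o hB tB) (by simpa using o.hK) E0 E1 E2 ?_
    push_cast
    linear_combination hw
  · -- one more character
    have hone : ∑ χ with χ ∉ trivC G :: o.i₀ :: [s.A, s.B, s.C, s.P, s.R, s.R2],
        D.vA D.μ₀ χ * D.vA D.μ₀ χ = 1 := by linarith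
    obtain ⟨Z, hZm, hZne⟩ := Finset.exists_ne_zero_of_sum_ne_zero
      (show (∑ χ with χ ∉ trivC G :: o.i₀ :: [s.A, s.B, s.C, s.P, s.R, s.R2],
        D.vA D.μ₀ χ * D.vA D.μ₀ χ) ≠ 0 by rw [hone]; norm_num)
    have hZsq : D.vA D.μ₀ Z * D.vA D.μ₀ Z = 1 := by
      have h0 := mul_self_nonneg (D.vA D.μ₀ Z)
      have hle := Finset.single_le_sum (f := fun χ => D.vA D.μ₀ χ * D.vA D.μ₀ χ)
        (fun j _ => mul_self_nonneg (D.vA D.μ₀ j)) hZm
      rw [hone] at hle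
      omega
    have ha := mul_self_eq_one_iff.1 hZsq
    have hZl : Z ∉ trivC G :: o.i₀ :: [s.A, s.B, s.C, s.P, s.R, s.R2] :=
      (Finset.mem_filter.1 hZm).2
    have hnd' : (trivC G :: o.i₀ :: [s.A, s.B, s.C, s.P, s.R, s.R2, Z]).Nodup := by
      simp only [List.nodup_cons, List.mem_cons, List.not_mem_nil, List.nodup_nil, or_false,
        not_or, and_true, not_false_eq_true] at hnd hZl ⊢
      grind
    have hzero : ∀ χ, χ ∉ trivC G :: o.i₀ :: [s.A, s.B, s.C, s.P, s.R, s.R2, Z] →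
        D.vA D.μ₀ χ = 0 := by
      intro χ hχ
      rw [← Finset.add_sum_erase _ _ hZm, hZsq] at hone
      refine mul_self_eq_zero.1 ((Finset.sum_eq_zero_iff_of_nonneg
        fun i _ => mul_self_nonneg (D.vA D.μ₀ i)).1 (by linarith) χ
        (Finset.mem_erase.2 ⟨?_, Finset.mem_filter.2 ⟨Finset.mem_univ χ, ?_⟩⟩))
      · rintro rfl; exact hχ (by simp)
      · intro hm
        refine hχ ?_
        simp only [List.mem_cons, List.not_mem_nil, or_false] at hm ⊢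
        rcases hm with h | h | h | h | h | h | h | h <;> simp only [h, true_or, or_true]
    have hTZ := s.Tz_rest hyp hμ o hnd' hzero ha
    rw [list_sum_eq _ hnd' _ fun χ hχ => by rw [hzero χ hχ, zero_mul]] at hd
    rw [tw, list_sum_eq _ hnd' _ fun χ hχ => by
      rw [hzero χ hχ, Int.cast_zero, zero_mul, zero_div]] at hw
    simp only [List.map_cons, List.map_nil, List.sum_cons, List.sum_nil, D.vA_trivC hyp hμ, Tz_trivC,
      deg_trivC, hk0, hT0, o.hdeg _ o.mem, sb_deg (F := F) hA, sb_deg (F := F) hB,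
      sb_deg (F := F) hC, sb_deg (F := F) hP, sb_deg (F := F) hR, sb_deg (F := F) hR2,
      ← ea, ← eb, ← ec, ← ep, ← er, ← er2] at hd
    simp only [List.map_cons, List.map_nil, List.sum_cons, List.sum_nil, D.vA_trivC hyp hμ, Tz_trivC,
      deg_trivC, hk0, hT0, hTZ, o.hdeg _ o.mem, term_sb (F := F) E hA tA, term_sb (F := F) E hB tB,
      term_sb (F := F) E hC tC, term_sb (F := F) E hP tP, term_sb (F := F) E hR tR,
      term_sb (F := F) E hR2 tR2, ← ea, ← eb, ← ec, ← ep, ← er, ← er2] at hw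
    push_cast at hd hw
    have hPf := triangle_one (num hyp D.c) (K := Kq E) (sd_ne_zero s.y_ne.1) hfp
      (by simpa using o.hK) E0 E1 E2 (by push_cast; linear_combination hw)
    have hdZ : D.vA D.μ₀ Z * (deg Z : ℤ) = 0 := by
      rcases sg_cases (F := F) with e | e <;> rw [e] at hd hD <;> linarith
    rcases mul_eq_zero.1 hdZ with e | e
    · omega
    · have := deg_pos Z; omega

end Dat.Tri

/-- The order and the field, for `q ≡ ±3 (mod 8)`, `q ≥ 11`. -/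
theorem concl_main (hyp : Hyp E) : Concl G F := by
  obtain ⟨D⟩ := exists_dat hyp
  rcases D.exists_shape hyp with ⟨⟨s⟩⟩ | ⟨⟨s⟩⟩
  · exact s.concl hyp
  · exact (s.false hyp).elim

end CfsgLib.JankoThompson
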