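import Cfsg.Agent.JankoThompson.Small
import Cfsg.Agent.JankoThompson.Even
import Cfsg.Agent.JankoThompson.TriCase
import Mathlib

/-!
# The theorem of Janko and Thompson on the centraliser `Z₂ × PSL₂(q)`
-/

set_option autoImplicit false
set_option linter.unusedSectionVars false
set_option linter.style.haveILetI false

namespace CfsgLib.JankoThompson

open Matrix CfsgLib.ReeTypeS3
open scoped MatrixGroups

universe u v

/-- The theorem of Janko and Thompson. -/
theorem main {G : Type u} [Group G] [Finite G] [IsSimpleGroup G]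
    (hab : ∀ P : Sylow 2 G, ∀ a b : P, a * b = b * a)
    {F : Type v} [Field F] [Fintype F] (hq : 3 ≤ Fintype.card F) (t : G) (ht : orderOf t = 2)
    (e : Subgroup.centralizer ({t} : Set G) ≃*
      Multiplicative (ZMod 2) × Matrix.ProjectiveSpecialLinearGroup (Fin 2) F) :
    (∃ m : ℕ, 1 ≤ m ∧ Fintype.card F = 3 ^ (2 * m + 1) ∧
        Nat.card G = (3 ^ (2 * m + 1)) ^ 3 * ((3 ^ (2 * m + 1)) ^ 3 + 1) * (3 ^ (2 * m + 1) - 1)) ∨
      ((Fintype.card F = 4 ∨ Fintype.card F = 5) ∧ Cfsg.IsJ1 G) := by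
  by_cases h45 : Fintype.card F = 4 ∨ Fintype.card F = 5
  · exact Or.inr ⟨h45, isJ1_of_four_five hab h45 ht e⟩
  by_cases h3 : Fintype.card F = 3
  · exact (false_of_three hab h3 ht e).elim
  push Not at h45
  obtain ⟨⟨l, m, hlm⟩, hcen⟩ := psl_facts (F := F) (by omega)
  obtain ⟨p, hp⟩ := CharP.exists F
  haveI := hp
  obtain ⟨n, hpp, hn⟩ := FiniteField.card F p
  obtain ⟨E, -⟩ := exists_emb hcen ht e
  obtain ⟨hperf, -⟩ := perfect_of_noncomm (G := G) (l := E.ι l) (m := E.ι m) fun h =>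
    hlm (E.inj (by rw [map_mul, map_mul, h]))
  by_cases hp2 : p = 2
  · subst hp2
    exfalso
    have hn3 : 3 ≤ (n : ℕ) := by
      refine (Nat.lt_or_ge (n : ℕ) 3).resolve_left fun h => ?_
      have : (n : ℕ) = 1 ∨ (n : ℕ) = 2 := by have : 0 < (n : ℕ) := n.2; omega
      rcases this with e' | e' <;> rw [e'] at hn <;> omega
    have hbot : Subgroup.center SL(2, F) = ⊥ := by
      refine Subgroup.eq_bot_of_card_eq _ ?_
      rw [Linear.card_center_SL, hn, Fintype.card_fin]
      have hev : 2 ∣ 2 ^ (n : ℕ) := dvd_pow_self 2 n.2.ne'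
      have : 1 ≤ 2 ^ (n : ℕ) := Nat.one_le_two_pow
      show Nat.Coprime 2 (2 ^ (n : ℕ) - 1)
      exact Nat.prime_two.coprime_iff_not_dvd.2 (by omega)
    let f : Matrix.ProjectiveSpecialLinearGroup (Fin 2) F ≃* SL(2, F) :=
      (QuotientGroup.quotientMulEquivOfEq hbot).trans QuotientGroup.quotientBot
    obtain ⟨E', -⟩ := exists_emb (L := SL(2, F)) (fun z hz => f.symm.injective (by
      rw [map_one]
      refine hcen _ fun l => ?_
      obtain ⟨l, rfl⟩ := f.symm.surjective l
      rw [← map_mul, ← map_mul, hz])) ht (e.trans (MulEquiv.prodCongr (MulEquiv.refl _) f))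
    exact false_of_even E' hperf hab hn3 hn
  have hodd : Odd (Fintype.card F) := hn ▸ (hpp.odd_of_ne_two hp2).pow
  rw [Nat.odd_iff] at hodd
  rcases (show Fintype.card F % 8 = 1 ∨ Fintype.card F % 8 = 7 ∨
      (Fintype.card F % 8 = 3 ∨ Fintype.card F % 8 = 5) by omega) with h | h | h
  · exact (false_of_mod_one_seven hab (Or.inl h) E.ι E.inj).elim
  · exact (false_of_mod_one_seven hab (Or.inr h) E.ι E.inj).elim
  haveI := Fintype.ofFinite G
  have hyp : Hyp E :=
    { simple := inferInstance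
      perf := hperf
      ab := hab
      mod8 := ⟨by rcases h with h | h <;> omega, h⟩ }
  obtain ⟨-, ⟨j, ⟨k, rfl⟩, hj⟩, hcard, -⟩ := concl_main hyp
  have hj' : Fintype.card F = 3 ^ (2 * k + 1) := by exact_mod_cast hj
  refine Or.inl ⟨k, ?_, hj', ?_⟩
  · by_contra hk
    rw [show k = 0 by omega] at hj'
    norm_num at hj'
    exact h3 hj'
  · have h1 : 1 ≤ Fintype.card F := by omega
    rw [← hj']
    have : ((Fintype.card F ^ 3 * (Fintype.card F ^ 3 + 1) * (Fintype.card F - 1) : ℕ) : ℤ) =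
        (Nat.card G : ℤ) := by rw [hcard]; push_cast [h1]; ring
    exact_mod_cast this.symm

end CfsgLib.JankoThompson
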