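import Cfsg.Agent.JankoThompson.Cycle
import Cfsg.Agent.JankoThompson.Dickson
import Cfsg.Agent.ReeTypeS3.Fixed
import Mathlib

/-!
# An element of the torus centralised by the cycling element

The centraliser `X` of such an element of prime order has order `r` times `12` or `60`.
-/

set_option autoImplicit false
set_option linter.unusedSectionVars false
set_option linter.style.haveILetI false

namespace CfsgLib.JankoThompson

open Matrix CfsgLib.ReeTypeS3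
open scoped MatrixGroups

universe u v

variable {G : Type u} [Group G] [Fintype G] {F : Type v} [Field F] [Fintype F]

local notation "PST" => Matrix.ProjectiveSpecialLinearGroup (Fin 2) F

variable {E : Emb G (Matrix.ProjectiveSpecialLinearGroup (Fin 2) F)}

/-- In a cyclic subgroup an element whose order divides that of another is a power of it. -/
theorem mem_zpowers_of_cyclic {H : Type*} [Group H] [Finite H] {C : Subgroup H} [IsCyclic C]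
    {a b : H} (ha : a ∈ C) (hb : b ∈ C) (h : orderOf b ∣ orderOf a) : b ∈ Subgroup.zpowers a := by
  letI : CommGroup C := IsCyclic.commGroup
  have hd : orderOf a ∣ Nat.card C := by
    rw [← Subgroup.orderOf_mk a ha]; exact orderOf_dvd_natCard _
  have hle : Subgroup.zpowers (⟨a, ha⟩ : C) ≤ (powMonoidHom (orderOf a) : C →* C).ker :=
    Subgroup.zpowers_le.2 (Subtype.ext (by simpa using pow_orderOf_eq_one a))
  have heq := Subgroup.eq_of_le_of_card_ge hle (by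
    rw [IsCyclic.card_powMonoidHom_ker, Nat.card_zpowers, Subgroup.orderOf_mk,
      Nat.gcd_eq_right hd])
  have hm : (⟨b, hb⟩ : C) ∈ Subgroup.zpowers (⟨a, ha⟩ : C) := by
    rw [heq]
    exact Subtype.ext (by simpa using orderOf_dvd_iff_pow_eq_one.1 h)
  obtain ⟨k, hk⟩ := hm
  exact ⟨k, by simpa using congrArg Subtype.val hk⟩

/-- An element of prime order of `C_r` centralised by the cycling element. -/
structure Fix (c : Cyc E) where
  /-- The element. -/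
  a₀ : Matrix.ProjectiveSpecialLinearGroup (Fin 2) F
  /-- Its order. -/
  p : ℕ
  ha₀ : a₀ ∈ c.Cr
  ho : orderOf a₀ = p
  hp : p.Prime
  vfix : c.v * E.ι a₀ * c.v⁻¹ = E.ι a₀
  h3 : 3 ∣ rOf F → p = 3
  h5 : 5 ∣ rOf F → p = 3 ∨ p = 5

theorem fixed_of_small (hyp : Hyp E) (c : Cyc E) {b : PST} (hb : b ∈ c.Cr) {p : ℕ}
    (ho : orderOf b = p) (h35 : p = 3 ∨ p = 5) : c.v * E.ι b * c.v⁻¹ = E.ι b := by
  obtain ⟨b', hb', e⟩ := c.conj_Cr hyp hb
  haveI := c.isCyclic_Cr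
  have ho' : orderOf b' = orderOf b := by
    rw [← orderOf_injective E.ι E.inj, ← e, ← orderOf_injective E.ι E.inj b]
    exact (MulAut.conj c.v).orderOf_eq _
  obtain ⟨k, hk⟩ := mem_zpowers_of_cyclic hb hb' ho'.dvd
  have hk' : b ^ k = b' := hk
  have e1 : ∀ j : ℤ, c.v * E.ι b ^ j * c.v⁻¹ = E.ι b ^ (k * j) := fun j => by
    rw [← conj_zpow, e, ← hk', map_zpow, ← _root_.zpow_mul]
  have e3 : E.ι b ^ (k * (k * k) - 1) = 1 := by
    have h3 : c.v * (c.v * (c.v * E.ι b * c.v⁻¹) * c.v⁻¹) * c.v⁻¹ = E.ι b := by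
      rw [show c.v * (c.v * (c.v * E.ι b * c.v⁻¹) * c.v⁻¹) * c.v⁻¹ =
        c.v ^ 3 * E.ι b * (c.v ^ 3)⁻¹ by
          simp only [pow_succ, pow_zero, one_mul, _root_.mul_inv_rev, mul_assoc], c.v3]
      group
    rw [e, ← hk', map_zpow, e1, e1] at h3
    rw [_root_.zpow_sub, h3, zpow_one, mul_inv_cancel]
  rw [← orderOf_dvd_iff_zpow_eq_one, orderOf_injective E.ι E.inj, ho,
    ← ZMod.intCast_zmod_eq_zero_iff_dvd] at e3
  push_cast at e3
  have hk1 : ((k : ZMod p)) = 1 := by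
    have key : ∀ x : ZMod p, x * (x * x) - 1 = 0 → x = 1 := by
      rcases h35 with rfl | rfl <;> decide
    exact key _ e3
  have hd : (p : ℤ) ∣ k - 1 := by
    rw [← ZMod.intCast_zmod_eq_zero_iff_dvd]; push_cast; rw [hk1, sub_self]
  rw [e, ← hk', map_zpow]
  nth_rewrite 2 [← zpow_one (E.ι b)]
  rw [← mul_inv_eq_one, ← _root_.zpow_sub, ← orderOf_dvd_iff_zpow_eq_one,
    orderOf_injective E.ι E.inj, ho]
  exact hd

theorem exists_fix (hyp : Hyp E) (c : Cyc E) {a : PST} (ha : a ∈ c.Cr) (ha1 : a ≠ 1)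
    (hfix : c.v * E.ι a * c.v⁻¹ = E.ι a) : Nonempty (Fix c) := by
  have key : ∀ p, p.Prime → p ∣ rOf F → ∃ b ∈ c.Cr, orderOf b = p := by
    intro p hp hd
    haveI : Fact p.Prime := ⟨hp⟩
    obtain ⟨⟨b, hb⟩, hbo⟩ := exists_prime_orderOf_dvd_card' (G := c.Cr) p
      (by rw [c.natCard_Cr]; exact hd)
    rw [Subgroup.orderOf_mk] at hbo
    exact ⟨b, hb, hbo⟩
  by_cases h3 : 3 ∣ rOf F
  · obtain ⟨b, hb, hbo⟩ := key 3 Nat.prime_three h3
    exact ⟨⟨b, 3, hb, hbo, Nat.prime_three, fixed_of_small hyp c hb hbo (Or.inl rfl), fun _ => rfl,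
      fun _ => Or.inl rfl⟩⟩
  by_cases h5 : 5 ∣ rOf F
  · obtain ⟨b, hb, hbo⟩ := key 5 (by norm_num) h5
    exact ⟨⟨b, 5, hb, hbo, by norm_num, fixed_of_small hyp c hb hbo (Or.inr rfl),
      fun h => absurd h h3, fun _ => Or.inr rfl⟩⟩
  have hn : orderOf a ≠ 1 := fun h => ha1 (orderOf_eq_one_iff.1 h)
  obtain ⟨p, hp, hd⟩ := Nat.exists_prime_and_dvd hn
  refine ⟨⟨a ^ (orderOf a / p), p, pow_mem ha _, ?_, hp, ?_, fun h => absurd h h3,
    fun h => absurd h h5⟩⟩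
  · exact orderOf_pow_orderOf_div (orderOf_pos a).ne' hd
  · rw [map_pow, ← conj_pow, hfix]

namespace Fix

variable (hyp : Hyp E) {c : Cyc E} (f : Fix c)

/-- The centraliser of the element of prime order. -/
def X : Subgroup G := Subgroup.centralizer ({E.ι f.a₀} : Set G)

/-- Conjugacy under `X`. -/
def InOrb (x y : G) : Prop := ∃ h ∈ f.X, h * x * h⁻¹ = y

theorem mem_X {x : G} : x ∈ f.X ↔ x * E.ι f.a₀ = E.ι f.a₀ * x :=
  Subgroup.mem_centralizer_singleton_iff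

theorem four_mem_X {x : G} (hx : c.IsFour x) : x ∈ f.X := f.mem_X.2 (c.four_comm_Cr hx f.ha₀)

theorem Cr_mem_X {a : PST} (ha : a ∈ c.Cr) : E.ι a ∈ f.X :=
  f.mem_X.2 (by rw [← map_mul, ← map_mul, tor_comm c.htr ha.1 f.ha₀.1])

theorem v_mem_X : c.v ∈ f.X := f.mem_X.2 (mul_inv_eq_iff_eq_mul.1 f.vfix)

theorem a₀_ne_one : f.a₀ ≠ 1 := fun h => by
  have h1 := f.ho
  rw [h, orderOf_one] at h1
  exact f.hp.one_lt.ne h1

theorem p_dvd : f.p ∣ rOf F := f.ho ▸ orderOf_dvd_of_pow_eq_one f.ha₀.2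

include hyp

theorem p_three_le : 3 ≤ f.p := by
  have h1 := (odd_r hyp.mod8).of_dvd_nat f.p_dvd
  have := f.hp.two_le
  rw [Nat.odd_iff] at h1
  omega

theorem a₀_sq : f.a₀ * f.a₀ ≠ 1 := fun h => f.a₀_ne_one (c.eq_one_of_sq hyp f.ha₀ h)

theorem not_mem_X {x : G} (hx : x * E.ι f.a₀ * x⁻¹ = E.ι f.a₀⁻¹) : x ∉ f.X := fun h => by
  rw [f.mem_X.1 h, mul_inv_cancel_right] at hx
  exact f.a₀_sq hyp (by
    calc f.a₀ * f.a₀ = f.a₀ * f.a₀⁻¹ := by rw [← E.inj hx]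
      _ = 1 := mul_inv_cancel _)

theorem d_not_mem : c.d ∉ f.X := f.not_mem_X hyp (c.d_tor f.ha₀.1)

theorem cent_four {x e : G} (hX : x ∈ f.X) (he : c.IsFour e) (he1 : e ≠ 1) (hx : x * e = e * x) :
    ∃ e', c.IsFour e' ∧ ∃ a ∈ c.Cr, x = e' * E.ι a :=
  c.cent_four hyp f.ha₀ f.a₀_ne_one (f.mem_X.1 hX) he he1 hx

theorem cent_t {x : G} (hX : x ∈ f.X) (hx : x * E.t = E.t * x) :
    ∃ e, c.IsFour e ∧ ∃ a ∈ c.Cr, x = e * E.ι a :=
  f.cent_four hyp hX (Or.inr (Or.inl rfl)) E.t_ne_one hx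

theorem sqrt {a : PST} (ha : a ∈ c.Cr) : ∃ b ∈ c.Cr, b * b = a := by
  obtain ⟨j, hj⟩ := (odd_r hyp.mod8)
  refine ⟨a ^ (j + 1), pow_mem ha _, ?_⟩
  rw [← pow_add, show j + 1 + (j + 1) = rOf F + 1 by omega, pow_succ, ha.2, one_mul]

/-- The elements commuting with `t` that invert the element of prime order. -/
theorem decomp {y : G} (hy : y * E.t = E.t * y) (hinv : y * E.ι f.a₀ * y⁻¹ = E.ι f.a₀⁻¹) :
    ∃ e, c.IsFour e ∧ ∃ a ∈ c.Cr, y = c.d * (e * E.ι a) := by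
  have h1 : c.d * y ∈ f.X := f.mem_X.2 (by
    rw [← mul_inv_eq_iff_eq_mul, show c.d * y * E.ι f.a₀ * (c.d * y)⁻¹ =
      c.d * (y * E.ι f.a₀ * y⁻¹) * c.d⁻¹ by group, hinv, c.d_tor (inv_mem f.ha₀.1), inv_inv])
  obtain ⟨e, he, a, ha, h⟩ := f.cent_t hyp h1 (by rw [mul_assoc, hy, ← mul_assoc, c.dt, mul_assoc])
  exact ⟨e, he, a, ha, by rw [← h, ← mul_assoc, c.dd, one_mul]⟩

theorem inOrb_d {a : PST} (ha : a ∈ c.Cr) {e : G} (he : c.IsFour e) :
    f.InOrb (c.d * e) (c.d * (e * E.ι a)) := by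
  obtain ⟨b, hb, hbb⟩ := sqrt hyp (c := c) (inv_mem ha)
  refine ⟨E.ι b, f.Cr_mem_X hb, ?_⟩
  rw [← mul_assoc (E.ι b), c.d_Cr hb, mul_assoc c.d, ← c.four_comm_Cr he (inv_mem hb)]
  rw [mul_assoc c.d, mul_assoc e, ← map_inv, ← map_mul, ← _root_.mul_inv_rev, hbb, inv_inv]

omit hyp in
theorem inOrb_trans {x y z : G} (h1 : f.InOrb x y) (h2 : f.InOrb y z) : f.InOrb x z := by
  obtain ⟨g, hg, rfl⟩ := h1
  obtain ⟨h, hh, rfl⟩ := h2
  exact ⟨h * g, mul_mem hh hg, by group⟩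

omit hyp in
theorem inOrb_symm {x y : G} (h1 : f.InOrb x y) : f.InOrb y x := by
  obtain ⟨g, hg, rfl⟩ := h1
  exact ⟨g⁻¹, inv_mem hg, by group⟩

theorem inOrb_dt {a : PST} (ha : a ∈ c.Cr) {e : G} (he : c.IsFour e) (he1 : e ≠ 1) :
    f.InOrb (c.d * E.t) (c.d * (e * E.ι a)) := by
  refine f.inOrb_trans (f.inOrb_symm ?_) (f.inOrb_d hyp ha he)
  obtain ⟨k, hk⟩ := c.four_to_t he he1
  refine ⟨c.v ^ k, pow_mem f.v_mem_X k, ?_⟩
  calc c.v ^ k * (c.d * e) * (c.v ^ k)⁻¹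
      = c.v ^ k * c.d * (c.v ^ k)⁻¹ * (c.v ^ k * e * (c.v ^ k)⁻¹) := by group
    _ = c.d * E.t := by rw [c.d_pow_v, hk]

theorem two_group_le {P : Subgroup G} (hP : IsPGroup 2 P) (hPX : P ≤ f.X) (ht : E.t ∈ P) :
    P ≤ c.fourG := by
  intro x hx
  obtain ⟨hxx, hxt⟩ := two_group_facts hyp hP hx ht
  obtain ⟨e, he, a, ha, rfl⟩ := f.cent_t hyp (hPX hx) hxt
  have h1 : e * E.ι a * (e * E.ι a) = E.ι (a * a) := by
    rw [show e * E.ι a * (e * E.ι a) = e * (E.ι a * e) * E.ι a by group, ← c.four_comm_Cr he ha,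
      ← mul_assoc e e, c.four_sq he, one_mul, map_mul]
  rw [h1] at hxx
  have h2 : a * a = 1 := E.inj (hxx.trans (map_one E.ι).symm)
  have h3 : a ^ rOf F = 1 := ha.2
  obtain ⟨j, hj⟩ := (odd_r hyp.mod8)
  rw [hj, pow_succ, pow_mul, pow_two, h2, one_pow, one_mul] at h3
  rw [h3, map_one, mul_one]
  exact he

theorem involution_conj {z : G} (hz : z ∈ f.X) (hz1 : z ≠ 1) (hzz : z * z = 1) : f.InOrb E.t z := by
  haveI : Fact (Nat.Prime 2) := ⟨Nat.prime_two⟩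
  have h4 : IsPGroup 2 (c.fourG.subgroupOf f.X) := IsPGroup.of_card (n := 2) (by
    rw [Nat.card_congr (Subgroup.subgroupOfEquivOfLe (fun x hx => f.four_mem_X hx)).toEquiv,
      c.natCard_fourG]; norm_num)
  obtain ⟨T, hT⟩ := h4.exists_le_sylow
  have hTle : ∀ x ∈ (T : Subgroup f.X), c.IsFour (x : G) := fun x hx =>
    f.two_group_le hyp (T.2.map f.X.subtype) (Subgroup.map_subtype_le _)
      ⟨⟨E.t, f.four_mem_X (Or.inr (Or.inl rfl))⟩, hT (Or.inr (Or.inl rfl)), rfl⟩ ⟨x, hx, rfl⟩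
  have hp : IsPGroup 2 (Subgroup.zpowers (⟨z, hz⟩ : f.X)) := IsPGroup.of_card (n := 1) (by
    rw [Nat.card_zpowers, Subgroup.orderOf_mk, pow_one]
    exact orderOf_eq_prime ((pow_two z).trans hzz) hz1)
  obtain ⟨U, hU⟩ := hp.exists_le_sylow
  obtain ⟨h, hh⟩ := MulAction.exists_smul_eq f.X U T
  have hm : MulAut.conj h • (⟨z, hz⟩ : f.X) ∈ ((h • U : Sylow 2 f.X) : Subgroup f.X) := by
    rw [Sylow.coe_subgroup_smul]
    exact Subgroup.smul_mem_pointwise_smul _ _ _ (hU (Subgroup.mem_zpowers _))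
  rw [hh] at hm
  have h4' : c.IsFour ((h : G) * z * (h : G)⁻¹) := hTle _ hm
  obtain ⟨k, hk⟩ := c.four_to_t h4' (fun e => hz1 (conj_eq_one_iff.1 e))
  refine f.inOrb_symm ⟨c.v ^ k * h, mul_mem (pow_mem f.v_mem_X k) h.2, ?_⟩
  rw [← hk]; group

theorem card_J : Nat.card (f.X ⊓ Subgroup.centralizer ({c.d} : Set G) : Subgroup G) = 12 ∨
    Nat.card (f.X ⊓ Subgroup.centralizer ({c.d} : Set G) : Subgroup G) = 60 := by
  obtain ⟨J, hJ⟩ : ∃ J : Subgroup G, J = f.X ⊓ Subgroup.centralizer ({c.d} : Set G) := ⟨_, rfl⟩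
  rw [← hJ]
  have hmemJ : ∀ x, x ∈ J ↔ x ∈ f.X ∧ x * c.d = c.d * x := fun x => by
    rw [hJ, Subgroup.mem_inf, Subgroup.mem_centralizer_singleton_iff]
  have hdX : c.d ∉ f.X := f.d_not_mem hyp
  obtain ⟨g, hg⟩ := exists_to_t hyp c.d1 c.dd
  have hmap : ∀ x : J, MulAut.conj g (x : G) ∈ Subgroup.centralizer ({E.t} : Set G) := fun x => by
    rw [Subgroup.mem_centralizer_singleton_iff, ← hg, MulAut.conj_apply]
    calc g * (x : G) * g⁻¹ * (g * c.d * g⁻¹) = g * ((x : G) * c.d) * g⁻¹ := by group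
      _ = _ := by rw [((hmemJ _).1 x.2).2]; group
  let ψ : J →* Subgroup.centralizer ({E.t} : Set G) :=
    ((MulAut.conj g).toMonoidHom.comp J.subtype).codRestrict _ hmap
  let φ : J →* PST := (MonoidHom.snd _ _).comp (E.centEquiv.toMonoidHom.comp ψ)
  have hφ : Function.Injective φ := by
    rw [injective_iff_map_eq_one]
    intro x hx
    have hx2 : (E.centEquiv (ψ x)).2 = 1 := hx
    have h' : ((ψ x : Subgroup.centralizer ({E.t} : Set G)) : G) = E.prodHom (E.centEquiv (ψ x)) := by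
      conv_lhs => rw [← E.centEquiv.symm_apply_apply (ψ x)]
      rfl
    have hcases : (ψ x : G) = 1 ∨ (ψ x : G) = E.t := by
      rw [h']
      by_cases ha : (E.centEquiv (ψ x)).1 = 1
      · left; simp [Emb.prodHom, ha, hx2]
      · right; simp [Emb.prodHom, ha, hx2]
    change g * (x : G) * g⁻¹ = 1 ∨ g * (x : G) * g⁻¹ = E.t at hcases
    rcases hcases with h | h
    · exact Subtype.ext (conj_eq_one_iff.1 h)
    · rw [← hg] at h
      exact absurd ((mul_left_cancel (mul_right_cancel h)) ▸ ((hmemJ _).1 x.2).1) hdX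
  refine card_eq_of_embedding hyp.mod8 φ hφ (e := E.t) (e₁ := c.t₁) (v := c.v)
    ((hmemJ _).2 ⟨f.four_mem_X (Or.inr (Or.inl rfl)), c.dt.symm⟩)
    ((hmemJ _).2 ⟨f.v_mem_X, mul_inv_eq_iff_eq_mul.1 c.dv⟩)
    E.t_ne_one E.sq c.t₁_comm.symm c.t₁_ne_t c.hv c.hv₁ fun x hx z hz hxz => ?_
  have hz4 : c.IsFour z := Or.inr hz
  have hz1 : z ≠ 1 := by
    rcases hz with rfl | rfl | rfl
    exacts [E.t_ne_one, c.t₁_ne_one, c.t_mul_t₁_ne_one]
  obtain ⟨e, he, a, ha, rfl⟩ := f.cent_four hyp ((hmemJ x).1 hx).1 hz4 hz1 hxz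
  have h1 := ((hmemJ _).1 hx).2
  rw [mul_assoc, c.d_Cr ha, ← mul_assoc, c.four_comm_d he, mul_assoc] at h1
  obtain ⟨-, h2⟩ := c.four_mul_Cr_inj hyp he he (inv_mem ha) ha (mul_left_cancel h1)
  have h3 : a * a = 1 := by
    nth_rewrite 1 [← h2]
    exact inv_mul_cancel a
  have h4 : a ^ rOf F = 1 := ha.2
  obtain ⟨j, hj⟩ := (odd_r hyp.mod8)
  rw [hj, pow_succ, pow_mul, pow_two, h3, one_pow, one_mul] at h4
  rw [h4, map_one, mul_one]
  exact he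

theorem card_J₂ :
    Nat.card (f.X ⊓ Subgroup.centralizer ({c.d * E.t} : Set G) : Subgroup G) = 4 := by
  obtain ⟨J, hJ⟩ : ∃ J : Subgroup G, J = f.X ⊓ Subgroup.centralizer ({c.d * E.t} : Set G) :=
    ⟨_, rfl⟩
  rw [← hJ]
  have hmemJ : ∀ x, x ∈ J ↔ x ∈ f.X ∧ x * (c.d * E.t) = c.d * E.t * x := fun x => by
    rw [hJ, Subgroup.mem_inf, Subgroup.mem_centralizer_singleton_iff]
  have hfJ : ∀ x, c.IsFour x → x ∈ J := fun x hx => (hmemJ x).2 ⟨f.four_mem_X hx, by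
    rw [← mul_assoc, c.four_comm_d hx, mul_assoc, c.four_comm_t hx, ← mul_assoc]⟩
  have hcent : ∀ x ∈ J, ∀ e, c.IsFour e → e ≠ 1 → x * e = e * x → c.IsFour x := by
    intro x hx e he he1 hxe
    obtain ⟨e', he', a, ha, rfl⟩ := f.cent_four hyp ((hmemJ x).1 hx).1 he he1 hxe
    have h1 := ((hmemJ _).1 hx).2
    have hL : e' * E.ι a * (c.d * E.t) = c.d * E.t * (e' * E.ι a⁻¹) := by
      rw [show e' * E.ι a * (c.d * E.t) = e' * (E.ι a * c.d) * E.t by group, c.d_Cr ha,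
        show e' * (c.d * E.ι a⁻¹) * E.t = (e' * c.d) * (E.ι a⁻¹ * E.t) by group, c.four_comm_d he',
        ← E.comm, show c.d * e' * (E.t * E.ι a⁻¹) = c.d * (e' * E.t) * E.ι a⁻¹ by group,
        c.four_comm_t he']
      group
    rw [hL] at h1
    obtain ⟨-, h2⟩ := c.four_mul_Cr_inj hyp he' he' (inv_mem ha) ha (mul_left_cancel h1)
    have h3 : a * a = 1 := by
      nth_rewrite 1 [← h2]
      exact inv_mul_cancel a
    rw [c.eq_one_of_sq hyp ha h3, map_one, mul_one]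
    exact he'
  refine card_eq_four J (hfJ _ (Or.inr (Or.inl rfl))) (hfJ _ (Or.inr (Or.inr (Or.inl rfl)))) E.sq
    c.t₁_sq E.t_ne_one c.t₁_ne_one c.t₁_ne_t.symm c.t₁_comm.symm ?_ ?_
  · rintro x hx z (rfl | rfl | rfl) hz
    · exact hcent x hx _ (Or.inr (Or.inl rfl)) E.t_ne_one hz
    · exact hcent x hx _ (Or.inr (Or.inr (Or.inl rfl))) c.t₁_ne_one hz
    · exact hcent x hx _ (Or.inr (Or.inr (Or.inr rfl))) c.t_mul_t₁_ne_one hz
  intro x hx hxt' _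
  refine hcent x hx E.t (Or.inr (Or.inl rfl)) E.t_ne_one ?_
  obtain ⟨k, hk⟩ := c.four_to_t hxt' (fun e => E.t_ne_one (conj_eq_one_iff.1 e))
  obtain ⟨e', he', a, ha, hka⟩ := f.cent_t hyp
    (mul_mem (pow_mem f.v_mem_X k) ((hmemJ _).1 hx).1) (x := c.v ^ k * x) (by
    calc c.v ^ k * x * E.t = c.v ^ k * (x * E.t * x⁻¹) * (c.v ^ k)⁻¹ * (c.v ^ k * x) := by
          group
      _ = _ := by rw [hk])
  have e1 : (c.v ^ k * x) * (c.d * E.t) * (c.v ^ k * x)⁻¹ =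
      c.d * (c.v ^ k * E.t * (c.v ^ k)⁻¹) := by
    calc (c.v ^ k * x) * (c.d * E.t) * (c.v ^ k * x)⁻¹
        = c.v ^ k * (x * (c.d * E.t) * x⁻¹) * (c.v ^ k)⁻¹ := by group
      _ = c.v ^ k * (c.d * E.t) * (c.v ^ k)⁻¹ := by
        rw [((hmemJ _).1 hx).2, mul_inv_cancel_right]
      _ = c.v ^ k * c.d * (c.v ^ k)⁻¹ * (c.v ^ k * E.t * (c.v ^ k)⁻¹) := by group
      _ = _ := by rw [c.d_pow_v]
  have e2 : (e' * E.ι a) * (c.d * E.t) * (e' * E.ι a)⁻¹ = c.d * (E.t * E.ι (a⁻¹ * a⁻¹)) := by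
    rw [show (e' * E.ι a) * (c.d * E.t) * (e' * E.ι a)⁻¹ =
      e' * ((E.ι a * c.d) * E.t * (E.ι a)⁻¹) * e'⁻¹ by group, c.d_Cr ha, ← map_inv,
      show c.d * E.ι a⁻¹ * E.t * E.ι a⁻¹ = c.d * (E.ι a⁻¹ * E.t * E.ι a⁻¹) by group, ← E.comm,
      mul_assoc E.t, ← map_mul, show e' * (c.d * (E.t * E.ι (a⁻¹ * a⁻¹))) * e'⁻¹ =
      (e' * c.d) * E.t * (E.ι (a⁻¹ * a⁻¹) * e'⁻¹) by group, c.four_comm_d he',
      c.four_inv he', ← c.four_comm_Cr he' (mul_mem (inv_mem ha) (inv_mem ha)),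
      show c.d * e' * E.t * (e' * E.ι (a⁻¹ * a⁻¹)) = c.d * ((e' * E.t) * e' * E.ι (a⁻¹ * a⁻¹)) by group,
      c.four_comm_t he', mul_assoc E.t, c.four_sq he', mul_one]
  rw [hka, e2] at e1
  have ht4 : c.IsFour E.t := Or.inr (Or.inl rfl)
  obtain ⟨h5, -⟩ := c.four_mul_Cr_inj hyp ht4 (c.four_conj_pow ht4 k)
    (mul_mem (inv_mem ha) (inv_mem ha)) (one_mem _)
    (by rw [map_one, mul_one]; exact mul_left_cancel e1)
  have h6 : c.v ^ k * (x * E.t * x⁻¹) * (c.v ^ k)⁻¹ = c.v ^ k * E.t * (c.v ^ k)⁻¹ := by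
    rw [hk, ← h5]
  exact mul_inv_eq_iff_eq_mul.1 (mul_left_cancel (mul_right_cancel h6))

theorem not_inOrb : ¬ f.InOrb c.d (c.d * E.t) := by
  intro h
  have e : {y : G // ∃ h ∈ f.X, h * c.d * h⁻¹ = y} ≃
      {y : G // ∃ h ∈ f.X, h * (c.d * E.t) * h⁻¹ = y} :=
    Equiv.subtypeEquivRight fun y => ⟨fun hy => f.inOrb_trans (f.inOrb_symm h) hy,
      fun hy => f.inOrb_trans h hy⟩
  have h1 := card_conj_mul f.X c.d
  have h2 := card_conj_mul f.X (c.d * E.t)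
  rw [Nat.card_congr e, ← h2, f.card_J₂ hyp] at h1
  have hpos : 0 < Nat.card {y : G // ∃ h ∈ f.X, h * (c.d * E.t) * h⁻¹ = y} :=
    Nat.card_pos_iff.2 ⟨⟨⟨_, 1, one_mem _, rfl⟩⟩, inferInstance⟩
  have := Nat.eq_of_mul_eq_mul_left hpos h1
  rcases f.card_J hyp with h | h <;> omega

/-- The order of `X`. -/
theorem natCard_X :
    Nat.card f.X = rOf F * Nat.card (f.X ⊓ Subgroup.centralizer ({c.d} : Set G) : Subgroup G) := by
  classical
  obtain ⟨M₁, hM₁⟩ : ∃ M : Finset G, M = Finset.univ.filter (f.InOrb c.d) := ⟨_, rfl⟩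
  obtain ⟨M₂, hM₂⟩ : ∃ M : Finset G, M = Finset.univ.filter (f.InOrb (c.d * E.t)) := ⟨_, rfl⟩
  obtain ⟨Inv, hInv⟩ : ∃ M : Finset G, M = Finset.univ.filter (f.InOrb E.t) := ⟨_, rfl⟩
  have hm₁ : ∀ y, y ∈ M₁ ↔ f.InOrb c.d y := fun y => by simp [hM₁]
  have hm₂ : ∀ y, y ∈ M₂ ↔ f.InOrb (c.d * E.t) y := fun y => by simp [hM₂]
  have hmI : ∀ y, y ∈ Inv ↔ f.InOrb E.t y := fun y => by simp [hInv]
  have ht4 : c.IsFour E.t := Or.inr (Or.inl rfl)
  have hcard : ∀ (M : Finset G) (x : G), (∀ y, y ∈ M ↔ f.InOrb x y) →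
      M.card * Nat.card (f.X ⊓ Subgroup.centralizer ({x} : Set G) : Subgroup G) = Nat.card f.X := by
    intro M x h
    rw [← card_conj_mul f.X x]
    congr 1
    rw [← Fintype.card_coe, ← Nat.card_eq_fintype_card]
    exact Nat.card_congr (Equiv.subtypeEquivRight h)
  have hC : Nat.card (f.X ⊓ Subgroup.centralizer ({E.t} : Set G) : Subgroup G) = 4 * rOf F := by
    let φ : c.fourG × c.Cr → (f.X ⊓ Subgroup.centralizer ({E.t} : Set G) : Subgroup G) := fun p =>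
      ⟨(p.1 : G) * E.ι (p.2 : PST), mul_mem (f.four_mem_X p.1.2) (f.Cr_mem_X p.2.2),
        Subgroup.mem_centralizer_singleton_iff.2 (by
          rw [mul_assoc, ← E.comm, ← mul_assoc, c.four_comm_t p.1.2, mul_assoc])⟩
    rw [← Nat.card_eq_of_bijective φ ⟨?_, ?_⟩, Nat.card_prod, c.natCard_fourG, c.natCard_Cr]
    · rintro ⟨⟨e, he⟩, ⟨a, ha⟩⟩ ⟨⟨e', he'⟩, ⟨a', ha'⟩⟩ h
      obtain ⟨rfl, rfl⟩ := c.four_mul_Cr_inj hyp he he' ha ha' (congrArg Subtype.val h)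
      rfl
    · rintro ⟨x, hxX, hxC⟩
      obtain ⟨e, he, a, ha, rfl⟩ := f.cent_t hyp hxX (Subgroup.mem_centralizer_singleton_iff.1 hxC)
      exact ⟨⟨⟨e, he⟩, ⟨a, ha⟩⟩, rfl⟩
  -- membership near `t`
  have hinv : ∀ x, x * E.ι f.a₀ * x⁻¹ = E.ι f.a₀⁻¹ → ∀ y, f.InOrb x y →
      y * E.ι f.a₀ * y⁻¹ = E.ι f.a₀⁻¹ := by
    rintro x hx _ ⟨h, hh, rfl⟩
    have h1 : h * E.ι f.a₀ * h⁻¹ = E.ι f.a₀ := mul_inv_eq_iff_eq_mul.2 (f.mem_X.1 hh)
    have h2 : h⁻¹ * E.ι f.a₀ * h = E.ι f.a₀ := by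
      conv_lhs => rw [← h1]
      group
    calc h * x * h⁻¹ * E.ι f.a₀ * (h * x * h⁻¹)⁻¹
        = h * (x * (h⁻¹ * E.ι f.a₀ * h) * x⁻¹) * h⁻¹ := by group
      _ = h * E.ι f.a₀⁻¹ * h⁻¹ := by rw [h2, hx]
      _ = E.ι f.a₀⁻¹ := by
        rw [map_inv, show h * (E.ι f.a₀)⁻¹ * h⁻¹ = (h * E.ι f.a₀ * h⁻¹)⁻¹ by group, h1]
  have hdt_inv : c.d * E.t * E.ι f.a₀ * (c.d * E.t)⁻¹ = E.ι f.a₀⁻¹ := by
    rw [show c.d * E.t * E.ι f.a₀ * (c.d * E.t)⁻¹ = c.d * (E.t * E.ι f.a₀ * E.t⁻¹) * c.d⁻¹ by group,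
      E.comm, mul_inv_cancel_right, c.d_tor f.ha₀.1]
  have hsq : ∀ x y, x * x = 1 → f.InOrb x y → y * y = 1 := by
    rintro x _ hx ⟨h, -, rfl⟩
    rw [show h * x * h⁻¹ * (h * x * h⁻¹) = h * (x * x) * h⁻¹ by group, hx, mul_one, mul_inv_cancel]
  have hdt2 : c.d * E.t * (c.d * E.t) = 1 := by
    rw [show c.d * E.t * (c.d * E.t) = c.d * (E.t * c.d) * E.t by group, ← c.dt,
      ← mul_assoc c.d c.d, c.dd, one_mul, E.sq]
  have hprodX : ∀ a ∈ M₁, ∀ b ∈ M₂, a * b ∈ f.X := by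
    intro a ha b hb
    have h1 := hinv _ (c.d_tor f.ha₀.1) a ((hm₁ a).1 ha)
    have h2 := hinv _ hdt_inv b ((hm₂ b).1 hb)
    rw [f.mem_X, ← mul_inv_eq_iff_eq_mul, show a * b * E.ι f.a₀ * (a * b)⁻¹ =
      a * (b * E.ι f.a₀ * b⁻¹) * a⁻¹ by group, h2, map_inv,
      show a * (E.ι f.a₀)⁻¹ * a⁻¹ = (a * E.ι f.a₀ * a⁻¹)⁻¹ by group, h1, map_inv, inv_inv]
  let z : G × G → G := fun q => (q.1 * q.2) ^ (orderOf (q.1 * q.2) / 2)
  -- the involution of a pair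
  have hz : ∀ a ∈ M₁, ∀ b ∈ M₂, z (a, b) ∈ Inv ∧ a * z (a, b) = z (a, b) * a ∧
      b * z (a, b) = z (a, b) * b := by
    intro a ha b hb
    have haa := hsq _ _ c.dd ((hm₁ a).1 ha)
    have hbb := hsq _ _ hdt2 ((hm₂ b).1 hb)
    obtain ⟨n, hn⟩ : ∃ n, n = a * b := ⟨_, rfl⟩
    have hanb : a * n = b := by rw [hn, ← mul_assoc, haa, one_mul]
    have hflip : ∀ k : ℕ, a * n ^ k * a⁻¹ = (n ^ k)⁻¹ := fun k => by
      rw [← conj_pow, ← inv_pow]
      congr 1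
      rw [hanb, inv_eq_of_mul_eq_one_right haa, hn, _root_.mul_inv_rev,
        inv_eq_of_mul_eq_one_right haa, inv_eq_of_mul_eq_one_right hbb]
    have heven : Even (orderOf n) := by
      by_contra hodd
      obtain ⟨j, hj⟩ := Nat.not_even_iff_odd.1 hodd
      have hcon : (n ^ (j + 1))⁻¹ * a * n ^ (j + 1) = b := by
        rw [← hflip, show a * n ^ (j + 1) * a⁻¹ * a * n ^ (j + 1) =
          a * (n ^ (j + 1) * n ^ (j + 1)) by group, ← pow_add,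
          show j + 1 + (j + 1) = orderOf n + 1 by omega, pow_succ, pow_orderOf_eq_one, one_mul, hanb]
      refine f.not_inOrb hyp (f.inOrb_trans ((hm₁ a).1 ha)
        (f.inOrb_trans ⟨(n ^ (j + 1))⁻¹, inv_mem (pow_mem ?_ _), ?_⟩ (f.inOrb_symm ((hm₂ b).1 hb))))
      · rw [hn]; exact hprodX a ha b hb
      · rw [inv_inv]; exact hcon
    obtain ⟨m, hm⟩ := heven
    have hz' : z (a, b) = n ^ m := by
      show (a * b) ^ (orderOf (a * b) / 2) = _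
      rw [← hn]; congr 1; omega
    have hpos : 0 < orderOf n := orderOf_pos n
    have hzsq : n ^ m * n ^ m = 1 := by rw [← pow_add, ← hm, pow_orderOf_eq_one]
    have hz1 : n ^ m ≠ 1 := pow_ne_one_of_lt_orderOf (by omega) (by omega)
    have haz : a * n ^ m = n ^ m * a := by
      rw [← mul_inv_eq_iff_eq_mul, hflip, inv_eq_of_mul_eq_one_right hzsq]
    rw [hz']
    refine ⟨(hmI _).2 (f.involution_conj hyp (pow_mem (hn ▸ hprodX a ha b hb) m) hz1 hzsq), haz, ?_⟩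
    rw [← hanb, mul_assoc, ← pow_succ', pow_succ, ← mul_assoc, haz, mul_assoc]
  -- the pairs over `t`
  have hnear₁ : ∀ y ∈ M₁, y * E.t = E.t * y → ∃ a ∈ c.Cr, y = c.d * E.ι a := by
    intro y hy hyt
    obtain ⟨e, he, a, ha, rfl⟩ := f.decomp hyp hyt (hinv _ (c.d_tor f.ha₀.1) y ((hm₁ y).1 hy))
    by_cases he1 : e = 1
    · exact ⟨a, ha, by rw [he1, one_mul]⟩
    · exact absurd (f.inOrb_trans ((hm₁ _).1 hy) (f.inOrb_symm (f.inOrb_dt hyp ha he he1)))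
        (f.not_inOrb hyp)
  have hnear₂ : ∀ y ∈ M₂, y * E.t = E.t * y →
      ∃ e, c.IsFour e ∧ e ≠ 1 ∧ ∃ a ∈ c.Cr, y = c.d * (e * E.ι a) := by
    intro y hy hyt
    obtain ⟨e, he, a, ha, rfl⟩ := f.decomp hyp hyt (hinv _ hdt_inv y ((hm₂ y).1 hy))
    refine ⟨e, he, fun he1 => ?_, a, ha, rfl⟩
    have h1 := f.inOrb_d hyp ha he
    rw [he1, mul_one] at h1
    rw [he1] at hy
    exact f.not_inOrb hyp (f.inOrb_trans h1 (f.inOrb_symm ((hm₂ _).1 hy)))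
  have hzcalc : ∀ e, c.IsFour e → e ≠ 1 → ∀ a ∈ c.Cr, ∀ b ∈ c.Cr,
      z (c.d * E.ι a, c.d * (e * E.ι b)) = e := by
    intro e he he1 a ha b hb
    have hn : c.d * E.ι a * (c.d * (e * E.ι b)) = e * E.ι (a⁻¹ * b) := by
      rw [show c.d * E.ι a * (c.d * (e * E.ι b)) = c.d * (E.ι a * c.d) * (e * E.ι b) by group,
        c.d_Cr ha, ← mul_assoc c.d c.d, c.dd, one_mul, ← mul_assoc, ← c.four_comm_Cr he (inv_mem ha),
        mul_assoc, ← map_mul]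
    have hu : a⁻¹ * b ∈ c.Cr := mul_mem (inv_mem ha) hb
    have hodd : Odd (orderOf (a⁻¹ * b)) :=
      (odd_r hyp.mod8).of_dvd_nat (orderOf_dvd_of_pow_eq_one hu.2)
    have hoe : orderOf e = 2 := orderOf_eq_prime ((pow_two e).trans (c.four_sq he)) he1
    have hoi : orderOf (E.ι (a⁻¹ * b)) = orderOf (a⁻¹ * b) := orderOf_injective E.ι E.inj _
    have hcomm : Commute e (E.ι (a⁻¹ * b)) := c.four_comm_Cr he hu
    have ho : orderOf (e * E.ι (a⁻¹ * b)) = 2 * orderOf (a⁻¹ * b) := by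
      rw [hcomm.orderOf_mul_eq_mul_orderOf_of_coprime (by
        rw [hoe, hoi]; exact Nat.coprime_two_left.2 hodd), hoe, hoi]
    show (c.d * E.ι a * (c.d * (e * E.ι b))) ^ (orderOf (c.d * E.ι a * (c.d * (e * E.ι b))) / 2) = e
    rw [hn, ho, Nat.mul_div_cancel_left _ two_pos, hcomm.mul_pow, ← map_pow, pow_orderOf_eq_one,
      map_one, mul_one]
    obtain ⟨j, hj⟩ := hodd
    rw [hj, pow_succ, pow_mul, pow_two, c.four_sq he, one_pow, one_mul]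
  obtain ⟨P, hP⟩ : ∃ P : G → Finset (G × G), P = fun w => (M₁ ×ˢ M₂).filter fun q => z q = w :=
    ⟨_, rfl⟩
  have hmP : ∀ w q, q ∈ P w ↔ q.1 ∈ M₁ ∧ q.2 ∈ M₂ ∧ z q = w := fun w q => by
    simp [hP, Finset.mem_product, and_assoc]
  have hfib : (P E.t).card = rOf F * rOf F := by
    have hb : Function.Bijective (fun p : c.Cr × c.Cr =>
        (⟨(c.d * E.ι (p.1 : PST), c.d * (E.t * E.ι (p.2 : PST))), (hmP _ _).2
          ⟨(hm₁ _).2 (by
            have := f.inOrb_d hyp p.1.2 (e := 1) (Or.inl rfl)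
            rwa [mul_one, one_mul] at this),
          (hm₂ _).2 (f.inOrb_d hyp p.2.2 ht4),
          hzcalc E.t ht4 E.t_ne_one _ p.1.2 _ p.2.2⟩⟩ : {q : G × G // q ∈ P E.t})) := by
      constructor
      · intro p p' h
        have h' := congrArg Subtype.val h
        simp only [Prod.mk.injEq] at h'
        exact Prod.ext (Subtype.ext (E.inj (mul_left_cancel h'.1)))
          (Subtype.ext (E.inj (mul_left_cancel (mul_left_cancel h'.2))))
      · rintro ⟨⟨a, b⟩, hq⟩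
        obtain ⟨ha, hb, hzt⟩ := (hmP _ _).1 hq
        obtain ⟨-, h1, h2⟩ := hz a ha b hb
        rw [hzt] at h1 h2
        obtain ⟨a', ha', rfl⟩ := hnear₁ a ha h1
        obtain ⟨e, he, he1, b', hb', rfl⟩ := hnear₂ b hb h2
        rw [hzcalc e he he1 _ ha' _ hb'] at hzt
        subst hzt
        exact ⟨(⟨a', ha'⟩, ⟨b', hb'⟩), rfl⟩
    have := Nat.card_eq_of_bijective _ hb
    rw [Nat.card_prod, c.natCard_Cr, Nat.card_eq_fintype_card, Fintype.card_coe] at this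
    exact this.symm
  have hequiv : ∀ w ∈ Inv, (P w).card = (P E.t).card := by
    intro w hw
    obtain ⟨h, hh, rfl⟩ := (hmI w).1 hw
    have horb : ∀ (g : G), g ∈ f.X → ∀ x y, f.InOrb x y → f.InOrb x (g * y * g⁻¹) :=
      fun g hg x y hy => f.inOrb_trans hy ⟨g, hg, rfl⟩
    have hzconj : ∀ (g a b : G), z (g * a * g⁻¹, g * b * g⁻¹) = g * z (a, b) * g⁻¹ := by
      intro g a b
      have hh : g * a * g⁻¹ * (g * b * g⁻¹) = g * (a * b) * g⁻¹ := by group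
      have ho : orderOf (g * (a * b) * g⁻¹) = orderOf (a * b) := (MulAut.conj g).orderOf_eq (a * b)
      show (g * a * g⁻¹ * (g * b * g⁻¹)) ^ (orderOf (g * a * g⁻¹ * (g * b * g⁻¹)) / 2) = _
      rw [hh, ho, conj_pow]
    refine Finset.card_bij' (fun q _ => (h⁻¹ * q.1 * h, h⁻¹ * q.2 * h))
      (fun q _ => (h * q.1 * h⁻¹, h * q.2 * h⁻¹)) ?_ ?_ ?_ ?_
    · intro q hq
      obtain ⟨h1, h2, h3⟩ := (hmP _ q).1 hq
      refine (hmP _ _).2 ⟨(hm₁ _).2 ?_, (hm₂ _).2 ?_, ?_⟩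
      · simpa using horb h⁻¹ (inv_mem hh) _ _ ((hm₁ _).1 h1)
      · simpa using horb h⁻¹ (inv_mem hh) _ _ ((hm₂ _).1 h2)
      · have := hzconj h⁻¹ q.1 q.2
        simp only [inv_inv] at this
        rw [this, h3]; group
    · intro q hq
      obtain ⟨h1, h2, h3⟩ := (hmP _ q).1 hq
      exact (hmP _ _).2 ⟨(hm₁ _).2 (horb h hh _ _ ((hm₁ _).1 h1)),
        (hm₂ _).2 (horb h hh _ _ ((hm₂ _).1 h2)), by rw [hzconj, h3]⟩
    · intro q _; ext <;> simp [mul_assoc]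
    · intro q _; ext <;> simp [mul_assoc]
  have htot : M₁.card * M₂.card = Inv.card * (rOf F * rOf F) := by
    rw [← Finset.card_product, Finset.card_eq_sum_card_fiberwise (f := z) (t := Inv)
      (fun q hq => (hz q.1 (Finset.mem_product.1 hq).1 q.2 (Finset.mem_product.1 hq).2).1)]
    rw [Finset.sum_congr rfl fun w hw => show _ = rOf F * rOf F by
      rw [← hfib, ← hequiv w hw, hP], Finset.sum_const, smul_eq_mul]
  have h1 := hcard M₁ _ hm₁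
  have h2 := hcard M₂ _ hm₂
  have h3 := hcard Inv _ hmI
  rw [f.card_J₂ hyp] at h2
  rw [hC] at h3
  have hI : 0 < Inv.card := Finset.card_pos.2 ⟨E.t, (hmI _).2 ⟨1, one_mem _, by simp⟩⟩
  have hr0 : 0 < rOf F := by have := (three_le_r hyp.mod8); omega
  have hM : M₁.card = rOf F := by
    apply Nat.eq_of_mul_eq_mul_left (Nat.mul_pos hI (Nat.mul_pos (show 0 < 4 by norm_num) hr0))
    calc Inv.card * (4 * rOf F) * M₁.card = M₁.card * (M₂.card * 4) := by rw [h2, h3, mul_comm]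
      _ = (M₁.card * M₂.card) * 4 := by ring
      _ = Inv.card * (4 * rOf F) * rOf F := by rw [htot]; ring
  rw [← h1, hM]

end Fix

end CfsgLib.JankoThompson
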