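import Cfsg.Agent.JankoThompson.FixFpf
import Mathlib

/-!
# No nontrivial element of `C_r` is centralised by the cycling element
-/

set_option autoImplicit false
set_option linter.unusedSectionVars false
set_option linter.style.haveILetI false

namespace CfsgLib.JankoThompson

open Matrix CfsgLib.ReeTypeS3
open scoped MatrixGroups Pointwise

universe u v

variable {G : Type u} [Group G] [Fintype G] {F : Type v} [Field F] [Fintype F]

local notation "PST" => Matrix.ProjectiveSpecialLinearGroup (Fin 2) F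

variable {E : Emb G (Matrix.ProjectiveSpecialLinearGroup (Fin 2) F)}

/-- A centraliser transported by conjugation. -/
theorem exists_cent_conj {L : Type*} [Group L] {y k : L} (S₀ : Subgroup L)
    (hS₀ : ∀ m : L, m * (k * y * k⁻¹) = k * y * k⁻¹ * m ↔ m ∈ S₀)
    (hab : ∀ a ∈ S₀, ∀ b ∈ S₀, a * b = b * a) :
    ∃ T : Subgroup L, (∀ l : L, l * y = y * l ↔ l ∈ T) ∧ (∀ a ∈ T, ∀ b ∈ T, a * b = b * a) ∧
      Nat.card T = Nat.card S₀ := by
  refine ⟨S₀.comap (MulAut.conj k).toMonoidHom, fun l => ?_, fun a ha b hb => ?_, ?_⟩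
  · rw [Subgroup.mem_comap, ← hS₀]
    show _ ↔ k * l * k⁻¹ * (k * y * k⁻¹) = k * y * k⁻¹ * (k * l * k⁻¹)
    rw [show k * l * k⁻¹ * (k * y * k⁻¹) = k * (l * y) * k⁻¹ by group,
      show k * y * k⁻¹ * (k * l * k⁻¹) = k * (y * l) * k⁻¹ by group]
    exact ⟨fun h => by rw [h], fun h => mul_left_cancel (mul_right_cancel h)⟩
  · exact (MulAut.conj k).injective (by
      rw [map_mul, map_mul]; exact hab _ ha _ hb)
  · exact Nat.card_congr
      { toFun := fun x => ⟨MulAut.conj k x.1, x.2⟩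
        invFun := fun x => ⟨(MulAut.conj k).symm x.1, by
          show MulAut.conj k ((MulAut.conj k).symm x.1) ∈ S₀
          rw [MulEquiv.apply_symm_apply]; exact x.2⟩
        left_inv := fun x => Subtype.ext ((MulAut.conj k).symm_apply_apply x.1)
        right_inv := fun x => Subtype.ext ((MulAut.conj k).apply_symm_apply x.1) }

/-- The centraliser of an element whose order is a prime dividing `q`. -/
theorem exists_T_q (h : Mod8 F) {ℓ : ℕ} [Fact ℓ.Prime] (hℓ : ℓ ∣ Fintype.card F) {y : PST}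
    (ho : orderOf y = ℓ) :
    ∃ T : Subgroup PST, (∀ l : PST, l * y = y * l ↔ l ∈ T) ∧ (∀ a ∈ T, ∀ b ∈ T, a * b = b * a) ∧
      Nat.card T = Fintype.card F := by
  obtain ⟨k, hk⟩ := exists_conj_subQ h hℓ (j := 1) (x := y) (by rw [pow_one, ← ho, pow_orderOf_eq_one])
  have hne : k * y * k⁻¹ ≠ 1 := fun e => (Fact.out : ℓ.Prime).one_lt.ne' (by
    rw [← ho, conj_eq_one_iff.1 e, orderOf_one])
  have hcomm : ∀ a ∈ subQ (F := F), ∀ b ∈ subQ (F := F), a * b = b * a := by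
    rintro _ ⟨a, rfl⟩ _ ⟨b, rfl⟩
    rw [← map_mul, ← map_mul, mul_comm]
  obtain ⟨T, h1, h2, h3⟩ := exists_cent_conj (y := y) (k := k) (subQ (F := F))
    (fun m => ⟨mem_subQ_of_commute' h hk hne, fun hm => hcomm m hm _ hk⟩) hcomm
  exact ⟨T, h1, h2, by rw [h3, natCard_subQ, Nat.card_eq_fintype_card]⟩

/-- The centraliser of an element of odd prime order prime to `q r`. -/
theorem exists_T_u (h : Mod8 F) {ℓ : ℕ} [Fact ℓ.Prime] (hℓ2 : ℓ ≠ 2) (hℓq : ¬ ℓ ∣ Fintype.card F)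
    (hℓr : ¬ ℓ ∣ rOf F) {y : PST} (ho : orderOf y = ℓ) :
    ∃ T : Subgroup PST, (∀ l : PST, l * y = y * l ↔ l ∈ T) ∧ (∀ a ∈ T, ∀ b ∈ T, a * b = b * a) ∧
      Nat.card T = uOf F := by
  obtain ⟨g, ht, hg⟩ := exists_tor_odd h
  obtain ⟨k, hk⟩ := exists_conj_tor_u h hg hℓ2 hℓq hℓr (j := 1) (x := y)
    (by rw [pow_one, ← ho, pow_orderOf_eq_one])
  have hne : k * y * k⁻¹ * (k * y * k⁻¹) ≠ 1 := fun e => by
    rw [show k * y * k⁻¹ * (k * y * k⁻¹) = k * (y * y) * k⁻¹ by group, conj_eq_one_iff] at e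
    have h1 := orderOf_dvd_of_pow_eq_one ((pow_two y).trans e)
    rw [ho] at h1
    exact hℓ2 ((Nat.prime_dvd_prime_iff_eq Fact.out Nat.prime_two).1 h1)
  obtain ⟨T, h1, h2, h3⟩ := exists_cent_conj (y := y) (k := k) (tor g)
    (fun m => ⟨mem_tor_of_commute h ht hk hne, fun hm => tor_comm ht hm hk⟩)
    (fun a ha b hb => tor_comm ht ha hb)
  exact ⟨T, h1, h2, h3.trans hg⟩

/-- An element commuting with an involution, transported into `L`. -/
theorem exists_transport (hyp : Hyp E) {s y : G} (hs : s ≠ 1) (hss : s * s = 1) (hys : y * s = s * y)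
    {ℓ : ℕ} (hℓ : Odd ℓ) (ho : orderOf y = ℓ) :
    ∃ g : G, g * s * g⁻¹ = E.t ∧ ∃ l : PST, g * y * g⁻¹ = E.ι l ∧ orderOf l = ℓ := by
  obtain ⟨g, hg⟩ := exists_to_t hyp hs hss
  have hy : g * y * g⁻¹ * E.t = E.t * (g * y * g⁻¹) := by
    rw [← hg, show g * y * g⁻¹ * (g * s * g⁻¹) = g * (y * s) * g⁻¹ by group, hys]; group
  obtain ⟨l, hl, -⟩ := exists_ι_of_odd hyp hy hℓ (by rw [conj_pow, ← ho, pow_orderOf_eq_one]; group)
  refine ⟨g, hg, l, hl, ?_⟩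
  rw [← orderOf_injective E.ι E.inj, ← hl, ← ho]
  exact (MulAut.conj g).orderOf_eq _

namespace Fix

variable (hyp : Hyp E) {c : Cyc E} (f : Fix c)
include hyp

/-- An element of `J` of order `p` is conjugate to a generator of `⟨c⟩`. -/
theorem exists_to_a₀ {y : G} (hy : y ∈ f.J) (ho : orderOf y = f.p) :
    ∃ g : G, g * c.d * g⁻¹ = E.t ∧ g * y * g⁻¹ ∈ Subgroup.zpowers (E.ι f.a₀) ∧
      ∃ i : ℤ, g * y ^ i * g⁻¹ = E.ι f.a₀ := by
  obtain ⟨g, hg, a, ha, hya, hoa⟩ :=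
    exists_to_Cr hyp c c.d1 c.dd (f.mem_J.1 hy).2 f.hp f.p_dvd ho
  haveI := c.isCyclic_Cr
  obtain ⟨i, hi⟩ := mem_zpowers_of_cyclic ha f.ha₀ (by rw [f.ho, hoa])
  obtain ⟨j, hj⟩ := mem_zpowers_of_cyclic f.ha₀ ha (by rw [f.ho, hoa])
  exact ⟨g, hg, ⟨j, by rw [hya, ← hj, map_zpow]⟩, i, by rw [← conj_zpow, hya, ← map_zpow, ← hi]⟩

/-- The case `p = 3`, `|J| = 12`. -/
theorem false_three_twelve (hp : f.p = 3) (h12 : Nat.card f.J = 12) : False := by
  obtain ⟨g, hg, hv, i, hi⟩ := f.exists_to_a₀ hyp f.v_mem_J (by rw [hp, orderOf_eq_prime c.v3 c.v1])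
  obtain ⟨c', hc'⟩ : ∃ c', c' = g * E.ι f.a₀ * g⁻¹ := ⟨_, rfl⟩
  have hcX : c' ∈ f.H hyp := by
    rw [f.H_eq hyp h12, f.mem_X, ← hi, hc']
    exact (((show Commute c.v (E.ι f.a₀) from mul_inv_eq_iff_eq_mul.1 f.vfix).symm.zpow_right i).map
      (MulAut.conj g).toMonoidHom).eq
  have hinv : E.t * c' * E.t = c'⁻¹ := by
    rw [← hg, hc']
    calc g * c.d * g⁻¹ * (g * E.ι f.a₀ * g⁻¹) * (g * c.d * g⁻¹)
        = g * (c.d * E.ι f.a₀ * c.d) * g⁻¹ := by group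
      _ = g * (c.d * E.ι f.a₀ * c.d⁻¹) * g⁻¹ := by rw [c.d_inv]
      _ = _ := by rw [c.d_tor f.ha₀.1, map_inv]; group
  obtain ⟨z, hz, k, hk⟩ := hcX
  have ht4 : c.IsFour E.t := Or.inr (Or.inl rfl)
  obtain ⟨w, hw⟩ : ∃ w, w = E.t * (c.v ^ k * E.t * (c.v ^ k)⁻¹) := ⟨_, rfl⟩
  have h1 : E.t * c' * E.t = z * w * c.v ^ k := by
    rw [hk, show E.t * (z * c.v ^ k) * E.t = (E.t * z) * (c.v ^ k * E.t * (c.v ^ k)⁻¹) * c.v ^ k by group,
      ← f.four_comm_A hyp hz ht4, mul_assoc z, hw]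
  have h2 : c'⁻¹ = c.v ^ (2 * k) * z⁻¹ * (c.v ^ (2 * k))⁻¹ * c.v ^ (2 * k) := by
    have e2 : (c.v ^ k)⁻¹ = c.v ^ (2 * k) := by
      rw [inv_eq_iff_mul_eq_one, ← pow_add, show k + 2 * k = 3 * k by ring, pow_mul, c.v3, one_pow]
    rw [inv_mul_cancel_right, hk, _root_.mul_inv_rev, e2]
  have hwA : w ∈ f.A := hw ▸ mul_mem (f.four_mem_A hyp ht4) (f.four_mem_A hyp (c.four_conj_pow ht4 k))
  have hmod := f.coord_unique hyp (mul_mem hz hwA) (f.conj_A hyp (inv_mem hz) _)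
    ((h1.symm.trans hinv).trans h2)
  rw [← pow_mod_orderOf c.v k, orderOf_eq_prime c.v3 c.v1, show k % 3 = 0 by omega, pow_zero, mul_one]
    at hk
  subst hk
  rw [← f.four_comm_A hyp hz ht4, mul_assoc, E.sq, mul_one] at hinv
  have h0 : (g * E.ι f.a₀ * g⁻¹) * (g * E.ι f.a₀ * g⁻¹) = 1 := by
    rw [← hc']; nth_rewrite 1 [hinv]; exact inv_mul_cancel c'
  rw [show g * E.ι f.a₀ * g⁻¹ * (g * E.ι f.a₀ * g⁻¹) = g * E.ι (f.a₀ * f.a₀) * g⁻¹ by
    rw [map_mul]; group, conj_eq_one_iff] at h0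
  exact f.a₀_sq hyp (E.inj (h0.trans (map_one E.ι).symm))

/-- The case `p ∈ {3, 5}`, `|J| = 60`. -/
theorem false_sixty (hp : f.p = 3 ∨ f.p = 5) (h60 : Nat.card f.J = 60) : False := by
  classical
  haveI : Fact f.p.Prime := ⟨f.hp⟩
  haveI : Fact (Nat.Prime 2) := ⟨Nat.prime_two⟩
  have hX : Nat.card f.X = rOf F * Nat.card f.J := f.natCard_X hyp
  have hp2 : f.p ≠ 2 := by omega
  obtain ⟨⟨w₀, hw₀J⟩, hw₀o⟩ := exists_prime_orderOf_dvd_card' (G := f.J) f.p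
    (by rw [h60]; rcases hp with h | h <;> rw [h] <;> norm_num)
  rw [Subgroup.orderOf_mk] at hw₀o
  obtain ⟨g, -, -, i, hgw⟩ := f.exists_to_a₀ hyp hw₀J hw₀o
  obtain ⟨w, hw⟩ : ∃ w, w = w₀ ^ i := ⟨_, rfl⟩
  rw [← hw] at hgw
  have hwJ : w ∈ f.J := hw ▸ zpow_mem hw₀J i
  have hwo : orderOf w = f.p := by
    rw [← f.orderOf_ι_a₀, ← hgw]; exact ((MulAut.conj g).orderOf_eq w).symm
  have hw_not : ∀ a ∈ c.Cr, w ≠ E.ι a := by
    intro a ha e
    have h4 := f.J_inter_A hyp (e ▸ hwJ) ((f.mem_A hyp).2 ⟨1, Or.inl rfl, a, ha, by rw [one_mul]⟩)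
    have := orderOf_dvd_of_pow_eq_one ((pow_two w).trans (e ▸ c.four_sq h4))
    rw [hwo] at this
    exact hp2 ((Nat.prime_dvd_prime_iff_eq f.hp Nat.prime_two).1 this)
  haveI := c.isCyclic_Cr
  letI : CommGroup c.Cr := IsCyclic.commGroup
  obtain ⟨P₀⟩ : Nonempty (Sylow f.p c.Cr) := inferInstance
  haveI : Subsingleton (Sylow f.p c.Cr) := (Sylow.unique_of_normal P₀ inferInstance).instSubsingleton
  have hP₀mem : ∀ {a : c.Cr} {j : ℕ}, (a : PST) ^ f.p ^ j = 1 → a ∈ (P₀ : Subgroup c.Cr) := by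
    intro a j hj
    have hpz : IsPGroup f.p (Subgroup.zpowers a) := by
      obtain ⟨k, -, hk⟩ := (Nat.dvd_prime_pow f.hp).1 (orderOf_dvd_of_pow_eq_one
        (Subtype.ext (by simpa using hj) : a ^ f.p ^ j = 1))
      exact IsPGroup.of_card (n := k) (by rw [Nat.card_zpowers, hk])
    obtain ⟨Q, hQ⟩ := hpz.exists_le_sylow
    exact Subsingleton.elim Q P₀ ▸ hQ (Subgroup.mem_zpowers _)
  have hwcomm : ∀ {a : PST}, a ∈ c.Cr → Commute (E.ι a) w := fun ha =>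
    (f.J_comm_Cr hyp h60 hwJ ha).symm
  let φ : ↥(P₀ : Subgroup c.Cr) × Subgroup.zpowers w →* G :=
    MonoidHom.noncommCoprod (E.ι.comp (c.Cr.subtype.comp (P₀ : Subgroup c.Cr).subtype))
      (Subgroup.zpowers w).subtype (by
        rintro a ⟨b, k, rfl⟩
        exact (hwcomm (a : c.Cr).2).zpow_right k)
  obtain ⟨Q, hQ⟩ : ∃ Q : Subgroup G, Q = φ.range := ⟨_, rfl⟩
  have hmQ : ∀ x, x ∈ Q ↔ ∃ a ∈ c.Cr, (∃ j, a ^ f.p ^ j = 1) ∧ ∃ k : ℤ, x = E.ι a * w ^ k := by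
    intro x
    rw [hQ]
    constructor
    · rintro ⟨⟨⟨a, ha⟩, ⟨b, k, rfl⟩⟩, rfl⟩
      obtain ⟨j, hj⟩ := P₀.2 ⟨a, ha⟩
      refine ⟨a, a.2, ⟨j, ?_⟩, k, rfl⟩
      have h := congrArg (fun z : (P₀ : Subgroup c.Cr) => ((z : c.Cr) : PST)) hj
      simpa using h
    · rintro ⟨a, ha, ⟨j, hj⟩, k, rfl⟩
      exact ⟨(⟨⟨a, ha⟩, hP₀mem hj⟩, ⟨w ^ k, k, rfl⟩), rfl⟩
  have hQX : Q ≤ f.X := fun x hx => by
    obtain ⟨a, ha, -, k, rfl⟩ := (hmQ x).1 hx
    exact mul_mem (f.Cr_mem_X ha) (zpow_mem (f.mem_J.1 hwJ).1 k)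
  have hwQ : w ∈ Q := (hmQ w).2 ⟨1, one_mem _, ⟨0, by simp⟩, 1, by simp⟩
  have hQcomm : ∀ x ∈ Q, x * w = w * x := fun x hx => by
    obtain ⟨a, ha, -, k, rfl⟩ := (hmQ x).1 hx
    exact ((hwcomm ha).mul_left ((Commute.refl w).zpow_left k)).eq
  have hφinj : Function.Injective φ := by
    rw [injective_iff_map_eq_one]
    rintro ⟨⟨a, ha⟩, ⟨b, k, rfl⟩⟩ h
    have h' : E.ι (a : PST) * w ^ k = 1 := h
    have hk1 : w ^ k = 1 := by
      rw [← orderOf_dvd_iff_zpow_eq_one, hwo]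
      by_contra hnd
      obtain ⟨u, v', huv⟩ :=
        ((Int.prime_iff_natAbs_prime.2 (by simpa using f.hp) : Prime (f.p : ℤ)).coprime_iff_not_dvd).2 hnd
      refine hw_not ((a : PST)⁻¹ ^ v') (zpow_mem (inv_mem a.2) v') ?_
      calc w = w ^ (u * (f.p : ℤ) + v' * k) := by rw [huv, zpow_one]
        _ = (w ^ (f.p : ℤ)) ^ u * (w ^ k) ^ v' := by
          rw [_root_.zpow_add, mul_comm u, mul_comm v', _root_.zpow_mul, _root_.zpow_mul]
        _ = _ := by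
          rw [zpow_natCast, ← hwo, pow_orderOf_eq_one, _root_.one_zpow, one_mul,
            eq_inv_of_mul_eq_one_right h', ← map_inv, ← map_zpow]
    rw [hk1, mul_one] at h'
    exact Prod.ext (Subtype.ext (Subtype.ext (E.inj (h'.trans (map_one E.ι).symm)))) (Subtype.ext hk1)
  have hQcard : Nat.card Q = f.p ^ (Nat.card f.X).factorization f.p := by
    have e60 : (60 : ℕ).factorization f.p = 1 := by
      obtain ⟨m, hm, hnd⟩ : ∃ m, 60 = f.p ^ 1 * m ∧ ¬ f.p ∣ m := by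
        rcases hp with h | h <;> rw [h]
        exacts [⟨20, by norm_num, by norm_num⟩, ⟨12, by norm_num, by norm_num⟩]
      rw [hm, Nat.factorization_mul (pow_ne_zero _ f.hp.ne_zero) (fun h0 => hnd (by rw [h0]; exact dvd_zero _)),
        Finsupp.add_apply, f.hp.factorization_pow, Finsupp.single_eq_same,
        Nat.factorization_eq_zero_of_not_dvd hnd]
    rw [hQ, ← Nat.card_congr (MonoidHom.ofInjective hφinj).toEquiv, Nat.card_prod,
      P₀.card_eq_multiplicity, c.natCard_Cr, Nat.card_zpowers, hwo, hX, h60,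
      Nat.factorization_mul (by have := three_le_r hyp.mod8; omega) (by norm_num), Finsupp.add_apply,
      e60, pow_succ]
  -- fusion in the normaliser of `Q`
  obtain ⟨n, hnQ, hnw⟩ : ∃ n ∈ Subgroup.normalizer (Q : Set G), n * w * n⁻¹ = E.ι f.a₀ := by
    obtain ⟨Q', hQ'⟩ : ∃ Q' : Subgroup G, Q' = Q.map (MulAut.conj g).toMonoidHom := ⟨_, rfl⟩
    have hQ'X : Q' ≤ f.X := by
      rw [hQ']
      rintro _ ⟨x, hx, rfl⟩
      rw [f.mem_X, ← hgw]
      exact ((show Commute x w from hQcomm x hx).map (MulAut.conj g).toMonoidHom).eq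
    let S1 : Sylow f.p f.X := Sylow.ofCard (Q.subgroupOf f.X) (by
      rw [Nat.card_congr (Subgroup.subgroupOfEquivOfLe hQX).toEquiv, hQcard])
    let S2 : Sylow f.p f.X := Sylow.ofCard (Q'.subgroupOf f.X) (by
      rw [Nat.card_congr (Subgroup.subgroupOfEquivOfLe hQ'X).toEquiv, hQ',
        Subgroup.card_map_of_injective (MulAut.conj g).injective, hQcard])
    obtain ⟨y, hy⟩ := MulAction.exists_smul_eq f.X S2 S1
    have hyQ : ∀ x ∈ Q, (y : G) * g * x * ((y : G) * g)⁻¹ ∈ Q := by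
      intro x hx
      have hxQ' : g * x * g⁻¹ ∈ Q' := hQ' ▸ ⟨x, hx, rfl⟩
      have hm : MulAut.conj y • (⟨g * x * g⁻¹, hQ'X hxQ'⟩ : f.X) ∈ ((y • S2 : Sylow f.p f.X) : Subgroup f.X) := by
        rw [Sylow.coe_subgroup_smul]
        exact Subgroup.smul_mem_pointwise_smul _ _ _ (Subgroup.mem_subgroupOf.2 hxQ')
      rw [hy] at hm
      have h2 : (y : G) * (g * x * g⁻¹) * (y : G)⁻¹ ∈ Q := Subgroup.mem_subgroupOf.1 hm
      rwa [show (y : G) * g * x * ((y : G) * g)⁻¹ = (y : G) * (g * x * g⁻¹) * (y : G)⁻¹ by group]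
    refine ⟨(y : G) * g, ?_, ?_⟩
    · exact Subgroup.mem_normalizer_iff.2 fun x => ⟨hyQ x, fun hx => by
        obtain ⟨x', hx'Q, e⟩ : ∃ x' ∈ Q, (y : G) * g * x' * ((y : G) * g)⁻¹ =
            (y : G) * g * x * ((y : G) * g)⁻¹ := by
          let ψ : Q → Q := fun z => ⟨(y : G) * g * z * ((y : G) * g)⁻¹, hyQ z z.2⟩
          have hψ : Function.Injective ψ := fun a b h => Subtype.ext
            (mul_left_cancel (a := (y : G) * g) (mul_right_cancel (b := ((y : G) * g)⁻¹) (congrArg Subtype.val h)))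
          obtain ⟨⟨x', hx'⟩, e⟩ := (Finite.injective_iff_surjective.1 hψ) ⟨_, hx⟩
          exact ⟨x', hx', congrArg Subtype.val e⟩
        rw [← mul_left_cancel (mul_right_cancel e)]; exact hx'Q⟩
    · rw [show (y : G) * g * w * ((y : G) * g)⁻¹ = (y : G) * (g * w * g⁻¹) * (y : G)⁻¹ by group, hgw,
        f.mem_X.1 y.2, mul_inv_cancel_right]
  -- `p` divides `r` exactly once
  have hpr : ¬ f.p ^ 2 ∣ rOf F := by
    intro hd
    obtain ⟨γ, hγ⟩ := IsCyclic.exists_generator (α := c.Cr)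
    have hγo : orderOf (γ : PST) = rOf F := by
      rw [Subgroup.orderOf_coe, orderOf_eq_card_of_forall_mem_zpowers hγ, c.natCard_Cr]
    obtain ⟨z, hz⟩ : ∃ z, z = (γ : PST) ^ (orderOf (γ : PST) / f.p ^ 2) := ⟨_, rfl⟩
    have hzo : orderOf z = f.p ^ 2 := by
      rw [hz, orderOf_pow_orderOf_div (by rw [hγo]; have := three_le_r hyp.mod8; omega)
        (by rw [hγo]; exact hd)]
    have hzC : z ∈ c.Cr := hz ▸ pow_mem γ.2 _
    have hzp : orderOf (z ^ f.p) = f.p := by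
      rw [orderOf_pow_of_dvd f.hp.ne_zero (hzo ▸ dvd_pow_self _ two_ne_zero), hzo, pow_two,
        Nat.mul_div_cancel _ f.hp.pos]
    obtain ⟨j, hj⟩ := mem_zpowers_of_cyclic (pow_mem hzC f.p) f.ha₀ (by rw [hzp, f.ho])
    have hj' : (z ^ f.p) ^ j = f.a₀ := hj
    have hc : E.ι f.a₀ = (E.ι (z ^ j)) ^ f.p := by
      rw [← map_pow, ← hj', ← zpow_natCast z f.p, ← zpow_natCast (z ^ j), ← _root_.zpow_mul,
        ← _root_.zpow_mul, mul_comm]
    have hzjQ : E.ι (z ^ j) ∈ Q := (hmQ _).2 ⟨z ^ j, zpow_mem hzC j, ⟨2, by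
      rw [← zpow_natCast, ← _root_.zpow_mul, mul_comm, _root_.zpow_mul, zpow_natCast, ← hzo,
        pow_orderOf_eq_one, _root_.one_zpow]⟩, 0, by simp⟩
    obtain ⟨a, ha, -, k, hk⟩ := (hmQ _).1 ((Subgroup.mem_normalizer_iff''.1 hnQ _).1 hzjQ)
    refine hw_not (a ^ f.p) (pow_mem ha _) ?_
    calc w = n⁻¹ * E.ι f.a₀ * n := by rw [← hnw]; group
      _ = (n⁻¹ * E.ι (z ^ j) * n) ^ f.p := by
        rw [hc]
        have := conj_pow (a := n⁻¹) (b := E.ι (z ^ j)) (i := f.p)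
        rw [inv_inv] at this
        exact this.symm
      _ = E.ι a ^ f.p * (w ^ k) ^ f.p := by
        rw [hk, ((hwcomm ha).zpow_right k).mul_pow]
      _ = _ := by
        rw [← zpow_natCast (w ^ k), ← _root_.zpow_mul, mul_comm, _root_.zpow_mul, zpow_natCast w,
          ← hwo, pow_orderOf_eq_one, _root_.one_zpow, mul_one, map_pow]
  have hsmall : ∀ {b : PST}, b ∈ c.Cr → ∀ {j : ℕ}, b ^ f.p ^ j = 1 → b ∈ Subgroup.zpowers f.a₀ := by
    intro b hb j hj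
    refine mem_zpowers_of_cyclic f.ha₀ hb ?_
    obtain ⟨k, -, hk⟩ := (Nat.dvd_prime_pow f.hp).1 (orderOf_dvd_of_pow_eq_one hj)
    have hd : orderOf b ∣ rOf F := orderOf_dvd_of_pow_eq_one hb.2
    rw [hk] at hd
    rw [hk, f.ho]
    suffices hk1 : k ≤ 1 by
      have := pow_dvd_pow f.p hk1
      rwa [pow_one] at this
    by_contra h
    exact hpr ((pow_dvd_pow f.p (by omega : 2 ≤ k)).trans hd)
  have hcQ : E.ι f.a₀ ∈ Q :=
    (hmQ _).2 ⟨f.a₀, f.ha₀, ⟨1, by rw [pow_one, ← f.ho, pow_orderOf_eq_one]⟩, 0, by simp⟩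
  -- the elements of `Q` inverted or fixed by `d`
  have hdw : c.d * w * c.d⁻¹ = w := by rw [← (f.mem_J.1 hwJ).2, mul_inv_cancel_right]
  have hdaw : ∀ {b : PST}, b ∈ c.Cr → ∀ k : ℤ, c.d * (E.ι b * w ^ k) * c.d⁻¹ = E.ι b⁻¹ * w ^ k := by
    intro b hb k
    rw [show c.d * (E.ι b * w ^ k) * c.d⁻¹ = (c.d * E.ι b * c.d⁻¹) * (c.d * w ^ k * c.d⁻¹) by group,
      c.d_tor hb.1, ← conj_zpow, hdw]
  have hinvc : ∀ x ∈ Q, c.d * x * c.d⁻¹ = x⁻¹ → x ∈ Subgroup.zpowers (E.ι f.a₀) := by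
    intro x hx h
    obtain ⟨b, hb, ⟨j, hj⟩, k, rfl⟩ := (hmQ x).1 hx
    rw [hdaw hb, _root_.mul_inv_rev, ← ((hwcomm hb).zpow_right k).inv_inv.eq, map_inv] at h
    have h' : w ^ (k + k) = 1 := by
      rw [_root_.zpow_add]; nth_rewrite 1 [mul_left_cancel h]; exact inv_mul_cancel _
    rw [← orderOf_dvd_iff_zpow_eq_one, hwo] at h'
    have hk : w ^ k = 1 := by
      rw [← orderOf_dvd_iff_zpow_eq_one, hwo]
      rw [← two_mul] at h'
      refine ((Int.prime_iff_natAbs_prime.2 (by simpa using f.hp) : Prime (f.p : ℤ)).dvd_mul.1 h').resolve_left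
        fun h2 => ?_
      exact hp2 ((Nat.prime_dvd_prime_iff_eq f.hp Nat.prime_two).1 (by exact_mod_cast h2))
    obtain ⟨m, rfl⟩ := hsmall hb hj
    exact ⟨m, by rw [hk, mul_one, map_zpow]⟩
  have hfixw : ∀ x ∈ Q, c.d * x * c.d⁻¹ = x → x ∈ Subgroup.zpowers w := by
    intro x hx h
    obtain ⟨b, hb, ⟨j, hj⟩, k, rfl⟩ := (hmQ x).1 hx
    rw [hdaw hb] at h
    have hb' : b⁻¹ = b := E.inj (mul_right_cancel h)
    have hb2 : b * b = 1 := by nth_rewrite 1 [← hb']; exact inv_mul_cancel b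
    exact ⟨k, by rw [c.eq_one_of_sq hyp hb hb2, map_one, one_mul]⟩
  have hdQ : c.d ∈ Subgroup.normalizer (Q : Set G) := by
    have key : ∀ x ∈ Q, c.d * x * c.d⁻¹ ∈ Q := by
      intro x hx
      obtain ⟨b, hb, ⟨j, hj⟩, k, rfl⟩ := (hmQ x).1 hx
      exact (hmQ _).2 ⟨b⁻¹, inv_mem hb, ⟨j, by rw [inv_pow, hj, inv_one]⟩, k, hdaw hb k⟩
    refine Subgroup.mem_normalizer_iff.2 fun x => ⟨key x, fun h => ?_⟩
    have := key _ h
    rwa [show c.d * (c.d * x * c.d⁻¹) * c.d⁻¹ = (c.d * c.d) * x * (c.d * c.d)⁻¹ by group, c.dd,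
      one_mul, inv_one, mul_one] at this
  -- the orbit of the line
  obtain ⟨N, hN⟩ : ∃ N : Subgroup G, N = Subgroup.normalizer (Q : Set G) := ⟨_, rfl⟩
  rw [← hN] at hnQ hdQ
  obtain ⟨line, hline⟩ : ∃ line : Subgroup G, line = Subgroup.zpowers (E.ι f.a₀) := ⟨_, rfl⟩
  letI : MulAction N (Subgroup G) := MulAction.compHom _ ((MulAut.conj : G →* MulAut G).comp N.subtype)
  have hsm : ∀ (x : N) (y : G), x • Subgroup.zpowers y = Subgroup.zpowers ((x : G) * y * (x : G)⁻¹) :=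
    fun x y => MonoidHom.map_zpowers _ _
  have hsyl : ∀ x : N, x ∈ MulAction.stabilizer N line ↔ x • line = line := fun x => Iff.rfl
  have hdp : IsPGroup 2 (Subgroup.zpowers (⟨c.d, hdQ⟩ : N)) := IsPGroup.of_card (n := 1) (by
    rw [Nat.card_zpowers, Subgroup.orderOf_mk, pow_one]
    exact orderOf_eq_prime ((pow_two _).trans c.dd) c.d1)
  obtain ⟨T, hT⟩ := hdp.exists_le_sylow
  have hTstab : (T : Subgroup N) ≤ MulAction.stabilizer N line := by
    intro x hx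
    obtain ⟨-, hxd⟩ := two_group_facts hyp (T.2.map N.subtype) (x := (x : G)) (y := c.d) ⟨x, hx, rfl⟩
      ⟨⟨c.d, hdQ⟩, hT (Subgroup.mem_zpowers _), rfl⟩
    have hxQ : (x : G) * E.ι f.a₀ * (x : G)⁻¹ ∈ Q :=
      (Subgroup.mem_normalizer_iff.1 (hN ▸ x.2) _).1 hcQ
    have hxinv : c.d * ((x : G) * E.ι f.a₀ * (x : G)⁻¹) * c.d⁻¹ = ((x : G) * E.ι f.a₀ * (x : G)⁻¹)⁻¹ := by
      calc c.d * ((x : G) * E.ι f.a₀ * (x : G)⁻¹) * c.d⁻¹
          = (c.d * (x : G)) * E.ι f.a₀ * (c.d * (x : G))⁻¹ := by group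
        _ = ((x : G) * c.d) * E.ι f.a₀ * ((x : G) * c.d)⁻¹ := by rw [hxd]
        _ = (x : G) * (c.d * E.ι f.a₀ * c.d⁻¹) * (x : G)⁻¹ := by group
        _ = _ := by rw [c.d_tor f.ha₀.1, map_inv]; group
    rw [hsyl, hline, hsm]
    refine Subgroup.eq_of_le_of_card_ge (Subgroup.zpowers_le.2 (hinvc _ hxQ hxinv)) ?_
    rw [Nat.card_zpowers, Nat.card_zpowers]
    exact ((MulAut.conj (x : G)).orderOf_eq _).ge
  haveI : Fintype (MulAction.orbit N line) := Fintype.ofFinite _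
  have hodd : Odd (Nat.card (MulAction.orbit N line)) := by
    rw [Nat.card_congr (MulAction.orbitEquivQuotientStabilizer N line), ← Subgroup.index_eq_card,
      ← Nat.not_even_iff_odd, even_iff_two_dvd]
    exact fun h => T.not_dvd_index (h.trans (Subgroup.index_dvd_of_le hTstab))
  have hdd2 : ∀ L : Subgroup G, (⟨c.d, hdQ⟩ : N) • (⟨c.d, hdQ⟩ : N) • L = L := fun L => by
    rw [← mul_smul, show (⟨c.d, hdQ⟩ : N) * ⟨c.d, hdQ⟩ = 1 from Subtype.ext c.dd, one_smul]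
  let σ : Equiv.Perm (MulAction.orbit N line) :=
    MulAction.toPerm (⟨c.d, hdQ⟩ : N)
  have hσ : σ ^ 2 ^ 1 = 1 := Equiv.ext fun L => Subtype.ext (by
    show (⟨c.d, hdQ⟩ : N) • (⟨c.d, hdQ⟩ : N) • (L : Subgroup G) = L
    exact hdd2 _)
  have hlw : (⟨n, hnQ⟩ : N)⁻¹ • line = Subgroup.zpowers w := by
    rw [hline, hsm]
    congr 1
    show n⁻¹ * E.ι f.a₀ * n⁻¹⁻¹ = w
    rw [← hnw]; group
  have hmemc : line ∈ MulAction.orbit N line := MulAction.mem_orbit_self _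
  have hmemw : Subgroup.zpowers w ∈ MulAction.orbit N line := ⟨_, hlw⟩
  have hne : line ≠ Subgroup.zpowers w := fun e => by
    have hm : w ∈ Subgroup.zpowers (E.ι f.a₀) := hline ▸ e ▸ Subgroup.mem_zpowers w
    obtain ⟨m, hm⟩ := hm
    exact hw_not (f.a₀ ^ m) (zpow_mem f.ha₀ m) (by rw [map_zpow]; exact hm.symm)
  have hfixset : σ.supportᶜ = {⟨line, hmemc⟩, ⟨Subgroup.zpowers w, hmemw⟩} := by
    ext L
    rw [Finset.mem_compl, Equiv.Perm.notMem_support, Finset.mem_insert, Finset.mem_singleton]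
    constructor
    · intro hL
      obtain ⟨⟨m, hmN⟩, hm⟩ := L.2
      have hm' : Subgroup.zpowers (m * E.ι f.a₀ * m⁻¹) = (L : Subgroup G) := by
        rw [← hm, hline]; exact (hsm ⟨m, hmN⟩ _).symm
      obtain ⟨x, hx⟩ : ∃ x, x = m * E.ι f.a₀ * m⁻¹ := ⟨_, rfl⟩
      rw [← hx] at hm'
      have hxQ : x ∈ Q := hx ▸ (Subgroup.mem_normalizer_iff.1 (hN ▸ hmN) _).1 hcQ
      have hxo : orderOf x = f.p := by
        rw [hx, ← f.orderOf_ι_a₀]; exact (MulAut.conj m).orderOf_eq _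
      have hfixL : Subgroup.zpowers (c.d * x * c.d⁻¹) = Subgroup.zpowers x := by
        have h' : (⟨c.d, hdQ⟩ : N) • (L : Subgroup G) = L := congrArg Subtype.val hL
        rw [← hm', hsm] at h'
        exact h'
      obtain ⟨k, hk⟩ : c.d * x * c.d⁻¹ ∈ Subgroup.zpowers x := hfixL ▸ Subgroup.mem_zpowers _
      have hk' : x ^ k = c.d * x * c.d⁻¹ := hk
      have hkk : x ^ (k * k - 1) = 1 := by
        have h2 : c.d * (c.d * x * c.d⁻¹) * c.d⁻¹ = x := by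
          rw [show c.d * (c.d * x * c.d⁻¹) * c.d⁻¹ = (c.d * c.d) * x * (c.d * c.d)⁻¹ by group, c.dd,
            one_mul, inv_one, mul_one]
        rw [← hk', ← conj_zpow, ← hk', ← _root_.zpow_mul] at h2
        rw [_root_.zpow_sub, h2, zpow_one, mul_inv_cancel]
      rw [← orderOf_dvd_iff_zpow_eq_one, hxo, show k * k - 1 = (k - 1) * (k + 1) by ring] at hkk
      rcases (Int.prime_iff_natAbs_prime.2 (by simpa using f.hp) : Prime (f.p : ℤ)).dvd_mul.1 hkk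
        with h1 | h1 <;> rw [← hxo, orderOf_dvd_iff_zpow_eq_one] at h1
      · right
        refine Subtype.ext (hm'.symm.trans (Subgroup.eq_of_le_of_card_ge (Subgroup.zpowers_le.2
          (hfixw x hxQ ?_)) (by rw [Nat.card_zpowers, Nat.card_zpowers, hxo, hwo])))
        rw [_root_.zpow_sub, zpow_one, mul_inv_eq_one] at h1
        exact hk'.symm.trans h1
      · left
        refine Subtype.ext (hm'.symm.trans ((Subgroup.eq_of_le_of_card_ge (Subgroup.zpowers_le.2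
          (hinvc x hxQ ?_)) (by rw [Nat.card_zpowers, Nat.card_zpowers, hxo, f.orderOf_ι_a₀])).trans hline.symm))
        rw [_root_.zpow_add, zpow_one] at h1
        exact hk'.symm.trans (eq_inv_of_mul_eq_one_left h1)
    · rintro (rfl | rfl) <;> refine Subtype.ext ?_
      · show (⟨c.d, hdQ⟩ : N) • line = line
        rw [hline, hsm]
        show Subgroup.zpowers (c.d * E.ι f.a₀ * c.d⁻¹) = _
        rw [c.d_tor f.ha₀.1, map_inv, Subgroup.zpowers_inv]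
      · show (⟨c.d, hdQ⟩ : N) • Subgroup.zpowers w = Subgroup.zpowers w
        rw [hsm]
        show Subgroup.zpowers (c.d * w * c.d⁻¹) = _
        rw [hdw]
  have hmod := Equiv.Perm.card_compl_support_modEq hσ
  rw [hfixset, Finset.card_pair (fun e => hne (congrArg Subtype.val e)), ← Nat.card_eq_fintype_card]
    at hmod
  obtain ⟨m, hm⟩ := hodd
  rw [hm, Nat.ModEq] at hmod
  omega

/-- The case of `v` in a torus of order `u`, `|J| = 12`. -/
theorem false_toral_twelve (hp3 : f.p ≠ 3) (h12 : Nat.card f.J = 12) (hq : ¬ 3 ∣ Fintype.card F)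
    (hr : ¬ 3 ∣ rOf F) : False := by
  classical
  haveI : Fact f.p.Prime := ⟨f.hp⟩
  haveI : Fact (Nat.Prime 3) := ⟨Nat.prime_three⟩
  obtain ⟨g, hg, y, hy, hyo⟩ := exists_transport hyp c.d1 c.dd (f.mem_J.1 f.v_mem_J).2
    (show Odd 3 by decide) (orderOf_eq_prime c.v3 c.v1)
  obtain ⟨g₁, ht₁, hg₁⟩ := exists_tor_odd hyp.mod8
  obtain ⟨k, hk⟩ := exists_conj_tor_u hyp.mod8 hg₁ (by norm_num) hq hr (j := 1) (x := y)
    (by rw [pow_one, ← hyo, pow_orderOf_eq_one])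
  obtain ⟨w, hwN, hwT, -⟩ := exists_inverting_tor ht₁ (two_ne hyp)
  have hwinv := (torN_cases ht₁ hwN).resolve_left hwT _ hk
  obtain ⟨x, hx⟩ : ∃ x, x = g⁻¹ * E.ι (k⁻¹ * w * k) * g := ⟨_, rfl⟩
  have hxv : x * c.v * x⁻¹ = c.v⁻¹ := by
    have hv : c.v = g⁻¹ * E.ι y * g := by rw [← hy]; group
    rw [hx, hv]
    calc g⁻¹ * E.ι (k⁻¹ * w * k) * g * (g⁻¹ * E.ι y * g) * (g⁻¹ * E.ι (k⁻¹ * w * k) * g)⁻¹
        = g⁻¹ * E.ι (k⁻¹ * (w * (k * y * k⁻¹) * w⁻¹) * k) * g := by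
          simp only [map_mul, map_inv]; group
      _ = _ := by rw [hwinv]; simp only [map_mul, map_inv]; group
  have hpJ : ¬ f.p ∣ Nat.card f.J := by
    rw [h12]
    intro hd
    have := f.hp.two_le
    have h12' : f.p ≤ 12 := Nat.le_of_dvd (by norm_num) hd
    have := f.p_three_le hyp
    have hpr := f.hp
    interval_cases hf : f.p <;> simp_all (config := {decide := true})
  obtain ⟨P, hcP, hPmem, hdP, hPline⟩ := f.exists_sylow hyp hpJ
  obtain ⟨M, hM⟩ : ∃ M : Subgroup G, M = Subgroup.centralizer ({c.v} : Set G) := ⟨_, rfl⟩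
  have hmM : ∀ z, z ∈ M ↔ z * c.v = c.v * z := fun z => by
    rw [hM, Subgroup.mem_centralizer_singleton_iff]
  have hPM : (P : Subgroup G) ≤ M := fun z hz => by
    obtain ⟨a, ha, rfl, j, hj⟩ := hPmem z hz
    exact (hmM _).2 (f.X_comm hyp ha (f.fixed_p hyp hp3 j ha hj) f.v_mem_X).symm
  have hxM : ∀ z ∈ M, x * z * x⁻¹ ∈ M := by
    intro z hz
    rw [hmM]
    have h1 : Commute z c.v⁻¹ := (show Commute z c.v from (hmM z).1 hz).inv_right
    have h2 := h1.map (MulAut.conj x).toMonoidHom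
    have h3 : x * c.v⁻¹ * x⁻¹ = c.v := by
      rw [show x * c.v⁻¹ * x⁻¹ = (x * c.v * x⁻¹)⁻¹ by group, hxv, inv_inv]
    have h2' : Commute (x * z * x⁻¹) (x * c.v⁻¹ * x⁻¹) := h2
    rw [h3] at h2'
    exact h2'.eq
  have hxPM : ((x • P : Sylow f.p G) : Subgroup G) ≤ M := by
    rw [Sylow.coe_subgroup_smul]
    rintro _ ⟨z, hz, rfl⟩
    exact hxM z (hPM hz)
  obtain ⟨m, hm⟩ := MulAction.exists_smul_eq M ((x • P).subtype hxPM) (P.subtype hPM)
  rw [Sylow.smul_subtype hxPM] at hm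
  have hm' := Sylow.subtype_injective hm
  obtain ⟨n, hn⟩ : ∃ n, n = (m : G) * x := ⟨_, rfl⟩
  have hnP : n ∈ Subgroup.normalizer ((P : Subgroup G) : Set G) := by
    rw [← smul_sylow_eq_iff, hn, mul_smul]; exact hm'
  have hnv : n * c.v * n⁻¹ = c.v⁻¹ := by
    rw [hn, show (m : G) * x * c.v * ((m : G) * x)⁻¹ = (m : G) * (x * c.v * x⁻¹) * (m : G)⁻¹ by group, hxv]
    have h1 : Commute (m : G) c.v⁻¹ := (show Commute (m : G) c.v from (hmM _).1 m.2).inv_right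
    rw [h1.eq, mul_inv_cancel_right]
  obtain ⟨z, hzX, hzv⟩ : ∃ z ∈ f.X, z * c.v * z⁻¹ = c.v⁻¹ := by
    rcases f.cases_norm hyp (hPline n hnP) with h | h
    · exact ⟨n, h, hnv⟩
    · refine ⟨c.d * n, h, ?_⟩
      rw [show c.d * n * c.v * (c.d * n)⁻¹ = c.d * (n * c.v * n⁻¹) * c.d⁻¹ by group, hnv]
      have h1 : Commute c.d c.v := (mul_inv_eq_iff_eq_mul.1 c.dv).symm
      rw [h1.inv_right.eq, mul_inv_cancel_right]
  rw [← f.H_eq hyp h12] at hzX
  obtain ⟨a, ha, i, rfl⟩ := hzX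
  have key : a * c.v * a⁻¹ = c.v⁻¹ := by
    rw [← hzv, show a * c.v ^ i * c.v * (a * c.v ^ i)⁻¹ = a * (c.v ^ i * c.v * (c.v ^ i)⁻¹) * a⁻¹ by group,
      ← pow_succ, pow_succ', mul_inv_cancel_right]
  have e : a * (c.v * a⁻¹ * c.v⁻¹) * c.v ^ 1 = (1 : G) * c.v ^ 2 := by
    calc a * (c.v * a⁻¹ * c.v⁻¹) * c.v ^ 1 = a * c.v * a⁻¹ := by group
      _ = c.v * c.v := by rw [key, c.v_inv]
      _ = _ := by rw [one_mul, pow_two]
  have h1 := f.conj_A hyp (inv_mem ha) 1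
  rw [pow_one] at h1
  exact absurd (f.coord_unique hyp (mul_mem ha h1) (one_mem _) e) (by norm_num)

/-- The case of an element of `J` of order `3` or `5` dividing `q`. -/
theorem false_dvd_q (hp3 : f.p ≠ 3) (hpJ : ¬ f.p ∣ Nat.card f.J) {ℓ : ℕ} [hℓ : Fact ℓ.Prime]
    (hℓ35 : ℓ = 3 ∨ ℓ = 5) (hℓq : ℓ ∣ Fintype.card F) {s : G} (hsJ : s ∈ f.J)
    (hso : orderOf s = ℓ) : False := by
  classical
  have hℓ2 : ℓ ≠ 2 := by omega
  have h8 := sq_sub_one hyp.mod8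
  have hq1 : 1 ≤ Fintype.card F ^ 2 := Nat.one_le_pow _ _ Fintype.card_pos
  have hcop : ∀ {m : ℕ}, m.Prime → m ∣ rOf F → m ∣ Fintype.card F → False := by
    intro m hm h1 h2
    have h4 := Nat.dvd_sub (h2.pow two_ne_zero)
      (show m ∣ Fintype.card F ^ 2 - 1 by rw [h8]; exact (h1.mul_right _).mul_left 8)
    rw [show Fintype.card F ^ 2 - (Fintype.card F ^ 2 - 1) = 1 by omega] at h4
    exact hm.one_lt.ne' (Nat.dvd_one.1 h4)
  have hℓr : ¬ ℓ ∣ rOf F := fun h => hcop hℓ.out h hℓq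
  have hℓp : ℓ ≠ f.p := fun h => hℓr (h ▸ f.p_dvd)
  obtain ⟨g, hg, y, hy, hyo⟩ := exists_transport hyp c.d1 c.dd (f.mem_J.1 hsJ).2
    (hℓ.out.odd_of_ne_two hℓ2) hso
  obtain ⟨T, hT1, hT2, hT3⟩ := exists_T_q hyp.mod8 hℓq hyo
  obtain ⟨hab, htwo, hcard⟩ := joint_cent hyp hg hy T hT1 hT2 (by rw [hT3]; exact odd_card hyp.mod8)
  have hJ2 : ¬ ℓ ^ 2 ∣ Nat.card f.J := by
    have hJc : Nat.card f.J = 12 ∨ Nat.card f.J = 60 := f.card_J hyp
    rcases hJc with h | h <;> rw [h] <;> rcases hℓ35 with rfl | rfl <;> norm_num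
  obtain ⟨R, f₀, hRp, -, -, -, -, -, hDcard, -, hmod⟩ := f.fpf_sylow hyp hp3 hpJ hℓ2 hℓp hsJ hab htwo
    (Subgroup.zpowers s) le_rfl (IsPGroup.of_card (n := 1) (by rw [Nat.card_zpowers, hso, pow_one]))
    (fun x hx hxs j hj => f.mem_zpowers_of_X hyp hx (f.mem_J.1 hsJ).1 hxs hso hℓr hj hJ2)
  rw [Nat.card_zpowers, hso, hcard, hT3] at hDcard
  obtain ⟨p₀, hp₀⟩ := CharP.exists F
  haveI := hp₀
  obtain ⟨k, hk0, hk⟩ := FiniteField.card F p₀
  have hpℓ : p₀ = ℓ := ((Nat.prime_dvd_prime_iff_eq hℓ.out hk0).1 (hℓ.out.dvd_of_dvd_pow (hk ▸ hℓq))).symm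
  subst hpℓ
  have hD : p₀ * f₀ = Fintype.card F := by
    rw [hDcard, hk, Nat.factorization_mul two_ne_zero (pow_ne_zero _ hℓ.out.ne_zero), Finsupp.add_apply,
      Nat.prime_two.factorization, Finsupp.single_apply, if_neg (Ne.symm hℓ2),
      hℓ.out.factorization_pow, Finsupp.single_eq_same, zero_add]
  have h1 : f.p ∣ Fintype.card F ^ 2 - 1 := by
    rw [h8]; exact (f.p_dvd.mul_right _).mul_left 8
  have h2 : Fintype.card F ^ 2 ≡ 1 [MOD f.p] := ((Nat.modEq_iff_dvd' hq1).2 h1).symm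
  rw [← hD, mul_pow, pow_two, pow_two f₀] at h2
  have h3 : p₀ * p₀ ≡ 1 [MOD f.p] := by
    have := ((Nat.ModEq.refl (p₀ * p₀)).mul hmod).symm.trans h2
    rwa [mul_one] at this
  have h4 := (Nat.modEq_iff_dvd' (show 1 ≤ p₀ * p₀ by have := hℓ.out.pos; nlinarith)).1 h3.symm
  have h5 := f.p_three_le hyp
  rcases hℓ35 with rfl | rfl <;> norm_num at h4
  · exact absurd (f.hp.dvd_of_dvd_pow (show f.p ∣ 2 ^ 3 from h4))
      (fun h => by have := Nat.le_of_dvd two_pos h; omega)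
  · rcases f.hp.dvd_mul.1 (show f.p ∣ 2 ^ 3 * 3 from h4) with h | h
    · have := Nat.le_of_dvd two_pos (f.hp.dvd_of_dvd_pow h); omega
    · exact hp3 ((Nat.prime_dvd_prime_iff_eq f.hp Nat.prime_three).1 h)

/-- In the second case no element of order five of `X` commutes with `v`. -/
theorem eq_one_of_five (h60 : Nat.card f.J = 60) (h5r : ¬ 5 ∣ rOf F) {x : G} (hx : x ∈ f.X)
    (hxv : x * c.v = c.v * x) {j : ℕ} (hj : x ^ 5 ^ j = 1) : x = 1 := by
  classical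
  haveI : Fact (Nat.Prime 5) := ⟨by norm_num⟩
  obtain ⟨a, ha, y, hy, rfl⟩ := f.decomp60 hyp h60 hx
  have hcomm : Commute (E.ι a) y := (f.J_comm_Cr hyp h60 hy ha).symm
  have h4 := f.J_inter_A hyp (x := E.ι (a ^ 5 ^ j)) (by
    rw [hcomm.mul_pow, ← map_pow] at hj
    rw [eq_inv_of_mul_eq_one_left hj]
    exact inv_mem (pow_mem hy _)) ((f.mem_A hyp).2 ⟨1, Or.inl rfl, _, pow_mem ha _, by rw [one_mul]⟩)
  have ha5 : a ^ 5 ^ j = 1 := c.eq_one_of_sq hyp (pow_mem ha _)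
    (E.inj (by rw [map_mul, c.four_sq h4, map_one]))
  have ha1 : a = 1 := orderOf_eq_one_iff.1 (Nat.eq_one_of_dvd_coprimes
    (((Nat.Prime.coprime_iff_not_dvd (by norm_num)).2 h5r).pow_left j)
    (orderOf_dvd_of_pow_eq_one ha5) (orderOf_dvd_of_pow_eq_one ha.2))
  subst ha1
  rw [map_one, one_mul] at hxv hj ⊢
  by_contra hy1
  have hyo : orderOf y = 5 := by
    obtain ⟨i, -, hi⟩ := (Nat.dvd_prime_pow (by norm_num)).1 (orderOf_dvd_of_pow_eq_one hj)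
    have hd : orderOf y ∣ 60 := by
      rw [← h60, ← Subgroup.orderOf_mk y hy]; exact orderOf_dvd_natCard _
    rw [hi] at hd ⊢
    have hi1 : i ≤ 1 := by
      by_contra h
      exact absurd ((pow_dvd_pow 5 (by omega : 2 ≤ i)).trans hd) (by norm_num)
    interval_cases i
    · exact absurd (orderOf_eq_one_iff.1 (by rw [hi, pow_zero])) hy1
    · norm_num
  obtain ⟨S, hS⟩ : ∃ S : Subgroup f.J, S = Subgroup.zpowers ⟨y, hy⟩ := ⟨_, rfl⟩
  have hScard : Nat.card S = 5 := by rw [hS, Nat.card_zpowers, Subgroup.orderOf_mk, hyo]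
  let P : Sylow 5 f.J := Sylow.ofCard S (by
    rw [hScard, h60, show (60 : ℕ) = 5 ^ 1 * 12 by norm_num,
      Nat.factorization_mul (by norm_num) (by norm_num), Finsupp.add_apply,
      Nat.Prime.factorization_pow (by norm_num), Finsupp.single_eq_same,
      Nat.factorization_eq_zero_of_not_dvd (show ¬ (5 : ℕ) ∣ 12 by norm_num)]
    norm_num)
  have hvN : (⟨c.v, f.v_mem_J⟩ : f.J) ∈ Subgroup.normalizer (S : Set f.J) := by
    refine Subgroup.centralizer_le_normalizer _ (Subgroup.mem_centralizer_iff.2 fun z hz => ?_)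
    rw [hS] at hz
    obtain ⟨i, rfl⟩ := hz
    exact ((show Commute (⟨y, hy⟩ : f.J) ⟨c.v, f.v_mem_J⟩ from Subtype.ext hxv).zpow_left i).eq
  have hN15 : 15 ∣ Nat.card (Subgroup.normalizer (S : Set f.J)) := by
    refine Nat.Coprime.mul_dvd_of_dvd_of_dvd (show Nat.Coprime 3 5 by norm_num) ?_ ?_
    · have := orderOf_dvd_natCard (⟨_, hvN⟩ : Subgroup.normalizer (S : Set f.J))
      rwa [Subgroup.orderOf_mk, Subgroup.orderOf_mk, orderOf_eq_prime c.v3 c.v1] at this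
    · rw [← hScard]; exact Subgroup.card_dvd_of_le Subgroup.le_normalizer
  have hnum : (Subgroup.normalizer (S : Set f.J)).index = 1 := by
    have h1 := card_sylow_modEq_one 5 f.J
    rw [P.card_eq_index_normalizer] at h1
    change (Subgroup.normalizer (S : Set f.J)).index ≡ 1 [MOD 5] at h1
    have h2 := (Subgroup.normalizer (S : Set f.J)).card_mul_index
    obtain ⟨m, hm⟩ := hN15
    rw [hm, h60] at h2
    have h4 : (Subgroup.normalizer (S : Set f.J)).index ∣ 4 := ⟨m, by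
      have h3 : 15 * (m * (Subgroup.normalizer (S : Set f.J)).index) = 15 * 4 := by rw [← mul_assoc, h2]
      rw [← Nat.eq_of_mul_eq_mul_left (by norm_num) h3, mul_comm]⟩
    have h5 := Nat.le_of_dvd (by norm_num) h4
    unfold Nat.ModEq at h1
    interval_cases hi : (Subgroup.normalizer (S : Set f.J)).index <;> simp_all
  have hconj : ∀ e, c.IsFour e → ∃ i : ℤ, e * y * e⁻¹ = y ^ i := by
    intro e he
    have hm : (⟨e, f.four_mem_J he⟩ : f.J) ∈ Subgroup.normalizer (S : Set f.J) := by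
      rw [Subgroup.index_eq_one.1 hnum]; exact Subgroup.mem_top _
    have := (Subgroup.mem_normalizer_iff.1 hm ⟨y, hy⟩).1 (hS ▸ Subgroup.mem_zpowers _)
    rw [hS] at this
    obtain ⟨i, hi⟩ := this
    exact ⟨i, by simpa using (congrArg Subtype.val hi).symm⟩
  have hsign : ∀ e, c.IsFour e → e * y * e⁻¹ = y ∨ e * y * e⁻¹ = y⁻¹ := by
    intro e he
    obtain ⟨i, hi⟩ := hconj e he
    have h2 : y ^ (i * i - 1) = 1 := by
      have h1 : e * (e * y * e⁻¹) * e⁻¹ = y := by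
        rw [show e * (e * y * e⁻¹) * e⁻¹ = (e * e) * y * (e * e)⁻¹ by group, c.four_sq he, one_mul,
          inv_one, mul_one]
      rw [hi, ← conj_zpow, hi, ← _root_.zpow_mul] at h1
      rw [_root_.zpow_sub, h1, zpow_one, mul_inv_cancel]
    rw [← orderOf_dvd_iff_zpow_eq_one, hyo, show i * i - 1 = (i - 1) * (i + 1) by ring] at h2
    rcases (Int.prime_iff_natAbs_prime.2 (by norm_num) : Prime ((5 : ℕ) : ℤ)).dvd_mul.1 h2 with h | h <;>
      rw [← hyo, orderOf_dvd_iff_zpow_eq_one] at h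
    · left; rw [_root_.zpow_sub, zpow_one, mul_inv_eq_one] at h; rw [hi, h]
    · right; rw [_root_.zpow_add, zpow_one] at h; rw [hi]; exact eq_inv_of_mul_eq_one_left h
  obtain ⟨e, he, he1, hey⟩ : ∃ e, c.IsFour e ∧ e ≠ 1 ∧ e * y * e⁻¹ = y := by
    rcases hsign E.t (Or.inr (Or.inl rfl)) with h | h
    · exact ⟨_, Or.inr (Or.inl rfl), E.t_ne_one, h⟩
    rcases hsign c.t₁ (Or.inr (Or.inr (Or.inl rfl))) with h' | h'
    · exact ⟨_, Or.inr (Or.inr (Or.inl rfl)), c.t₁_ne_one, h'⟩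
    refine ⟨_, Or.inr (Or.inr (Or.inr rfl)), c.t_mul_t₁_ne_one, ?_⟩
    rw [show E.t * c.t₁ * y * (E.t * c.t₁)⁻¹ = E.t * (c.t₁ * y * c.t₁⁻¹) * E.t⁻¹ by group, h',
      show E.t * y⁻¹ * E.t⁻¹ = (E.t * y * E.t⁻¹)⁻¹ by group, h, inv_inv]
  have h4' := f.J_inter_A hyp hy ((f.mem_A hyp).2 (f.cent_four hyp (f.mem_J.1 hy).1 he he1
    (mul_inv_eq_iff_eq_mul.1 hey).symm))
  have := orderOf_dvd_of_pow_eq_one ((pow_two y).trans (c.four_sq h4'))
  rw [hyo] at this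
  omega

/-- The case of two toral elements of orders three and five. -/
theorem false_toral_sixty (hp3 : f.p ≠ 3) (hp5 : f.p ≠ 5) (h60 : Nat.card f.J = 60)
    (h3q : ¬ 3 ∣ Fintype.card F) (h5q : ¬ 5 ∣ Fintype.card F) (h3r : ¬ 3 ∣ rOf F)
    (h5r : ¬ 5 ∣ rOf F) : False := by
  classical
  haveI : Fact (Nat.Prime 3) := ⟨Nat.prime_three⟩
  haveI : Fact (Nat.Prime 5) := ⟨by norm_num⟩
  have hpJ : ¬ f.p ∣ Nat.card f.J := by
    rw [h60]
    intro hd
    rcases f.hp.dvd_mul.1 (show f.p ∣ 4 * (3 * 5) from hd) with h | h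
    · have := f.p_three_le hyp
      have := Nat.le_of_dvd (by norm_num) (f.hp.dvd_of_dvd_pow (show f.p ∣ 2 ^ 2 from h))
      omega
    rcases f.hp.dvd_mul.1 h with h | h
    · exact hp3 ((Nat.prime_dvd_prime_iff_eq f.hp Nat.prime_three).1 h)
    · exact hp5 ((Nat.prime_dvd_prime_iff_eq f.hp (by norm_num)).1 h)
  obtain ⟨⟨w, hwJ⟩, hwo⟩ := exists_prime_orderOf_dvd_card' (G := f.J) 5 (by rw [h60]; norm_num)
  rw [Subgroup.orderOf_mk] at hwo
  obtain ⟨gv, hgv, yv, hyv, hyvo⟩ := exists_transport hyp c.d1 c.dd (f.mem_J.1 f.v_mem_J).2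
    (show Odd 3 by decide) (orderOf_eq_prime c.v3 c.v1)
  obtain ⟨gw, hgw, yw, hyw, hywo⟩ := exists_transport hyp c.d1 c.dd (f.mem_J.1 hwJ).2
    (show Odd 5 by decide) hwo
  obtain ⟨Tv, hv1, hv2, hv3⟩ := exists_T_u hyp.mod8 (by norm_num) h3q h3r hyvo
  obtain ⟨Tw, hw1, hw2, hw3⟩ := exists_T_u hyp.mod8 (by norm_num) h5q h5r hywo
  obtain ⟨habv, htwov, hcardv⟩ :=
    joint_cent hyp hgv hyv Tv hv1 hv2 (by rw [hv3]; exact odd_u hyp.mod8)
  obtain ⟨habw, htwow, hcardw⟩ :=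
    joint_cent hyp hgw hyw Tw hw1 hw2 (by rw [hw3]; exact odd_u hyp.mod8)
  have h5u : 5 ∣ uOf F := by
    rw [← hw3, ← hywo, ← Subgroup.orderOf_mk yw ((hw1 yw).1 rfl)]
    exact orderOf_dvd_natCard _
  obtain ⟨Rv, fv, hRvp, hRvv, -, hcv, hdv, hvc, hDv, hRvcard, -⟩ := f.fpf_sylow hyp hp3 hpJ
    (ℓ := 5) (by norm_num) (Ne.symm hp5) f.v_mem_J habv htwov ⊥ bot_le IsPGroup.of_bot
    (fun x hx hxv j hj => Subgroup.mem_bot.2 (f.eq_one_of_five hyp h60 h5r hx hxv hj))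
  obtain ⟨Rw, fw, -, -, hmaxw, -, -, -, hDw, hRwcard, -⟩ := f.fpf_sylow hyp hp3 hpJ
    (ℓ := 5) (by norm_num) (Ne.symm hp5) hwJ habw htwow (Subgroup.zpowers w) le_rfl
    (IsPGroup.of_card (n := 1) (by rw [Nat.card_zpowers, hwo, pow_one]))
    (fun x hx hxw j hj => f.mem_zpowers_of_X hyp hx (f.mem_J.1 hwJ).1 hxw hwo h5r hj
      (by rw [h60]; norm_num))
  rw [hcardv, hv3] at hDv
  rw [hcardw, hw3, Nat.card_zpowers, hwo] at hDw
  rw [Subgroup.card_bot, one_mul] at hDv hRvcard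
  rw [Nat.card_zpowers, hwo] at hRwcard
  have hfv5 : 5 ≤ fv := by
    rw [hDv]
    refine Nat.le_self_pow (Nat.pos_iff_ne_zero.1 ?_) 5
    refine Nat.Prime.factorization_pos_of_dvd (by norm_num) ?_ (h5u.mul_left 2)
    have := five_le_u hyp.mod8
    omega
  -- a central fixed element of order five
  obtain ⟨Z, hZ⟩ : ∃ Z : Subgroup Rv, Z = Subgroup.center Rv := ⟨_, rfl⟩
  let σ : MulAut Rv := restrAut (MulAut.conj (E.ι f.a₀)) Rv hcv
  let τ : MulAut Rv := restrAut (MulAut.conj c.d) Rv hdv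
  have hZs : ∀ φ : MulAut Rv, ∀ z ∈ Z, φ z ∈ Z := by
    intro φ z hz
    rw [hZ, Subgroup.mem_center_iff] at hz ⊢
    intro y
    obtain ⟨y, rfl⟩ := φ.surjective y
    rw [← map_mul, ← map_mul, hz]
  have hpow : ∀ (φ : MulAut Rv) (k : ℕ) (x : Z),
      (((restrAut φ Z (hZs φ)) ^ k) x : Rv) = (φ ^ k) (x : Rv) := by
    intro φ k
    induction k with
    | zero => intro x; simp
    | succ k ih => intro x; rw [pow_succ', pow_succ', MulAut.mul_apply, MulAut.mul_apply, coe_restrAut, ih]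
  have hpowR : ∀ (k : ℕ) (x : Rv), ((σ ^ k) x : G) = E.ι f.a₀ ^ k * (x : G) * (E.ι f.a₀ ^ k)⁻¹ := by
    intro k
    induction k with
    | zero => intro x; simp
    | succ k ih =>
      intro x
      rw [pow_succ', MulAut.mul_apply]
      show E.ι f.a₀ * ((σ ^ k) x : G) * (E.ι f.a₀)⁻¹ = _
      rw [ih, pow_succ']; group
  haveI : Fact f.p.Prime := ⟨f.hp⟩
  haveI : Nontrivial Rv := Finite.one_lt_card_iff_nontrivial.1 (by rw [hRvcard]; nlinarith)
  haveI := hRvp.center_nontrivial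
  have hda : c.d * E.ι f.a₀ * c.d⁻¹ = (E.ι f.a₀)⁻¹ := by rw [c.d_tor f.ha₀.1, map_inv]
  have hZcard := card_fpf (hRvp.to_subgroup Z) (show (5 : ℕ) ≠ 2 by norm_num) (Ne.symm hp5)
    (by have := f.p_three_le hyp; omega) (restrAut σ Z (hZs σ)) (restrAut τ Z (hZs τ))
    (MulEquiv.ext fun x => Subtype.ext (Subtype.ext (by
      rw [hpow, hpowR, ← f.orderOf_ι_a₀, pow_orderOf_eq_one]; simp)))
    (fun x => Subtype.ext (Subtype.ext (by
      show c.d * (c.d * ((x : Rv) : G) * c.d⁻¹) * c.d⁻¹ = ((x : Rv) : G)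
      rw [show c.d * (c.d * ((x : Rv) : G) * c.d⁻¹) * c.d⁻¹ =
        (c.d * c.d) * ((x : Rv) : G) * (c.d * c.d)⁻¹ by group, c.dd, one_mul, inv_one, mul_one])))
    (fun x => by
      apply (restrAut σ Z (hZs σ)).injective
      rw [MulEquiv.apply_symm_apply]
      refine Subtype.ext (Subtype.ext ?_)
      show E.ι f.a₀ * (c.d * (E.ι f.a₀ * ((x : Rv) : G) * (E.ι f.a₀)⁻¹) * c.d⁻¹) * (E.ι f.a₀)⁻¹ =
        c.d * ((x : Rv) : G) * c.d⁻¹
      calc E.ι f.a₀ * (c.d * (E.ι f.a₀ * ((x : Rv) : G) * (E.ι f.a₀)⁻¹) * c.d⁻¹) * (E.ι f.a₀)⁻¹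
          = E.ι f.a₀ * (c.d * E.ι f.a₀ * c.d⁻¹) * (c.d * ((x : Rv) : G) * c.d⁻¹) *
            (c.d * E.ι f.a₀ * c.d⁻¹)⁻¹ * (E.ι f.a₀)⁻¹ := by group
        _ = _ := by rw [hda]; group)
    (fun x hx => Subtype.ext (Subtype.ext (Subgroup.mem_bot.1 (hvc _ (x : Rv).2 ((mul_inv_eq_iff_eq_mul.1
      (show E.ι f.a₀ * ((x : Rv) : G) * (E.ι f.a₀)⁻¹ = ((x : Rv) : G) from
        congrArg (fun z : Z => ((z : Rv) : G)) hx)).symm)))))
  have hfix2 : 1 < Nat.card {x : Z // restrAut τ Z (hZs τ) x = x} := by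
    by_contra h
    have h1 : 1 < Nat.card Z := by
      haveI : Nontrivial Z := hZ ▸ inferInstance
      exact Finite.one_lt_card
    have h2 : Nat.card {x : Z // restrAut τ Z (hZs τ) x = x} ≤ 1 := by omega
    have h3 := Nat.mul_le_mul h2 h2
    rw [← hZcard] at h3
    omega
  haveI : Nontrivial {x : Z // restrAut τ Z (hZs τ) x = x} := Finite.one_lt_card_iff_nontrivial.1 hfix2
  obtain ⟨⟨x₀, hx₀⟩, hx₀1⟩ :=
    exists_ne (⟨1, map_one _⟩ : {x : Z // restrAut τ Z (hZs τ) x = x})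
  obtain ⟨j, hj⟩ := hRvp (x₀ : Rv)
  obtain ⟨i, -, hi⟩ := (Nat.dvd_prime_pow (show Nat.Prime 5 by norm_num)).1
    (orderOf_dvd_of_pow_eq_one hj)
  rw [← Subgroup.orderOf_coe] at hi
  have hi0 : i ≠ 0 := fun e => hx₀1 (Subtype.ext (Subtype.ext (Subtype.ext (orderOf_eq_one_iff.1
    (by rw [hi, e, pow_zero])))))
  obtain ⟨w', hw'⟩ : ∃ w', w' = ((x₀ : Rv) : G) ^ (orderOf ((x₀ : Rv) : G) / 5) := ⟨_, rfl⟩
  have hw'o : orderOf w' = 5 := by
    rw [hw', orderOf_pow_orderOf_div (orderOf_pos _).ne' (by rw [hi]; exact dvd_pow_self 5 hi0)]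
  have hw'd : w' * c.d = c.d * w' := by
    rw [hw']
    have h : c.d * ((x₀ : Rv) : G) * c.d⁻¹ = ((x₀ : Rv) : G) := congrArg (fun z : Z => ((z : Rv) : G)) hx₀
    exact ((show Commute ((x₀ : Rv) : G) c.d from (mul_inv_eq_iff_eq_mul.1 h).symm).pow_left _).eq
  have hw'R : ∀ x ∈ Rv, x * w' = w' * x := by
    intro x hx
    rw [hw']
    have h := congrArg Subtype.val (Subgroup.mem_center_iff.1 (hZ.le x₀.2) (⟨x, hx⟩ : Rv))
    exact ((show Commute x ((x₀ : Rv) : G) from h).pow_right _).eq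
  -- move it to a power of `w`
  obtain ⟨gu, hgu, yu, hyu, hyuo⟩ := exists_transport hyp c.d1 c.dd hw'd (show Odd 5 by decide) hw'o
  obtain ⟨g₁, ht₁, hg₁⟩ := exists_tor_odd hyp.mod8
  obtain ⟨ku, hku⟩ := exists_conj_tor_u hyp.mod8 hg₁ (by norm_num) h5q h5r (j := 1) (x := yu)
    (by rw [pow_one, ← hyuo, pow_orderOf_eq_one])
  obtain ⟨kw, hkw⟩ := exists_conj_tor_u hyp.mod8 hg₁ (by norm_num) h5q h5r (j := 1) (x := yw)
    (by rw [pow_one, ← hywo, pow_orderOf_eq_one])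
  haveI := isCyclic_tor ht₁
  obtain ⟨m, hm⟩ := mem_zpowers_of_cyclic hku hkw (by
    rw [show orderOf (ku * yu * ku⁻¹) = 5 from ((MulAut.conj ku).orderOf_eq yu).trans hyuo,
      show orderOf (kw * yw * kw⁻¹) = 5 from ((MulAut.conj kw).orderOf_eq yw).trans hywo])
  obtain ⟨g, hg⟩ : ∃ g, g = (E.ι kw * gw)⁻¹ * (E.ι ku * gu) := ⟨_, rfl⟩
  have hgw' : g * w' ^ m * g⁻¹ = w := by
    have h1 : E.ι ku * gu * w' * (E.ι ku * gu)⁻¹ = E.ι (ku * yu * ku⁻¹) := by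
      rw [map_mul, map_mul, map_inv, ← hyu]; group
    have h2 : E.ι kw * gw * w * (E.ι kw * gw)⁻¹ = E.ι (kw * yw * kw⁻¹) := by
      rw [map_mul, map_mul, map_inv, ← hyw]; group
    calc g * w' ^ m * g⁻¹
        = (E.ι kw * gw)⁻¹ * ((E.ι ku * gu * w' * (E.ι ku * gu)⁻¹) ^ m) * (E.ι kw * gw) := by
          rw [conj_zpow, hg]; group
      _ = (E.ι kw * gw)⁻¹ * (E.ι kw * gw * w * (E.ι kw * gw)⁻¹) * (E.ι kw * gw) := by
          rw [h1, ← map_zpow, show (ku * yu * ku⁻¹) ^ m = kw * yw * kw⁻¹ from hm, h2]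
      _ = w := by group
  have hle := hmaxw (Rv.map (MulAut.conj g).toMonoidHom) (hRvp.map _) (by
    rintro _ ⟨x, hx, rfl⟩
    rw [← hgw']
    exact (((show Commute x w' from hw'R x hx).zpow_right m).map (MulAut.conj g).toMonoidHom).eq)
  rw [Subgroup.card_map_of_injective (MulAut.conj g).injective, hRvcard, hRwcard] at hle
  nlinarith [hDv, hDw]

include f in
/-- No nontrivial element of `C_r` is centralised by the cycling element. -/
theorem absurd_fix : False := by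
  haveI : Fact (Nat.Prime 3) := ⟨Nat.prime_three⟩
  haveI : Fact (Nat.Prime 5) := ⟨by norm_num⟩
  have hp3' := f.p_three_le hyp
  have hp4 : f.p ≠ 4 := fun e => absurd (e ▸ f.hp) (by norm_num)
  have hp6 : f.p ≠ 6 := fun e => absurd (e ▸ f.hp) (by norm_num)
  have hv3 : orderOf c.v = 3 := orderOf_eq_prime c.v3 c.v1
  have hJc : Nat.card f.J = 12 ∨ Nat.card f.J = 60 := f.card_J hyp
  rcases hJc with h12 | h60
  · by_cases hp : f.p = 3
    · exact f.false_three_twelve hyp hp h12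
    have hr : ¬ 3 ∣ rOf F := fun h => hp (f.h3 h)
    have hpJ : ¬ f.p ∣ Nat.card f.J := by
      rw [h12]
      intro hd
      rcases f.hp.dvd_mul.1 (show f.p ∣ 2 ^ 2 * 3 from hd) with h | h
      · have := Nat.le_of_dvd two_pos (f.hp.dvd_of_dvd_pow h); omega
      · exact hp ((Nat.prime_dvd_prime_iff_eq f.hp Nat.prime_three).1 h)
    by_cases hq : 3 ∣ Fintype.card F
    · exact f.false_dvd_q hyp hp hpJ (Or.inl rfl) hq f.v_mem_J hv3
    · exact f.false_toral_twelve hyp hp h12 hq hr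
  · by_cases hp : f.p = 3 ∨ f.p = 5
    · exact f.false_sixty hyp hp h60
    push Not at hp
    obtain ⟨hp3, hp5⟩ := hp
    have hr3 : ¬ 3 ∣ rOf F := fun h => hp3 (f.h3 h)
    have hr5 : ¬ 5 ∣ rOf F := fun h => (f.h5 h).elim hp3 hp5
    have hpJ : ¬ f.p ∣ Nat.card f.J := by
      rw [h60]
      intro hd
      rcases f.hp.dvd_mul.1 (show f.p ∣ 2 ^ 2 * (3 * 5) from hd) with h | h
      · have := Nat.le_of_dvd two_pos (f.hp.dvd_of_dvd_pow h); omega
      rcases f.hp.dvd_mul.1 h with h | h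
      · exact hp3 ((Nat.prime_dvd_prime_iff_eq f.hp Nat.prime_three).1 h)
      · exact hp5 ((Nat.prime_dvd_prime_iff_eq f.hp (by norm_num)).1 h)
    by_cases h3q : 3 ∣ Fintype.card F
    · exact f.false_dvd_q hyp hp3 hpJ (Or.inl rfl) h3q f.v_mem_J hv3
    by_cases h5q : 5 ∣ Fintype.card F
    · obtain ⟨⟨w, hwJ⟩, hwo⟩ := exists_prime_orderOf_dvd_card' (G := f.J) 5 (by rw [h60]; norm_num)
      rw [Subgroup.orderOf_mk] at hwo
      exact f.false_dvd_q hyp hp3 hpJ (Or.inr rfl) h5q hwJ hwo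
    exact f.false_toral_sixty hyp hp3 hp5 h60 h3q h5q hr3 hr5

end Fix

/-- The cycling element acts without fixed points on `C_r`. -/
theorem Cyc.eq_one_of_fixed (hyp : Hyp E) (c : Cyc E) {a : PST} (ha : a ∈ c.Cr)
    (hfix : c.v * E.ι a * c.v⁻¹ = E.ι a) : a = 1 := by
  by_contra ha1
  obtain ⟨f⟩ := exists_fix hyp c ha ha1 hfix
  exact f.absurd_fix hyp

end CfsgLib.JankoThompson
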