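import Cfsg.Agent.JankoThompson.FixSylow
import Mathlib

/-!
# Invariant Sylow subgroups of the centralisers of the elements of `J`
-/

set_option autoImplicit false
set_option linter.unusedSectionVars false
set_option linter.style.haveILetI false

namespace CfsgLib.JankoThompson

open Matrix CfsgLib.ReeTypeS3
open scoped MatrixGroups

universe u v

variable {G : Type u} [Group G] [Fintype G] {F : Type v} [Field F] [Fintype F]

local notation "PST" => Matrix.ProjectiveSpecialLinearGroup (Fin 2) F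

variable {E : Emb G (Matrix.ProjectiveSpecialLinearGroup (Fin 2) F)}

/-- The joint centraliser of an involution and an element transported to `ι y` with centraliser `T'`
in `L`. -/
theorem joint_cent (hyp : Hyp E) {g d s : G} (hg : g * d * g⁻¹ = E.t) {y : PST}
    (hy : g * s * g⁻¹ = E.ι y) (T' : Subgroup PST) (hT' : ∀ l : PST, l * y = y * l ↔ l ∈ T')
    (hab : ∀ a ∈ T', ∀ b ∈ T', a * b = b * a) (hodd : Odd (Nat.card T')) :
    (∀ a ∈ Subgroup.centralizer ({s} : Set G) ⊓ Subgroup.centralizer ({d} : Set G),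
      ∀ b ∈ Subgroup.centralizer ({s} : Set G) ⊓ Subgroup.centralizer ({d} : Set G), a * b = b * a) ∧
    (∀ a ∈ Subgroup.centralizer ({s} : Set G) ⊓ Subgroup.centralizer ({d} : Set G),
      a * a = 1 → a = 1 ∨ a = d) ∧
    Nat.card (Subgroup.centralizer ({s} : Set G) ⊓ Subgroup.centralizer ({d} : Set G) : Subgroup G) =
      2 * Nat.card T' := by
  classical
  obtain ⟨T, hT⟩ : ∃ T : Subgroup G,
      T = Subgroup.centralizer ({s} : Set G) ⊓ Subgroup.centralizer ({d} : Set G) := ⟨_, rfl⟩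
  rw [← hT]
  have hmem : ∀ x, x ∈ T ↔ ∃ a ∈ T', g * x * g⁻¹ = E.ι a ∨ g * x * g⁻¹ = E.t * E.ι a := by
    intro x
    rw [hT, Subgroup.mem_inf, Subgroup.mem_centralizer_singleton_iff,
      Subgroup.mem_centralizer_singleton_iff]
    constructor
    · rintro ⟨hs, hd⟩
      obtain ⟨a, ha⟩ := E.cent (g * x * g⁻¹) (by
        rw [← hg, show g * x * g⁻¹ * (g * d * g⁻¹) = g * (x * d) * g⁻¹ by group, hd]; group)
      refine ⟨a, (hT' a).1 (mul_inv_eq_iff_eq_mul.1 (E.inj ?_)), ha⟩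
      rw [← E.conj_ι ha, ← hy]
      calc g * x * g⁻¹ * (g * s * g⁻¹) * (g * x * g⁻¹)⁻¹ = g * (x * s) * x⁻¹ * g⁻¹ := by group
        _ = _ := by rw [hs]; group
    · rintro ⟨a, ha, h⟩
      have h1 : g * x * g⁻¹ * E.t = E.t * (g * x * g⁻¹) := E.mem_cent h
      have h2 : g * x * g⁻¹ * E.ι y * (g * x * g⁻¹)⁻¹ = E.ι y := by
        rw [E.conj_ι h, (hT' a).2 ha, mul_inv_cancel_right]
      rw [mul_inv_eq_iff_eq_mul] at h2
      have hd' : d = g⁻¹ * E.t * g := by rw [← hg]; group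
      have hs' : s = g⁻¹ * E.ι y * g := by rw [← hy]; group
      constructor
      · rw [hs']
        calc x * (g⁻¹ * E.ι y * g) = g⁻¹ * (g * x * g⁻¹ * E.ι y) * g := by group
          _ = _ := by rw [h2]; group
      · rw [hd']
        calc x * (g⁻¹ * E.t * g) = g⁻¹ * (g * x * g⁻¹ * E.t) * g := by group
          _ = _ := by rw [h1]; group
  refine ⟨fun x hx z hz => ?_, fun x hx hxx => ?_, ?_⟩
  · obtain ⟨a, ha, hxa⟩ := (hmem x).1 hx
    obtain ⟨b, hb, hzb⟩ := (hmem z).1 hz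
    have hz' : g * x * g⁻¹ * (g * z * g⁻¹) * (g * x * g⁻¹)⁻¹ = g * z * g⁻¹ := by
      rcases hzb with e | e <;> rw [e]
      · rw [E.conj_ι hxa, hab a ha b hb, mul_inv_cancel_right]
      · rw [← mul_assoc, E.mem_cent hxa, mul_assoc E.t, mul_assoc E.t, E.conj_ι hxa, hab a ha b hb,
          mul_inv_cancel_right]
    rw [mul_inv_eq_iff_eq_mul] at hz'
    calc x * z = g⁻¹ * (g * x * g⁻¹ * (g * z * g⁻¹)) * g := by group
      _ = _ := by rw [hz']; group
  · obtain ⟨a, ha, hxa⟩ := (hmem x).1 hx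
    have haa : a * a = 1 := by
      refine E.inj ?_
      rw [map_mul, map_one]
      have hc : g * x * g⁻¹ * (g * x * g⁻¹) = 1 := by
        rw [show g * x * g⁻¹ * (g * x * g⁻¹) = g * (x * x) * g⁻¹ by group, hxx]; group
      rcases hxa with e | e <;> rw [e] at hc
      · exact hc
      · rwa [show E.t * E.ι a * (E.t * E.ι a) = E.t * (E.ι a * E.t) * E.ι a by group, ← E.comm,
          ← mul_assoc E.t E.t, E.sq, one_mul] at hc
    have ha1 : a = 1 := congrArg Subtype.val (sq_eq_one_imp hodd (x := (⟨a, ha⟩ : T')) (Subtype.ext haa))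
    rw [ha1, map_one, mul_one] at hxa
    rcases hxa with e | e
    · exact Or.inl (conj_eq_one_iff.1 e)
    · right
      rw [← hg] at e
      exact mul_left_cancel (mul_right_cancel e)
  · let φ : Bool × T' → T := fun p => ⟨g⁻¹ * ((if p.1 then E.t else 1) * E.ι (p.2 : PST)) * g,
      (hmem _).2 ⟨p.2, p.2.2, by
        cases p.1
        · left; simp [mul_assoc]
        · right; simp [mul_assoc]⟩⟩
    rw [← Nat.card_eq_of_bijective φ ⟨?_, ?_⟩, Nat.card_prod]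
    · simp
    · rintro ⟨b, a⟩ ⟨b', a'⟩ h
      have h' : (if b then E.t else 1) * E.ι (a : PST) = (if b' then E.t else 1) * E.ι (a' : PST) :=
        mul_left_cancel (mul_right_cancel (congrArg Subtype.val h))
      cases b <;> cases b' <;> simp at h'
      · rw [Subtype.ext (E.inj h')]
      · exact absurd h' E.ι_eq_t_mul_iff
      · exact absurd h'.symm E.ι_eq_t_mul_iff
      · rw [Subtype.ext (E.inj h')]
    · rintro ⟨x, hx⟩
      obtain ⟨a, ha, h⟩ := (hmem x).1 hx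
      rcases h with e | e
      · exact ⟨⟨false, a, ha⟩, Subtype.ext (by simp [φ, ← e, mul_assoc])⟩
      · exact ⟨⟨true, a, ha⟩, Subtype.ext (by simp [φ, ← e, mul_assoc])⟩

namespace Fix

variable (hyp : Hyp E) {c : Cyc E} (f : Fix c)
include hyp

/-- A Sylow subgroup of the centraliser of an element of `J`, invariant under the fixed element and
`d`, has order `z f²` where `z f` is the order of its part centralised by `d`. -/
theorem fpf_sylow (hp3 : f.p ≠ 3) (hpJ : ¬ f.p ∣ Nat.card f.J) {ℓ : ℕ} [hℓ : Fact ℓ.Prime]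
    (hℓ2 : ℓ ≠ 2) (hℓp : ℓ ≠ f.p) {s : G} (hsJ : s ∈ f.J)
    (hTab : ∀ a ∈ Subgroup.centralizer ({s} : Set G) ⊓ Subgroup.centralizer ({c.d} : Set G),
      ∀ b ∈ Subgroup.centralizer ({s} : Set G) ⊓ Subgroup.centralizer ({c.d} : Set G), a * b = b * a)
    (hT2 : ∀ a ∈ Subgroup.centralizer ({s} : Set G) ⊓ Subgroup.centralizer ({c.d} : Set G),
      a * a = 1 → a = 1 ∨ a = c.d)
    (Z₀ : Subgroup G) (hZs : Z₀ ≤ Subgroup.zpowers s) (hZℓ : IsPGroup ℓ Z₀)
    (hY : ∀ x ∈ f.X, x * s = s * x → ∀ j : ℕ, x ^ ℓ ^ j = 1 → x ∈ Z₀) :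
    ∃ (R : Subgroup G) (f₀ : ℕ), IsPGroup ℓ R ∧ (∀ x ∈ R, x * s = s * x) ∧
      (∀ W : Subgroup G, IsPGroup ℓ W → (∀ x ∈ W, x * s = s * x) → Nat.card W ≤ Nat.card R) ∧
      (∀ x ∈ R, E.ι f.a₀ * x * (E.ι f.a₀)⁻¹ ∈ R) ∧ (∀ x ∈ R, c.d * x * c.d⁻¹ ∈ R) ∧
      (∀ x ∈ R, x * E.ι f.a₀ = E.ι f.a₀ * x → x ∈ Z₀) ∧
      Nat.card Z₀ * f₀ = ℓ ^ (Nat.card (Subgroup.centralizer ({s} : Set G) ⊓
        Subgroup.centralizer ({c.d} : Set G) : Subgroup G)).factorization ℓ ∧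
      Nat.card R = Nat.card Z₀ * (f₀ * f₀) ∧ f₀ * f₀ ≡ 1 [MOD f.p] := by
  classical
  haveI : Fact f.p.Prime := ⟨f.hp⟩
  haveI : Fact (Nat.Prime 2) := ⟨Nat.prime_two⟩
  have hp2 : f.p ≠ 2 := by have := f.p_three_le hyp; omega
  obtain ⟨hsX, hsd⟩ := f.mem_J.1 hsJ
  obtain ⟨M, hM⟩ : ∃ M : Subgroup G, M = Subgroup.centralizer ({s} : Set G) := ⟨_, rfl⟩
  obtain ⟨T, hT⟩ : ∃ T : Subgroup G, T = M ⊓ Subgroup.centralizer ({c.d} : Set G) := ⟨_, rfl⟩
  rw [← hM, ← hT] at hTab hT2 ⊢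
  have hmM : ∀ x, x ∈ M ↔ x * s = s * x := fun x => by
    rw [hM, Subgroup.mem_centralizer_singleton_iff]
  have hmT : ∀ x, x ∈ T ↔ x * s = s * x ∧ x * c.d = c.d * x := fun x => by
    rw [hT, Subgroup.mem_inf, hmM, Subgroup.mem_centralizer_singleton_iff]
  have hdT : c.d ∈ T := (hmT _).2 ⟨hsd.symm, rfl⟩
  -- the Sylow 2-subgroups of `M`
  have hdM : c.d ∈ M := (hmM _).2 hsd.symm
  have hsyl : ∀ S : Sylow 2 M, Nat.card (S : Subgroup M) = 2 := by
    have hz : IsPGroup 2 (Subgroup.zpowers (⟨c.d, hdM⟩ : M)) := IsPGroup.of_card (n := 1) (by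
      rw [Nat.card_zpowers, Subgroup.orderOf_mk, pow_one]
      exact orderOf_eq_prime ((pow_two _).trans c.dd) c.d1)
    obtain ⟨S₁, hS₁⟩ := hz.exists_le_sylow
    have hS₁le : (S₁ : Subgroup M) ≤ Subgroup.zpowers (⟨c.d, hdM⟩ : M) := by
      intro x hx
      have hPG : IsPGroup 2 ((S₁ : Subgroup M).map M.subtype) := S₁.2.map _
      obtain ⟨hxx, hxd⟩ := two_group_facts hyp hPG (x := (x : G)) (y := c.d) ⟨x, hx, rfl⟩
        ⟨⟨c.d, hdM⟩, hS₁ (Subgroup.mem_zpowers _), rfl⟩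
      rcases hT2 _ ((hmT _).2 ⟨(hmM _).1 x.2, hxd⟩) hxx with e | e
      · rw [show x = 1 from Subtype.ext e]; exact one_mem _
      · rw [show x = ⟨c.d, hdM⟩ from Subtype.ext e]; exact Subgroup.mem_zpowers _
    intro S
    rw [S.card_eq_multiplicity, ← S₁.card_eq_multiplicity, le_antisymm hS₁le hS₁, Nat.card_zpowers,
      Subgroup.orderOf_mk]
    exact orderOf_eq_prime ((pow_two _).trans c.dd) c.d1
  obtain ⟨O, hOn, hO2, hOodd⟩ := exists_index_two hsyl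
  haveI := hOn
  obtain ⟨P, hcP, hPmem, hdP, hPline⟩ := f.exists_sylow hyp hpJ
  have hPfix : ∀ x ∈ (P : Subgroup G), ∀ y ∈ f.X, y * x = x * y := by
    intro x hx y hy
    obtain ⟨a, ha, rfl, j, hj⟩ := hPmem x hx
    exact f.X_comm hyp ha (f.fixed_p hyp hp3 j ha hj) hy
  have hPM : (P : Subgroup G) ≤ M := fun x hx => (hmM x).2 (hPfix x hx s hsX).symm
  obtain ⟨PM, hPM'⟩ : ∃ PM : Sylow f.p M, PM = P.subtype hPM := ⟨_, rfl⟩
  have hPMmem : ∀ x : M, x ∈ (PM : Subgroup M) ↔ (x : G) ∈ (P : Subgroup G) := fun x => by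
    rw [hPM']; rfl
  have hNC : ∀ x ∈ O, x ∈ Subgroup.normalizer ((PM : Subgroup M) : Set M) →
      ∀ z ∈ (PM : Subgroup M), x * z = z * x := by
    intro x hxO hxN z hz
    refine Subtype.ext ?_
    have hxN' : (x : G) ∈ Subgroup.normalizer ((P : Subgroup G) : Set G) := by
      rw [Subgroup.mem_normalizer_iff]
      intro w
      constructor
      · intro hw
        exact (hPMmem _).1 ((Subgroup.mem_normalizer_iff.1 hxN ⟨w, hPM hw⟩).1 ((hPMmem _).2 hw))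
      · intro hw
        have hwM : w ∈ M := by
          have := mul_mem (mul_mem (inv_mem x.2) (hPM hw)) x.2
          simpa [mul_assoc] using this
        exact (hPMmem ⟨w, hwM⟩).1 ((Subgroup.mem_normalizer_iff.1 hxN ⟨w, hwM⟩).2 ((hPMmem _).2 hw))
    have hxX : (x : G) ∈ f.X := by
      refine f.mem_X_of_odd hyp (m := Nat.card O) hOodd ?_ (f.cases_norm hyp (hPline _ hxN'))
      have h := congrArg (fun y : O => ((y : M) : G)) (pow_card_eq_one' (x := (⟨x, hxO⟩ : O)))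
      simp only [SubmonoidClass.coe_pow, OneMemClass.coe_one] at h
      exact h
    exact hPfix _ ((hPMmem z).1 hz) _ hxX
  have hdP' : (⟨c.d, hdM⟩ : M) ∈ Subgroup.normalizer ((PM : Subgroup M) : Set M) := by
    rw [Subgroup.mem_normalizer_iff]
    intro w
    rw [hPMmem, hPMmem]
    exact Subgroup.mem_normalizer_iff.1 hdP (w : G)
  obtain ⟨R', hPR, hdR, hTR⟩ := exists_invariant_sylow hO2 hOodd hℓ2 hp2 hℓp PM hNC
    (Subtype.ext c.dd : (⟨c.d, hdM⟩ : M) * ⟨c.d, hdM⟩ = 1)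
    (fun e => c.d1 (congrArg Subtype.val e)) hdP'
    (fun x y hx hy => Subtype.ext (hTab _ ((hmT _).2 ⟨(hmM _).1 x.2, congrArg Subtype.val hx⟩) _
      ((hmT _).2 ⟨(hmM _).1 y.2, congrArg Subtype.val hy⟩)))
  obtain ⟨R, hR⟩ : ∃ R : Subgroup G, R = (R' : Subgroup M).map M.subtype := ⟨_, rfl⟩
  have hRp : IsPGroup ℓ R := hR ▸ R'.2.map _
  have hRM : R ≤ M := hR ▸ Subgroup.map_subtype_le _
  have hinv : ∀ {w : G} (hw : w ∈ M), (⟨w, hw⟩ : M) ∈ Subgroup.normalizer ((R' : Subgroup M) : Set M) →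
      ∀ x ∈ R, w * x * w⁻¹ ∈ R := by
    intro w hw hwn x hx
    rw [hR] at hx ⊢
    obtain ⟨y, hy, rfl⟩ := hx
    exact ⟨_, (Subgroup.mem_normalizer_iff.1 hwn y).1 hy, rfl⟩
  have hcR := hinv (hPM hcP) (hPR ((hPMmem ⟨_, hPM hcP⟩).2 hcP))
  have hdR' := hinv hdM hdR
  have hmax : ∀ W : Subgroup G, IsPGroup ℓ W → (∀ x ∈ W, x * s = s * x) →
      Nat.card W ≤ Nat.card R := by
    intro W hW hWs
    obtain ⟨U, hU⟩ := (hW.comap_subtype (K := M)).exists_le_sylow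
    rw [hR, Subgroup.card_map_of_injective M.subtype_injective, R'.card_eq_multiplicity,
      ← U.card_eq_multiplicity, ← Nat.card_congr (Subgroup.subgroupOfEquivOfLe
        (fun x hx => (hmM x).2 (hWs x hx) : W ≤ M)).toEquiv]
    exact Nat.card_le_card_of_injective _ (Subgroup.inclusion_injective hU)
  have hTR' : ∀ x ∈ T, ∀ j : ℕ, x ^ ℓ ^ j = 1 → x ∈ R := by
    intro x hx j hj
    rw [hR]
    exact ⟨⟨x, (hmM x).2 ((hmT x).1 hx).1⟩, hTR _ j (Subtype.ext ((hmT x).1 hx).2)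
      (Subtype.ext (by simpa using hj)), rfl⟩
  have hRc : ∀ x ∈ R, x * E.ι f.a₀ = E.ι f.a₀ * x → x ∈ Z₀ := by
    intro x hx hxc
    obtain ⟨j, hj⟩ := hRp ⟨x, hx⟩
    exact hY x (f.mem_X.2 hxc) ((hmM x).1 (hRM hx)) j (congrArg Subtype.val hj)
  have hZT : Z₀ ≤ T := fun z hz => by
    obtain ⟨i, rfl⟩ := hZs hz
    exact (hmT _).2 ⟨((Commute.refl s).zpow_left i).eq, ((show Commute s c.d from hsd).zpow_left i).eq⟩
  have hZR : Z₀ ≤ R := fun z hz => by
    obtain ⟨j, hj⟩ := hZℓ ⟨z, hz⟩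
    exact hTR' z (hZT hz) j (congrArg Subtype.val hj)
  -- the part centralised by `d`
  obtain ⟨D, hD⟩ : ∃ D : Subgroup G, D = R ⊓ T := ⟨_, rfl⟩
  have hZD : Z₀ ≤ D := hD ▸ le_inf hZR hZT
  have hDcard : Nat.card D = ℓ ^ (Nat.card T).factorization ℓ := by
    obtain ⟨i, hi⟩ := (hRp.to_le (hD ▸ inf_le_left : D ≤ R)).exists_card_eq
    obtain ⟨S⟩ : Nonempty (Sylow ℓ T) := inferInstance
    have h1 : ((S : Subgroup T).map T.subtype) ≤ D := by
      rintro _ ⟨x, hx, rfl⟩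
      obtain ⟨j, hj⟩ := S.2 ⟨x, hx⟩
      have hxR : (x : G) ∈ R := hTR' _ x.2 j (by
        simpa using congrArg (fun z : (S : Subgroup T) => ((z : T) : G)) hj)
      rw [hD]
      exact ⟨hxR, x.2⟩
    refine le_antisymm ?_ ?_
    · rw [hi]
      refine Nat.le_of_dvd (pow_pos hℓ.out.pos _) (pow_dvd_pow ℓ ?_)
      rw [← hℓ.out.pow_dvd_iff_le_factorization Nat.card_pos.ne', ← hi]
      exact Subgroup.card_dvd_of_le (hD ▸ inf_le_right)
    · rw [← S.card_eq_multiplicity, ← Subgroup.card_map_of_injective T.subtype_injective]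
      exact Nat.card_le_card_of_injective _ (Subgroup.inclusion_injective h1)
  -- the quotient by the central subgroup
  obtain ⟨Z, hZ⟩ : ∃ Z : Subgroup R, Z = Z₀.subgroupOf R := ⟨_, rfl⟩
  haveI : Z.Normal := ⟨fun z hz x => by
    rw [hZ, Subgroup.mem_subgroupOf] at hz ⊢
    obtain ⟨i, hi⟩ := hZs hz
    have hc : Commute (x : G) (z : G) := hi ▸ (show Commute (x : G) s from (hmM _).1 (hRM x.2)).zpow_right i
    show (x : G) * (z : G) * (x : G)⁻¹ ∈ Z₀
    rw [hc.eq, mul_inv_cancel_right]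
    exact hz⟩
  let σ : MulAut R := restrAut (MulAut.conj (E.ι f.a₀)) R hcR
  let τ : MulAut R := restrAut (MulAut.conj c.d) R hdR'
  have hσZ : ∀ x ∈ Z, σ x ∈ Z := by
    intro x hx
    rw [hZ, Subgroup.mem_subgroupOf] at hx ⊢
    show E.ι f.a₀ * (x : G) * (E.ι f.a₀)⁻¹ ∈ Z₀
    obtain ⟨i, hi⟩ := hZs hx
    have hc : Commute (E.ι f.a₀) (x : G) :=
      hi ▸ (show Commute (E.ι f.a₀) s from (f.mem_X.1 hsX).symm).zpow_right i
    rw [hc.eq, mul_inv_cancel_right]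
    exact hx
  have hτZ : ∀ x ∈ Z, τ x ∈ Z := by
    intro x hx
    rw [hZ, Subgroup.mem_subgroupOf] at hx ⊢
    show c.d * (x : G) * c.d⁻¹ ∈ Z₀
    rw [← ((hmT _).1 (hZT hx)).2, mul_inv_cancel_right]
    exact hx
  have hpow : ∀ (φ : MulAut G) (hφ : ∀ x ∈ R, φ x ∈ R) (k : ℕ) (x : R),
      (((restrAut φ R hφ) ^ k) x : G) = (φ ^ k) (x : G) := by
    intro φ hφ k
    induction k with
    | zero => intro x; simp
    | succ k ih => intro x; rw [pow_succ', pow_succ', MulAut.mul_apply, MulAut.mul_apply, coe_restrAut, ih]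
  have hap : E.ι f.a₀ ^ f.p = 1 := by rw [← f.orderOf_ι_a₀, pow_orderOf_eq_one]
  have hσp : σ ^ f.p = 1 := MulEquiv.ext fun x => Subtype.ext (by
    refine (hpow _ hcR _ x).trans ?_
    rw [← map_pow, hap, map_one]; rfl)
  have hτ2 : τ ^ 2 = 1 := MulEquiv.ext fun x => Subtype.ext (by
    refine (hpow _ hdR' _ x).trans ?_
    rw [← map_pow, pow_two, c.dd, map_one]; rfl)
  have hda : c.d * E.ι f.a₀ * c.d⁻¹ = (E.ι f.a₀)⁻¹ := by rw [c.d_tor f.ha₀.1, map_inv]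
  have hRcard : ∀ {m : ℕ}, m.Prime → m ≠ ℓ → ¬ m ∣ Nat.card R := by
    intro m hm hmℓ hd
    obtain ⟨i, hi⟩ := hRp.exists_card_eq
    exact hmℓ ((Nat.prime_dvd_prime_iff_eq hm hℓ.out).1 (hm.dvd_of_dvd_pow (hi ▸ hd)))
  let σ' := quoAut σ Z hσZ
  let τ' := quoAut τ Z hτZ
  have hqpow : ∀ (k : ℕ) (x : R), (σ' ^ k) (QuotientGroup.mk x) = QuotientGroup.mk ((σ ^ k) x) := by
    intro k
    induction k with
    | zero => intro x; simp
    | succ k ih => intro x; rw [pow_succ', pow_succ', MulAut.mul_apply, MulAut.mul_apply, ih, quoAut_mk]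
  have hσ'p : σ' ^ f.p = 1 := MulEquiv.ext fun y => by
    obtain ⟨x, rfl⟩ := QuotientGroup.mk_surjective y
    rw [hqpow, hσp]; rfl
  have hτ' : ∀ y, τ' (τ' y) = y := fun y => by
    obtain ⟨x, rfl⟩ := QuotientGroup.mk_surjective y
    rw [quoAut_mk, quoAut_mk, ← MulAut.mul_apply, ← pow_two, hτ2]; rfl
  have hστ : ∀ y, τ' (σ' y) = σ'.symm (τ' y) := fun y => by
    obtain ⟨x, rfl⟩ := QuotientGroup.mk_surjective y
    apply σ'.injective
    rw [MulEquiv.apply_symm_apply, quoAut_mk, quoAut_mk, quoAut_mk, quoAut_mk]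
    congr 1
    refine Subtype.ext ?_
    show E.ι f.a₀ * (c.d * (E.ι f.a₀ * (x : G) * (E.ι f.a₀)⁻¹) * c.d⁻¹) * (E.ι f.a₀)⁻¹ =
      c.d * (x : G) * c.d⁻¹
    calc E.ι f.a₀ * (c.d * (E.ι f.a₀ * (x : G) * (E.ι f.a₀)⁻¹) * c.d⁻¹) * (E.ι f.a₀)⁻¹
        = E.ι f.a₀ * (c.d * E.ι f.a₀ * c.d⁻¹) * (c.d * (x : G) * c.d⁻¹) *
          (c.d * E.ι f.a₀ * c.d⁻¹)⁻¹ * (E.ι f.a₀)⁻¹ := by group
      _ = _ := by rw [hda]; group
  have hfix : ∀ y, σ' y = y → y = 1 := fun y hy => by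
    obtain ⟨x, rfl⟩ := QuotientGroup.mk_surjective y
    rw [quoAut_mk] at hy
    obtain ⟨z, hz, hzf⟩ := exists_fixed_lift_coprime σ hσp (hRcard f.hp (Ne.symm hℓp)) Z hσZ hy
    rw [← hz, QuotientGroup.eq_one_iff, hZ, Subgroup.mem_subgroupOf]
    exact hRc z z.2 (mul_inv_eq_iff_eq_mul.1 (congrArg Subtype.val hzf)).symm
  have hfp := card_fpf (hRp.to_quotient Z) hℓ2 hℓp hp2 σ' τ' hσ'p hτ' hστ hfix
  have hmod := card_mod_of_fpf σ' hσ'p hfix
  -- the fixed points of `d` on the quotient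
  obtain ⟨DR, hDR⟩ : ∃ DR : Subgroup R, DR = D.subgroupOf R := ⟨_, rfl⟩
  have hfixcard : Nat.card {y : R ⧸ Z // τ' y = y} = Nat.card (DR.map (QuotientGroup.mk' Z)) := by
    refine Nat.card_congr (Equiv.subtypeEquivRight fun y => ?_)
    constructor
    · intro hy
      obtain ⟨x, rfl⟩ := QuotientGroup.mk_surjective y
      rw [quoAut_mk] at hy
      obtain ⟨z, hz, hzf⟩ := exists_fixed_lift_coprime τ hτ2 (hRcard Nat.prime_two (Ne.symm hℓ2)) Z hτZ hy
      refine ⟨z, ?_, hz⟩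
      show z ∈ DR
      rw [hDR, Subgroup.mem_subgroupOf, hD]
      exact ⟨z.2, (hmT _).2 ⟨(hmM _).1 (hRM z.2),
        (mul_inv_eq_iff_eq_mul.1 (congrArg Subtype.val hzf)).symm⟩⟩
    · rintro ⟨z, hz, rfl⟩
      show τ' (QuotientGroup.mk z) = QuotientGroup.mk z
      rw [quoAut_mk]
      congr 1
      refine Subtype.ext ?_
      show c.d * (z : G) * c.d⁻¹ = (z : G)
      replace hz : z ∈ DR := hz
      rw [hDR, Subgroup.mem_subgroupOf, hD] at hz
      rw [← ((hmT _).1 hz.2).2, mul_inv_cancel_right]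
  have hZcard : Nat.card Z = Nat.card Z₀ := by
    rw [hZ, Nat.card_congr (Subgroup.subgroupOfEquivOfLe hZR).toEquiv]
  have hker : Nat.card Z₀ * Nat.card (DR.map (QuotientGroup.mk' Z)) = Nat.card D := by
    have hDle : D ≤ R := hD ▸ inf_le_left
    have hZle : Z ≤ DR := by
      rw [hZ, hDR]; exact fun z hz => hZD hz
    have hc := ((QuotientGroup.mk' Z).comp DR.subtype).ker.card_mul_index
    rw [Subgroup.index_ker, MonoidHom.range_comp, Subgroup.range_subtype,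
      Nat.card_congr (Subgroup.subgroupOfEquivOfLe hDle).toEquiv.symm, ← hDR] at *
    rw [← hc]
    congr 1
    rw [← hZcard]
    refine Nat.card_congr
      { toFun := fun z => ⟨⟨z.1, hZle z.2⟩, (QuotientGroup.eq_one_iff _).2 z.2⟩
        invFun := fun z => ⟨z.1.1, (QuotientGroup.eq_one_iff _).1 z.2⟩
        left_inv := fun _ => rfl
        right_inv := fun _ => rfl }
  refine ⟨R, Nat.card (DR.map (QuotientGroup.mk' Z)), hRp, fun x hx => (hmM x).1 (hRM hx), hmax, hcR,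
    hdR', hRc, hker.trans hDcard, ?_, ?_⟩
  · rw [Z.card_eq_card_quotient_mul_card_subgroup, hfp, hfixcard, hZcard, mul_comm]
  · rw [← hfixcard, ← hfp]
    exact hmod

end Fix

end CfsgLib.JankoThompson
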