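import Cfsg.Agent.JankoThompson.Fix
import Mathlib

/-!
# The structure of the centraliser of a fixed torus element
-/

set_option autoImplicit false
set_option linter.unusedSectionVars false
set_option linter.style.haveILetI false

namespace CfsgLib.JankoThompson

open Matrix CfsgLib.ReeTypeS3
open scoped MatrixGroups

universe u v

variable {G : Type u} [Group G] [Fintype G] {F : Type v} [Field F] [Fintype F]

local notation "PST" => Matrix.ProjectiveSpecialLinearGroup (Fin 2) F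

variable {E : Emb G (Matrix.ProjectiveSpecialLinearGroup (Fin 2) F)}

namespace Fix

variable (hyp : Hyp E) {c : Cyc E} (f : Fix c)

/-- The centraliser of `t` in `X`. -/
def A : Subgroup G := f.X ⊓ Subgroup.centralizer ({E.t} : Set G)

/-- The centraliser of `d` in `X`. -/
def J : Subgroup G := f.X ⊓ Subgroup.centralizer ({c.d} : Set G)

theorem mem_J {x : G} : x ∈ f.J ↔ x ∈ f.X ∧ x * c.d = c.d * x := by
  rw [J, Subgroup.mem_inf, Subgroup.mem_centralizer_singleton_iff]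

theorem four_mem_J {x : G} (hx : c.IsFour x) : x ∈ f.J :=
  f.mem_J.2 ⟨f.four_mem_X hx, c.four_comm_d hx⟩

theorem v_mem_J : c.v ∈ f.J := f.mem_J.2 ⟨f.v_mem_X, mul_inv_eq_iff_eq_mul.1 c.dv⟩

include hyp

theorem mem_A {x : G} : x ∈ f.A ↔ ∃ e, c.IsFour e ∧ ∃ a ∈ c.Cr, x = e * E.ι a := by
  rw [A, Subgroup.mem_inf, Subgroup.mem_centralizer_singleton_iff]
  constructor
  · rintro ⟨hX, ht⟩
    exact f.cent_t hyp hX ht
  · rintro ⟨e, he, a, ha, rfl⟩
    exact ⟨mul_mem (f.four_mem_X he) (f.Cr_mem_X ha), by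
      rw [mul_assoc, ← E.comm, ← mul_assoc, c.four_comm_t he, mul_assoc]⟩

theorem four_mem_A {x : G} (hx : c.IsFour x) : x ∈ f.A :=
  (f.mem_A hyp).2 ⟨x, hx, 1, one_mem _, by rw [map_one, mul_one]⟩

theorem A_comm {x y : G} (hx : x ∈ f.A) (hy : y ∈ f.A) : x * y = y * x := by
  obtain ⟨e, he, a, ha, rfl⟩ := (f.mem_A hyp).1 hx
  obtain ⟨e', he', b, hb, rfl⟩ := (f.mem_A hyp).1 hy
  have h1 : Commute (E.ι a) e' := (c.four_comm_Cr he' ha).symm
  have h2 : Commute (E.ι a) (E.ι b) := (show Commute a b from tor_comm c.htr ha.1 hb.1).map E.ι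
  have h3 : Commute e e' := by
    have h := c.four_sq (c.four_mul he he')
    rw [mul_eq_one_iff_eq_inv, _root_.mul_inv_rev, c.four_inv he, c.four_inv he'] at h
    exact h
  have h4 : Commute e (E.ι b) := c.four_comm_Cr he hb
  exact ((h3.mul_right h4).mul_left (h1.mul_right h2)).eq

theorem four_comm_A {x e : G} (hx : x ∈ f.A) (he : c.IsFour e) : x * e = e * x :=
  f.A_comm hyp hx (f.four_mem_A hyp he)

theorem natCard_A : Nat.card f.A = 4 * rOf F := by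
  let φ : c.fourG × c.Cr → f.A := fun p =>
    ⟨(p.1 : G) * E.ι (p.2 : PST), (f.mem_A hyp).2 ⟨_, p.1.2, _, p.2.2, rfl⟩⟩
  rw [← Nat.card_eq_of_bijective φ ⟨?_, ?_⟩, Nat.card_prod, c.natCard_fourG, c.natCard_Cr]
  · rintro ⟨⟨e, he⟩, ⟨a, ha⟩⟩ ⟨⟨e', he'⟩, ⟨a', ha'⟩⟩ h
    obtain ⟨rfl, rfl⟩ := c.four_mul_Cr_inj hyp he he' ha ha' (congrArg Subtype.val h)
    rfl
  · rintro ⟨x, hx⟩
    obtain ⟨e, he, a, ha, rfl⟩ := (f.mem_A hyp).1 hx
    exact ⟨⟨⟨e, he⟩, ⟨a, ha⟩⟩, rfl⟩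

theorem conj_A {z : G} (hz : z ∈ f.A) (k : ℕ) : c.v ^ k * z * (c.v ^ k)⁻¹ ∈ f.A := by
  obtain ⟨e, he, a, ha, rfl⟩ := (f.mem_A hyp).1 hz
  obtain ⟨b, hb, hab⟩ := c.conj_pow_Cr hyp ha k
  exact (f.mem_A hyp).2 ⟨_, c.four_conj_pow he k, b, hb, by rw [← hab]; group⟩

theorem J_inter_A {x : G} (hx : x ∈ f.J) (hA : x ∈ f.A) : c.IsFour x := by
  obtain ⟨e, he, a, ha, rfl⟩ := (f.mem_A hyp).1 hA
  have h1 := (f.mem_J.1 hx).2
  rw [mul_assoc, c.d_Cr ha, ← mul_assoc, c.four_comm_d he, mul_assoc] at h1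
  obtain ⟨-, h2⟩ := c.four_mul_Cr_inj hyp he he (inv_mem ha) ha (mul_left_cancel h1)
  have h3 : a * a = 1 := by
    nth_rewrite 1 [← h2]
    exact inv_mul_cancel a
  rw [c.eq_one_of_sq hyp ha h3, map_one, mul_one]
  exact he

theorem v_not_A : c.v ∉ f.A := fun h => c.t₁_ne_t (by
  rw [← c.hv, f.four_comm_A hyp h (Or.inr (Or.inl rfl)), mul_inv_cancel_right])

theorem coord_unique {z z' : G} (hz : z ∈ f.A) (hz' : z' ∈ f.A) {i j : ℕ}
    (h : z * c.v ^ i = z' * c.v ^ j) : i % 3 = j % 3 := by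
  have ho : orderOf c.v = 3 := orderOf_eq_prime c.v3 c.v1
  by_contra hne
  have hm : c.v ^ (i + 2 * j) ∈ f.A := by
    have e : z⁻¹ * z' = c.v ^ i * (c.v ^ j)⁻¹ := by
      calc z⁻¹ * z' = z⁻¹ * (z' * c.v ^ j) * (c.v ^ j)⁻¹ := by group
        _ = _ := by rw [← h]; group
    have e2 : (c.v ^ j)⁻¹ = c.v ^ (2 * j) := by
      rw [inv_eq_iff_mul_eq_one, ← pow_add, show j + 2 * j = 3 * j by ring, pow_mul, c.v3, one_pow]
    rw [pow_add, ← e2, ← e]
    exact mul_mem (inv_mem hz) hz'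
  apply f.v_not_A hyp
  have hcop : (i + 2 * j) % 3 = 1 ∨ (i + 2 * j) % 3 = 2 := by omega
  rw [← pow_mod_orderOf, ho] at hm
  rcases hcop with e | e <;> rw [e] at hm
  · simpa using hm
  · have := inv_mem hm
    rwa [pow_two, ← c.v_inv, inv_inv] at this

/-- The subgroup `A ⟨v⟩`. -/
def H : Subgroup G where
  carrier := {x | ∃ z ∈ f.A, ∃ k : ℕ, x = z * c.v ^ k}
  one_mem' := ⟨1, one_mem _, 0, by simp⟩
  mul_mem' := by
    rintro _ _ ⟨z, hz, k, rfl⟩ ⟨z', hz', k', rfl⟩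
    exact ⟨z * (c.v ^ k * z' * (c.v ^ k)⁻¹), mul_mem hz (f.conj_A hyp hz' k), k + k', by
      rw [pow_add]; group⟩
  inv_mem' := by
    rintro _ ⟨z, hz, k, rfl⟩
    have e2 : (c.v ^ k)⁻¹ = c.v ^ (2 * k) := by
      rw [inv_eq_iff_mul_eq_one, ← pow_add, show k + 2 * k = 3 * k by ring, pow_mul, c.v3, one_pow]
    exact ⟨c.v ^ (2 * k) * z⁻¹ * (c.v ^ (2 * k))⁻¹, f.conj_A hyp (inv_mem hz) _, 2 * k, by
      rw [_root_.mul_inv_rev, e2]; group⟩

theorem mem_H {x : G} : x ∈ f.H hyp ↔ ∃ z ∈ f.A, ∃ k : ℕ, x = z * c.v ^ k := Iff.rfl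

theorem H_le : f.H hyp ≤ f.X := by
  rintro x ⟨z, hz, k, rfl⟩
  exact mul_mem hz.1 (pow_mem f.v_mem_X k)

theorem natCard_H : Nat.card (f.H hyp) = 12 * rOf F := by
  let φ : f.A × Fin 3 → f.H hyp := fun p => ⟨(p.1 : G) * c.v ^ (p.2 : ℕ), _, p.1.2, _, rfl⟩
  rw [← Nat.card_eq_of_bijective φ ⟨?_, ?_⟩, Nat.card_prod, f.natCard_A hyp, Nat.card_fin]
  · ring
  · rintro ⟨z, i⟩ ⟨z', j⟩ h
    have h' : (z : G) * c.v ^ (i : ℕ) = (z' : G) * c.v ^ (j : ℕ) := congrArg Subtype.val h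
    have hij : i = j := by
      have := f.coord_unique hyp z.2 z'.2 h'
      exact Fin.ext (by omega)
    subst hij
    rw [Subtype.ext (mul_right_cancel h')]
  · rintro ⟨x, z, hz, k, rfl⟩
    refine ⟨⟨⟨z, hz⟩, ⟨k % 3, Nat.mod_lt _ (by norm_num)⟩⟩, Subtype.ext ?_⟩
    show z * c.v ^ (k % 3) = z * c.v ^ k
    rw [← pow_mod_orderOf c.v k, orderOf_eq_prime c.v3 c.v1]

theorem H_eq (h12 : Nat.card f.J = 12) : f.H hyp = f.X :=
  Subgroup.eq_of_le_of_card_ge (f.H_le hyp) (by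
    have hX : Nat.card f.X = rOf F * Nat.card f.J := f.natCard_X hyp
    rw [f.natCard_H hyp, hX, h12, mul_comm])

theorem involution_mem_H {z : G} (hz : z ∈ f.H hyp) (hzz : z * z = 1) : z ∈ f.A := by
  obtain ⟨w, hw, k, rfl⟩ := hz
  have e : (1 : G) * c.v ^ 0 = w * (c.v ^ k * w * (c.v ^ k)⁻¹) * c.v ^ (k + k) := by
    rw [pow_zero, one_mul, ← hzz, pow_add]; group
  have h := f.coord_unique hyp (one_mem _) (mul_mem hw (f.conj_A hyp hw k)) e
  rw [← pow_mod_orderOf c.v k, orderOf_eq_prime c.v3 c.v1, show k % 3 = 0 by omega, pow_zero, mul_one]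
  exact hw

/-- An element moving `t` within the four-group lies in `A ⟨v⟩`. -/
theorem mem_H_of_conj {x : G} (hx : x ∈ f.X) (h : c.IsFour (x * E.t * x⁻¹)) : x ∈ f.H hyp := by
  obtain ⟨k, hk⟩ := c.four_to_t h (fun e => E.t_ne_one (conj_eq_one_iff.1 e))
  have hA : c.v ^ k * x ∈ f.A := ⟨mul_mem (pow_mem f.v_mem_X k) hx,
    Subgroup.mem_centralizer_singleton_iff.2 (by
      calc c.v ^ k * x * E.t = c.v ^ k * (x * E.t * x⁻¹) * (c.v ^ k)⁻¹ * (c.v ^ k * x) := by group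
        _ = _ := by rw [hk])⟩
  have e : x = (c.v ^ k)⁻¹ * (c.v ^ k * x) := (inv_mul_cancel_left _ _).symm
  rw [e]
  exact mul_mem (inv_mem ((f.mem_H hyp).2 ⟨1, one_mem _, k, by rw [one_mul]⟩))
    ((f.mem_H hyp).2 ⟨_, hA, 0, by rw [pow_zero, mul_one]⟩)

theorem exists_not_four (h60 : Nat.card f.J = 60) :
    ∃ y ∈ f.J, ¬ c.IsFour (y * E.t * y⁻¹) := by
  by_contra hcon
  push Not at hcon
  have hle : f.J ≤ f.H hyp ⊓ f.J := fun y hy =>
    ⟨f.mem_H_of_conj hyp (f.mem_J.1 hy).1 (hcon y hy), hy⟩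
  let φ : c.fourG × Fin 3 → f.J := fun p => ⟨(p.1 : G) * c.v ^ (p.2 : ℕ),
    mul_mem (f.four_mem_J p.1.2) (pow_mem f.v_mem_J _)⟩
  have hφ : Function.Surjective φ := by
    rintro ⟨y, hy⟩
    obtain ⟨⟨z, hz, k, rfl⟩, -⟩ := hle hy
    have hzJ : z ∈ f.J := by
      have := mul_mem hy (inv_mem (pow_mem f.v_mem_J k))
      rwa [mul_inv_cancel_right] at this
    refine ⟨⟨⟨z, f.J_inter_A hyp hzJ hz⟩, ⟨k % 3, Nat.mod_lt _ (by norm_num)⟩⟩, Subtype.ext ?_⟩
    show z * c.v ^ (k % 3) = z * c.v ^ k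
    rw [← pow_mod_orderOf c.v k, orderOf_eq_prime c.v3 c.v1]
  have := Nat.card_le_card_of_surjective φ hφ
  rw [h60, Nat.card_prod, c.natCard_fourG, Nat.card_fin] at this
  omega

/-- The torus part is normal in `X`. -/
theorem conj_mem_Cr (h60 : Nat.card f.J = 60) {x : G} (hx : x ∈ f.X) {a : PST} (ha : a ∈ c.Cr) :
    ∃ b ∈ c.Cr, x * E.ι a * x⁻¹ = E.ι b := by
  classical
  obtain ⟨K, hK⟩ : ∃ K : Subgroup f.X, K = ((f.H hyp).subgroupOf f.X).normalCore := ⟨_, rfl⟩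
  haveI hKn : K.Normal := hK ▸ inferInstance
  have hKH : ∀ y : f.X, y ∈ K → (y : G) ∈ f.H hyp := fun y hy => by
    rw [hK] at hy
    exact Subgroup.mem_subgroupOf.1 (Subgroup.normalCore_le _ hy)
  obtain ⟨y₀, hy₀J, hy₀⟩ := f.exists_not_four hyp h60
  have hy₀X := (f.mem_J.1 hy₀J).1
  have ht4 : c.IsFour E.t := Or.inr (Or.inl rfl)
  -- `K` meets the four-group trivially
  have hKE : ∀ y : f.X, y ∈ K → c.IsFour (y : G) → y = 1 := by
    intro y hy hy4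
    by_contra hy1
    obtain ⟨k, hk⟩ := c.four_to_t hy4 (fun e => hy1 (Subtype.ext e))
    have htK : (⟨E.t, f.four_mem_X ht4⟩ : f.X) ∈ K := by
      have := hKn.conj_mem y hy ⟨c.v ^ k, pow_mem f.v_mem_X k⟩
      rwa [show (⟨c.v ^ k, pow_mem f.v_mem_X k⟩ : f.X) * y * ⟨c.v ^ k, pow_mem f.v_mem_X k⟩⁻¹ =
        ⟨E.t, f.four_mem_X ht4⟩ from Subtype.ext hk] at this
    have h1 := hKH _ (hKn.conj_mem _ htK ⟨y₀, hy₀X⟩)
    have h2 : y₀ * E.t * y₀⁻¹ * (y₀ * E.t * y₀⁻¹) = 1 := by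
      rw [show y₀ * E.t * y₀⁻¹ * (y₀ * E.t * y₀⁻¹) = y₀ * (E.t * E.t) * y₀⁻¹ by group, E.sq]
      group
    refine hy₀ (f.J_inter_A hyp ?_ (f.involution_mem_H hyp h1 h2))
    exact mul_mem (mul_mem hy₀J (f.four_mem_J ht4)) (inv_mem hy₀J)
  have hKC : ∀ y : f.X, y ∈ K → ∃ b ∈ c.Cr, (y : G) = E.ι b := by
    intro y hy
    obtain ⟨z, hz, k, hk⟩ := hKH y hy
    have hw4 : c.IsFour (E.t * ((y : G) * E.t * (y : G)⁻¹)) := by
      refine c.four_mul ht4 ?_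
      rw [hk, show z * c.v ^ k * E.t * (z * c.v ^ k)⁻¹ = z * (c.v ^ k * E.t * (c.v ^ k)⁻¹) * z⁻¹ by
        group, f.four_comm_A hyp hz (c.four_conj_pow ht4 k), mul_inv_cancel_right]
      exact c.four_conj_pow ht4 k
    have hwK : (⟨E.t, f.four_mem_X ht4⟩ * y * ⟨E.t, f.four_mem_X ht4⟩⁻¹ * y⁻¹ : f.X) ∈ K :=
      mul_mem (hKn.conj_mem y hy _) (inv_mem hy)
    have hw := congrArg Subtype.val (hKE _ hwK (by
      show c.IsFour (E.t * (y : G) * E.t⁻¹ * (y : G)⁻¹)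
      rw [E.t_inv, show E.t * (y : G) * E.t * (y : G)⁻¹ = E.t * ((y : G) * E.t * (y : G)⁻¹) by group]
      exact hw4))
    have hyA : (y : G) ∈ f.A := ⟨y.2, Subgroup.mem_centralizer_singleton_iff.2 (by
      have h' : E.t * (y : G) * E.t⁻¹ * (y : G)⁻¹ = 1 := hw
      rw [mul_inv_eq_one, mul_inv_eq_iff_eq_mul] at h'
      exact h'.symm)⟩
    obtain ⟨e, he, b, hb, hyb⟩ := (f.mem_A hyp).1 hyA
    have hpow : (y : G) ^ rOf F = e := by
      rw [hyb, (show Commute e (E.ι b) from c.four_comm_Cr he hb).mul_pow, ← map_pow, hb.2, map_one,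
        mul_one]
      obtain ⟨j, hj⟩ := odd_r hyp.mod8
      rw [hj, pow_succ, pow_mul, pow_two, c.four_sq he, one_pow, one_mul]
    have := congrArg Subtype.val (hKE (y ^ rOf F) (pow_mem hy _)
      (by rw [SubmonoidClass.coe_pow, hpow]; exact he))
    rw [SubmonoidClass.coe_pow, hpow] at this
    exact ⟨b, hb, by rw [hyb, show e = 1 from this, one_mul]⟩
  -- the order of `K`
  obtain ⟨CrG, hCrG⟩ : ∃ CrG : Subgroup G, CrG = c.Cr.map E.ι := ⟨_, rfl⟩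
  have hle : K.map f.X.subtype ≤ CrG := by
    rintro _ ⟨y, hy, rfl⟩
    obtain ⟨b, hb, e⟩ := hKC y hy
    rw [hCrG]
    exact ⟨b, hb, e.symm⟩
  have hcardCr : Nat.card CrG = rOf F := by
    rw [hCrG, Subgroup.card_map_of_injective E.inj, c.natCard_Cr]
  have hKr : Nat.card K ∣ rOf F := by
    rw [← hcardCr, ← Subgroup.card_map_of_injective f.X.subtype_injective]
    exact Subgroup.card_dvd_of_le hle
  have hidx : K.index ∣ Nat.factorial ((f.H hyp).subgroupOf f.X).index := by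
    rw [hK, Subgroup.normalCore_eq_ker, Subgroup.index_ker, Subgroup.index_eq_card]
    refine (Subgroup.card_subgroup_dvd_card _).trans ?_
    rw [Nat.card_perm]
  have hHidx : ((f.H hyp).subgroupOf f.X).index = 5 := by
    have h := ((f.H hyp).subgroupOf f.X).card_mul_index
    have hX : Nat.card f.X = rOf F * Nat.card f.J := f.natCard_X hyp
    rw [Nat.card_congr (Subgroup.subgroupOfEquivOfLe (f.H_le hyp)).toEquiv, f.natCard_H hyp, hX, h60,
      show rOf F * 60 = 12 * rOf F * 5 by ring] at h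
    exact Nat.eq_of_mul_eq_mul_left (by have := three_le_r hyp.mod8; omega) h
  rw [hHidx] at hidx
  obtain ⟨m, hm⟩ := hKr
  have hprod := K.card_mul_index
  have hX : Nat.card f.X = rOf F * Nat.card f.J := f.natCard_X hyp
  rw [hX, h60, hm, mul_assoc] at hprod
  have hi := Nat.eq_of_mul_eq_mul_left Nat.card_pos hprod
  rw [hi, show Nat.factorial 5 = 2 * 60 by decide, mul_comm 2] at hidx
  have hm2 : m ∣ 2 := Nat.dvd_of_mul_dvd_mul_right (show 0 < 60 by norm_num) (by rwa [mul_comm] at hidx ⊢)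
  have hm1 : m = 1 := by
    rcases (Nat.dvd_prime Nat.prime_two).1 hm2 with h | h
    · exact h
    · exfalso
      have := odd_r hyp.mod8
      rw [hm, h, Nat.odd_iff] at this
      omega
  have heq := Subgroup.eq_of_le_of_card_ge hle (by
    rw [hcardCr, Subgroup.card_map_of_injective f.X.subtype_injective, hm, hm1, mul_one])
  have haK : E.ι a ∈ K.map f.X.subtype := by rw [heq, hCrG]; exact ⟨a, ha, rfl⟩
  obtain ⟨y, hy, hya⟩ := haK
  obtain ⟨b, hb, e⟩ := hKC _ (hKn.conj_mem y hy ⟨x, hx⟩)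
  exact ⟨b, hb, by rw [← e, ← hya]; rfl⟩

/-- In the second case `J` centralises the torus part. -/
theorem J_comm_Cr (h60 : Nat.card f.J = 60) {x : G} (hx : x ∈ f.J) {a : PST} (ha : a ∈ c.Cr) :
    x * E.ι a = E.ι a * x := by
  classical
  obtain ⟨N, hN⟩ : ∃ N : Subgroup G,
      N = f.J ⊓ Subgroup.centralizer ((c.Cr.map E.ι : Subgroup G) : Set G) := ⟨_, rfl⟩
  have hmN : ∀ y, y ∈ N ↔ y ∈ f.J ∧ ∀ b ∈ c.Cr, E.ι b * y = y * E.ι b := fun y => by
    rw [hN, Subgroup.mem_inf, Subgroup.mem_centralizer_iff]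
    exact and_congr_right fun _ => ⟨fun h b hb => h _ ⟨b, hb, rfl⟩,
      fun h _ ⟨b, hb, e⟩ => e ▸ h b hb⟩
  have hnormal : ∀ y ∈ f.J, ∀ z ∈ N, y * z * y⁻¹ ∈ N := by
    intro y hy z hz
    refine (hmN _).2 ⟨mul_mem (mul_mem hy ((hmN z).1 hz).1) (inv_mem hy), fun b hb => ?_⟩
    obtain ⟨b', hb', e⟩ := f.conj_mem_Cr hyp h60 (inv_mem (f.mem_J.1 hy).1) hb
    rw [inv_inv] at e
    calc E.ι b * (y * z * y⁻¹) = y * ((y⁻¹ * E.ι b * y) * z) * y⁻¹ := by group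
      _ = y * (z * (y⁻¹ * E.ι b * y)) * y⁻¹ := by rw [e, ((hmN z).1 hz).2 b' hb']
      _ = _ := by group
  have hfour : ∀ e, c.IsFour e → e ∈ N := fun e he =>
    (hmN e).2 ⟨f.four_mem_J he, fun b hb => (c.four_comm_Cr he hb).symm⟩
  have ht4 : c.IsFour E.t := Or.inr (Or.inl rfl)
  obtain ⟨y₀, hy₀J, hy₀⟩ := f.exists_not_four hyp h60
  have hv : c.v ∈ N := by
    by_contra hv
    have h4 : Nat.card N = 4 := by
      refine card_eq_four N (hfour _ ht4) (hfour _ (Or.inr (Or.inr (Or.inl rfl)))) E.sq c.t₁_sq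
        E.t_ne_one c.t₁_ne_one c.t₁_ne_t.symm c.t₁_comm.symm ?_ ?_
      · intro y hy z hz hyz
        have hz1 : z ≠ 1 := by
          rcases hz with rfl | rfl | rfl
          exacts [E.t_ne_one, c.t₁_ne_one, c.t_mul_t₁_ne_one]
        exact f.J_inter_A hyp ((hmN y).1 hy).1 ((f.mem_A hyp).2
          (f.cent_four hyp (f.mem_J.1 ((hmN y).1 hy).1).1 (Or.inr hz) hz1 hyz))
      intro y hy h1 _
      have hyJ := ((hmN y).1 hy).1
      obtain ⟨z, hz, k, rfl⟩ := f.mem_H_of_conj hyp (f.mem_J.1 hyJ).1 h1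
      have hzJ : z ∈ f.J := by
        have := mul_mem hyJ (inv_mem (pow_mem f.v_mem_J k))
        rwa [mul_inv_cancel_right] at this
      have hz4 := f.J_inter_A hyp hzJ hz
      have hk : c.v ^ k ∈ N := by
        have := mul_mem (inv_mem (hfour z hz4)) hy
        rwa [inv_mul_cancel_left] at this
      rw [← pow_mod_orderOf c.v k, orderOf_eq_prime c.v3 c.v1] at hk ⊢
      rcases (show k % 3 = 0 ∨ k % 3 = 1 ∨ k % 3 = 2 by omega) with e | e | e <;> rw [e] at hk ⊢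
      · rw [pow_zero, mul_one]; exact hz4
      · exact absurd (by simpa using hk) hv
      · refine absurd ?_ hv
        have := inv_mem hk
        rwa [pow_two, ← c.v_inv, inv_inv] at this
    have hNeq : c.fourG = N := Subgroup.eq_of_le_of_card_ge (fun e he => hfour e he)
      (by rw [h4, c.natCard_fourG])
    have h1 : y₀ * E.t * y₀⁻¹ ∈ c.fourG := hNeq ▸ hnormal y₀ hy₀J _ (hfour _ ht4)
    exact hy₀ h1
  suffices hNJ : N = f.J from (((hmN x).1 (hNJ ▸ hx)).2 a ha).symm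
  have hNle : N ≤ f.J := hN ▸ inf_le_left
  refine Subgroup.eq_of_le_of_card_ge hNle ?_
  have h4N : 4 ∣ Nat.card N := c.natCard_fourG ▸ Subgroup.card_dvd_of_le (fun e he => hfour e he)
  have h3N : 3 ∣ Nat.card N := by
    have := orderOf_dvd_natCard (⟨c.v, hv⟩ : N)
    rwa [Subgroup.orderOf_mk, orderOf_eq_prime c.v3 c.v1] at this
  have hd := Subgroup.card_dvd_of_le hNle
  rw [h60] at hd ⊢
  obtain ⟨n, hn⟩ := (Nat.Coprime.mul_dvd_of_dvd_of_dvd (show Nat.Coprime 4 3 by norm_num) h4N h3N)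
  have hn5 : n ∣ 5 := Nat.dvd_of_mul_dvd_mul_left (show 0 < 12 by norm_num)
    (by rw [← hn]; exact hd)
  rcases (Nat.dvd_prime (by norm_num)).1 hn5 with rfl | rfl
  · exfalso
    have hNH : N ≤ f.H hyp := by
      let φ : c.fourG × Fin 3 → (N ⊓ f.H hyp : Subgroup G) := fun p => ⟨(p.1 : G) * c.v ^ (p.2 : ℕ),
        mul_mem (hfour _ p.1.2) (pow_mem hv _), ⟨_, f.four_mem_A hyp p.1.2, _, rfl⟩⟩
      have hφ : Function.Injective φ := by
        rintro ⟨z, i⟩ ⟨z', j⟩ h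
        have h' : (z : G) * c.v ^ (i : ℕ) = (z' : G) * c.v ^ (j : ℕ) := congrArg Subtype.val h
        have hij : i = j := Fin.ext (by
          have := f.coord_unique hyp (f.four_mem_A hyp z.2) (f.four_mem_A hyp z'.2) h'
          omega)
        subst hij
        rw [Subtype.ext (mul_right_cancel h')]
      have hc := Nat.card_le_card_of_injective φ hφ
      rw [Nat.card_prod, c.natCard_fourG, Nat.card_fin] at hc
      have heq : (N ⊓ f.H hyp : Subgroup G) = N := Subgroup.eq_of_le_of_card_ge inf_le_left (by omega)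
      exact fun y hy => (heq.ge hy).2
    refine hy₀ (f.J_inter_A hyp (mul_mem (mul_mem hy₀J (f.four_mem_J ht4)) (inv_mem hy₀J)) ?_)
    refine f.involution_mem_H hyp (hNH (hnormal y₀ hy₀J _ (hfour _ ht4))) ?_
    rw [show y₀ * E.t * y₀⁻¹ * (y₀ * E.t * y₀⁻¹) = y₀ * (E.t * E.t) * y₀⁻¹ by group, E.sq]
    group
  · omega

/-- In the second case `X` is the product of `C_r` and `J`. -/
theorem decomp60 (h60 : Nat.card f.J = 60) {x : G} (hx : x ∈ f.X) :
    ∃ a ∈ c.Cr, ∃ j ∈ f.J, x = E.ι a * j := by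
  let φ : c.Cr × f.J → f.X := fun p =>
    ⟨E.ι (p.1 : PST) * p.2, mul_mem (f.Cr_mem_X p.1.2) (f.mem_J.1 p.2.2).1⟩
  have hinj : Function.Injective φ := by
    rintro ⟨b, j⟩ ⟨b', j'⟩ h
    have h' : E.ι (b : PST) * j = E.ι (b' : PST) * j' := congrArg Subtype.val h
    have h1 : E.ι ((b' : PST)⁻¹ * b) = (j' : G) * (j : G)⁻¹ := by
      rw [map_mul, map_inv]
      calc (E.ι (b' : PST))⁻¹ * E.ι (b : PST) = (E.ι (b' : PST))⁻¹ * (E.ι (b : PST) * j) * (j : G)⁻¹ := by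
            group
        _ = _ := by rw [h']; group
    have hb : (b' : PST)⁻¹ * b ∈ c.Cr := mul_mem (inv_mem b'.2) b.2
    have h4 : c.IsFour (E.ι ((b' : PST)⁻¹ * b)) := f.J_inter_A hyp
      (h1 ▸ mul_mem j'.2 (inv_mem j.2)) ((f.mem_A hyp).2 ⟨1, Or.inl rfl, _, hb, by rw [one_mul]⟩)
    have h5 := c.eq_one_of_sq hyp hb (E.inj (by rw [map_mul, c.four_sq h4, map_one]))
    have hbb : b = b' := Subtype.ext (inv_mul_eq_one.1 h5).symm
    subst hbb
    rw [Subtype.ext (mul_left_cancel h')]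
  have hX : Nat.card f.X = rOf F * Nat.card f.J := f.natCard_X hyp
  obtain ⟨⟨b, j⟩, hbj⟩ := (Nat.bijective_iff_injective_and_card φ).2 ⟨hinj, by
    rw [Nat.card_prod, c.natCard_Cr, hX]⟩ |>.2 ⟨x, hx⟩
  have hxe : x = E.ι (b : PST) * j := (congrArg Subtype.val hbj).symm
  exact ⟨b, b.2, j, j.2, hxe⟩

/-- Elements of `C_r` fixed by the cycling element are central in `X`. -/
theorem X_comm {a : PST} (ha : a ∈ c.Cr) (hfix : c.v * E.ι a * c.v⁻¹ = E.ι a) {x : G} (hx : x ∈ f.X) :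
    x * E.ι a = E.ι a * x := by
  have hA : ∀ z ∈ f.A, z * E.ι a = E.ι a * z := fun z hz =>
    f.A_comm hyp hz ((f.mem_A hyp).2 ⟨1, Or.inl rfl, a, ha, by rw [one_mul]⟩)
  rcases f.card_J hyp with h12 | h60
  · rw [← f.H_eq hyp h12] at hx
    obtain ⟨z, hz, k, rfl⟩ := hx
    exact ((show Commute z (E.ι a) from hA z hz).mul_left
      ((show Commute c.v (E.ι a) from mul_inv_eq_iff_eq_mul.1 hfix).pow_left k)).eq
  · obtain ⟨b, hb, j, hj, rfl⟩ := f.decomp60 hyp h60 hx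
    have h1 : Commute (E.ι b) (E.ι a) := (show Commute b a from tor_comm c.htr hb.1 ha.1).map E.ι
    exact (h1.mul_left (f.J_comm_Cr hyp h60 hj ha)).eq

end Fix

end CfsgLib.JankoThompson
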