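import Cfsg.Agent.JankoThompson.FixStruct
import Mathlib

/-!
# The normaliser of a fixed torus element and the Sylow subgroups around it
-/

set_option autoImplicit false
set_option linter.unusedSectionVars false
set_option linter.style.haveILetI false

namespace CfsgLib.JankoThompson

open Matrix CfsgLib.ReeTypeS3
open scoped MatrixGroups

universe u v

variable {G : Type u} [Group G] [Fintype G] {F : Type v} [Field F] [Fintype F]

local notation "PST" => Matrix.ProjectiveSpecialLinearGroup (Fin 2) F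

variable {E : Emb G (Matrix.ProjectiveSpecialLinearGroup (Fin 2) F)}

/-- An element commuting with an involution, of odd prime order dividing `r`, is conjugate into `C_r`
by an element taking the involution to `t`. -/
theorem exists_to_Cr (hyp : Hyp E) (c : Cyc E) {s y : G} (hs : s ≠ 1) (hss : s * s = 1)
    (hys : y * s = s * y) {ℓ : ℕ} (hℓ : ℓ.Prime) (hℓr : ℓ ∣ rOf F) (ho : orderOf y = ℓ) :
    ∃ g : G, g * s * g⁻¹ = E.t ∧ ∃ a ∈ c.Cr, g * y * g⁻¹ = E.ι a ∧ orderOf a = ℓ := by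
  haveI : Fact ℓ.Prime := ⟨hℓ⟩
  have hodd : Odd ℓ := (odd_r hyp.mod8).of_dvd_nat hℓr
  obtain ⟨g, hg⟩ := exists_to_t hyp hs hss
  have hy : g * y * g⁻¹ * E.t = E.t * (g * y * g⁻¹) := by
    rw [← hg, show g * y * g⁻¹ * (g * s * g⁻¹) = g * (y * s) * g⁻¹ by group, hys]; group
  obtain ⟨l, hl, hlℓ⟩ := exists_ι_of_odd hyp hy hodd (by rw [conj_pow, ← ho, pow_orderOf_eq_one]; group)
  have h2 : ℓ ≠ 2 := fun e => by subst e; exact absurd hodd (by decide)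
  obtain ⟨k, hk⟩ := exists_conj_tor_r hyp.mod8 c.card_tor h2 hℓr (j := 1) (x := l) (by rwa [pow_one])
  have ha : k * l * k⁻¹ ∈ c.Cr := ⟨hk, by
    obtain ⟨m, hm⟩ := hℓr
    rw [conj_pow, hm, pow_mul, hlℓ, one_pow]; group⟩
  have he : E.ι k * g * y * (E.ι k * g)⁻¹ = E.ι (k * l * k⁻¹) := by
    rw [show E.ι k * g * y * (E.ι k * g)⁻¹ = E.ι k * (g * y * g⁻¹) * (E.ι k)⁻¹ by group, hl, map_mul,
      map_mul, map_inv]
  refine ⟨E.ι k * g, ?_, _, ha, he, ?_⟩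
  · rw [show E.ι k * g * s * (E.ι k * g)⁻¹ = E.ι k * (g * s * g⁻¹) * (E.ι k)⁻¹ by group, hg, ← E.comm,
      mul_inv_cancel_right]
  · rw [← orderOf_injective E.ι E.inj, ← he, ← ho]
    exact (MulAut.conj (E.ι k * g)).orderOf_eq _

namespace Fix

variable (hyp : Hyp E) {c : Cyc E} (f : Fix c)

theorem orderOf_ι_a₀ : orderOf (E.ι f.a₀) = f.p := by rw [orderOf_injective E.ι E.inj, f.ho]

include hyp

/-- An element of odd order normalising `⟨c⟩` centralises it. -/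
theorem mem_X_of_odd {x : G} {m : ℕ} (hm : Odd m) (hxm : x ^ m = 1)
    (h : x ∈ f.X ∨ c.d * x ∈ f.X) : x ∈ f.X := by
  rcases h with h | h
  · exact h
  have hd : c.d * E.ι f.a₀ * c.d⁻¹ = (E.ι f.a₀)⁻¹ := by rw [c.d_tor f.ha₀.1, map_inv]
  have h1 := mul_inv_eq_iff_eq_mul.2 (f.mem_X.1 h)
  have hx : x * E.ι f.a₀ * x⁻¹ = (E.ι f.a₀)⁻¹ := by
    rw [← hd]
    conv_rhs => rw [← h1]
    rw [c.d_inv]
    calc x * E.ι f.a₀ * x⁻¹ = (c.d * c.d) * (x * E.ι f.a₀ * x⁻¹) * (c.d * c.d)⁻¹ := by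
          rw [c.dd]; group
      _ = _ := by rw [_root_.mul_inv_rev, c.d_inv, _root_.mul_inv_rev, c.d_inv]; group
  have h2 : x * x ∈ f.X := by
    rw [f.mem_X, ← mul_inv_eq_iff_eq_mul, show x * x * E.ι f.a₀ * (x * x)⁻¹ =
      x * (x * E.ι f.a₀ * x⁻¹) * x⁻¹ by group, hx,
      show x * (E.ι f.a₀)⁻¹ * x⁻¹ = (x * E.ι f.a₀ * x⁻¹)⁻¹ by group, hx, inv_inv]
  obtain ⟨j, rfl⟩ := hm
  have : x = (x * x) ^ (j + 1) := by
    rw [← pow_two, ← pow_mul, show 2 * (j + 1) = 2 * j + 1 + 1 by ring, pow_succ, hxm, one_mul]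
  rw [this]
  exact pow_mem h2 _

/-- The normaliser of `⟨c⟩`. -/
theorem cases_norm {g : G} (hg : g * E.ι f.a₀ * g⁻¹ ∈ Subgroup.zpowers (E.ι f.a₀)) :
    g ∈ f.X ∨ c.d * g ∈ f.X := by
  obtain ⟨c', hc'⟩ : ∃ c', c' = g * E.ι f.a₀ * g⁻¹ := ⟨_, rfl⟩
  rw [← hc'] at hg
  have hgen : E.ι f.a₀ ∈ Subgroup.zpowers c' := by
    have heq : Subgroup.zpowers c' = Subgroup.zpowers (E.ι f.a₀) :=
      Subgroup.eq_of_le_of_card_ge (Subgroup.zpowers_le.2 hg) (by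
        rw [Nat.card_zpowers, Nat.card_zpowers]
        exact ((MulAut.conj g).orderOf_eq (E.ι f.a₀)).symm.le.trans_eq (by rw [hc']; rfl))
    rw [heq]; exact Subgroup.mem_zpowers _
  have htX : g * E.t * g⁻¹ ∈ f.X := by
    rw [f.mem_X]
    have hcomm : Commute (g * E.t * g⁻¹) c' := by
      rw [hc']
      exact (show Commute E.t (E.ι f.a₀) from E.comm _).map (MulAut.conj g).toMonoidHom
    obtain ⟨i, hi⟩ := hgen
    rw [← hi]
    exact (hcomm.zpow_right i).eq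
  obtain ⟨h, hh, hht⟩ := f.involution_conj hyp htX
    (fun e => E.t_ne_one (conj_eq_one_iff.1 e)) (by
      rw [show g * E.t * g⁻¹ * (g * E.t * g⁻¹) = g * (E.t * E.t) * g⁻¹ by group, E.sq]; group)
  have hk : (h⁻¹ * g) * E.t = E.t * (h⁻¹ * g) := by
    calc (h⁻¹ * g) * E.t = h⁻¹ * (g * E.t * g⁻¹) * g := by group
      _ = h⁻¹ * (h * E.t * h⁻¹) * g := by rw [hht]
      _ = _ := by group
  obtain ⟨l, hl⟩ := E.cent _ hk
  have hconj : (h⁻¹ * g) * E.ι f.a₀ * (h⁻¹ * g)⁻¹ = c' := by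
    have hc'X : Commute h c' := by
      obtain ⟨i, hi⟩ := hg
      rw [← hi]
      exact ((show Commute h (E.ι f.a₀) from f.mem_X.1 hh).zpow_right i)
    rw [show (h⁻¹ * g) * E.ι f.a₀ * (h⁻¹ * g)⁻¹ = h⁻¹ * (g * E.ι f.a₀ * g⁻¹) * h by group, ← hc',
      mul_assoc, ← hc'X.eq, inv_mul_cancel_left]
  obtain ⟨i, hi⟩ := hg
  have hla : l * f.a₀ * l⁻¹ = f.a₀ ^ i := E.inj (by rw [← E.conj_ι hl, hconj, map_zpow]; exact hi.symm)
  rcases torN_cases c.htr (mem_torN_of_conj c.htr f.ha₀.1 f.a₀_ne_one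
    (by rw [hla]; exact zpow_mem f.ha₀.1 i)) with hT | hT
  · left
    have : h⁻¹ * g ∈ f.X := by
      rw [f.mem_X, ← mul_inv_eq_iff_eq_mul, E.conj_ι hl, tor_comm c.htr hT f.ha₀.1, mul_inv_cancel_right]
    simpa using mul_mem hh this
  · right
    have h1 : c' = (E.ι f.a₀)⁻¹ := by rw [← hconj, E.conj_ι hl, hT _ f.ha₀.1, map_inv]
    rw [f.mem_X, ← mul_inv_eq_iff_eq_mul, show c.d * g * E.ι f.a₀ * (c.d * g)⁻¹ =
      c.d * (g * E.ι f.a₀ * g⁻¹) * c.d⁻¹ by group, ← hc', h1, ← map_inv, c.d_tor (inv_mem f.ha₀.1),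
      inv_inv]

/-- Elements of `p`-power order of `C_r` are fixed by the cycling element when `p ≠ 3`. -/
theorem fixed_p (hp3 : f.p ≠ 3) : ∀ (j : ℕ) {a : PST}, a ∈ c.Cr → a ^ f.p ^ j = 1 →
    c.v * E.ι a * c.v⁻¹ = E.ι a := by
  intro j
  induction j with
  | zero =>
    intro a _ h
    rw [pow_zero, pow_one] at h
    rw [h, map_one, mul_one, mul_inv_cancel]
  | succ j ih =>
    intro a ha h
    have hap := ih (pow_mem ha f.p) (by rw [← pow_mul, ← pow_succ']; exact h)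
    obtain ⟨a', ha', e⟩ := c.conj_Cr hyp ha
    obtain ⟨b, hb⟩ : ∃ b, b = a' * a⁻¹ := ⟨_, rfl⟩
    have hbC : b ∈ c.Cr := hb ▸ mul_mem ha' (inv_mem ha)
    have hbp : b ^ f.p = 1 := by
      rw [hb, (show Commute a' a⁻¹ from tor_comm c.htr ha'.1 (inv_mem ha.1)).mul_pow, inv_pow,
        mul_inv_eq_one]
      refine E.inj ?_
      rw [map_pow, ← e, conj_pow, ← map_pow]
      exact hap
    haveI := c.isCyclic_Cr
    obtain ⟨i, hi⟩ := mem_zpowers_of_cyclic f.ha₀ hbC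
      (by rw [f.ho]; exact orderOf_dvd_of_pow_eq_one hbp)
    have hbfix : c.v * E.ι b * c.v⁻¹ = E.ι b := by
      rw [← hi, map_zpow, ← conj_zpow, f.vfix]
    have e1 : c.v * E.ι a * c.v⁻¹ = E.ι b * E.ι a := by
      rw [e, hb, ← map_mul, inv_mul_cancel_right]
    have h3 : E.ι (b ^ 3) * E.ι a = E.ι a := by
      calc E.ι (b ^ 3) * E.ι a = E.ι b * (E.ι b * (E.ι b * E.ι a)) := by
            rw [map_pow, pow_succ, pow_two]; group
        _ = c.v * (c.v * (c.v * E.ι a * c.v⁻¹) * c.v⁻¹) * c.v⁻¹ := by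
            have key : ∀ x : G, c.v * (E.ι b * x) * c.v⁻¹ = E.ι b * (c.v * x * c.v⁻¹) := fun x => by
              calc c.v * (E.ι b * x) * c.v⁻¹ = (c.v * E.ι b * c.v⁻¹) * (c.v * x * c.v⁻¹) := by group
                _ = _ := by rw [hbfix]
            rw [e1, key, e1, key, key, e1]
        _ = c.v ^ 3 * E.ι a * (c.v ^ 3)⁻¹ := by
            simp only [pow_succ, pow_zero, one_mul, _root_.mul_inv_rev, mul_assoc]
        _ = E.ι a := by rw [c.v3]; group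
    have hb3 : b ^ 3 = 1 := E.inj ((mul_eq_right.1 h3).trans (map_one E.ι).symm)
    have hb1 : b = 1 := orderOf_eq_one_iff.1 (Nat.eq_one_of_dvd_coprimes
      ((Nat.coprime_primes f.hp Nat.prime_three).2 hp3) (orderOf_dvd_of_pow_eq_one hbp)
      (orderOf_dvd_of_pow_eq_one hb3))
    rw [e1, hb1, map_one, one_mul]

/-- The `p`-part of `C_r` is a Sylow subgroup of `G`. -/
theorem exists_sylow (hpJ : ¬ f.p ∣ Nat.card f.J) :
    ∃ P : Sylow f.p G, E.ι f.a₀ ∈ (P : Subgroup G) ∧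
      (∀ x ∈ (P : Subgroup G), ∃ a ∈ c.Cr, x = E.ι a ∧ ∃ j, a ^ f.p ^ j = 1) ∧
      c.d ∈ Subgroup.normalizer ((P : Subgroup G) : Set G) ∧
      ∀ x ∈ Subgroup.normalizer ((P : Subgroup G) : Set G),
        x * E.ι f.a₀ * x⁻¹ ∈ Subgroup.zpowers (E.ι f.a₀) := by
  classical
  haveI : Fact f.p.Prime := ⟨f.hp⟩
  haveI := c.isCyclic_Cr
  letI : CommGroup c.Cr := IsCyclic.commGroup
  obtain ⟨P₀⟩ : Nonempty (Sylow f.p c.Cr) := inferInstance
  haveI : Subsingleton (Sylow f.p c.Cr) := (Sylow.unique_of_normal P₀ inferInstance).instSubsingleton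
  obtain ⟨S₀, hS₀⟩ : ∃ S₀ : Subgroup G, S₀ = (P₀ : Subgroup c.Cr).map (E.ι.comp c.Cr.subtype) :=
    ⟨_, rfl⟩
  have hS₀mem : ∀ x, x ∈ S₀ ↔ ∃ a ∈ c.Cr, x = E.ι a ∧ ∃ j, a ^ f.p ^ j = 1 := by
    intro x
    rw [hS₀]
    constructor
    · rintro ⟨a, ha, rfl⟩
      obtain ⟨j, hj⟩ := P₀.2 ⟨a, ha⟩
      exact ⟨a, a.2, rfl, j, by
        have h := congrArg (fun z : (P₀ : Subgroup c.Cr) => ((z : c.Cr) : PST)) hj
        simpa using h⟩
    · rintro ⟨a, ha, rfl, j, hj⟩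
      have hp : IsPGroup f.p (Subgroup.zpowers (⟨a, ha⟩ : c.Cr)) := by
        obtain ⟨i, -, hi⟩ := (Nat.dvd_prime_pow f.hp).1 (orderOf_dvd_of_pow_eq_one hj)
        exact IsPGroup.of_card (n := i) (by rw [Nat.card_zpowers, Subgroup.orderOf_mk, hi])
      obtain ⟨Q, hQ⟩ := hp.exists_le_sylow
      exact ⟨⟨a, ha⟩, Subsingleton.elim Q P₀ ▸ hQ (Subgroup.mem_zpowers _), rfl⟩
  have hcS₀ : E.ι f.a₀ ∈ S₀ :=
    (hS₀mem _).2 ⟨_, f.ha₀, rfl, 1, by rw [pow_one, ← f.ho, pow_orderOf_eq_one]⟩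
  have hS₀X : S₀ ≤ f.X := fun x hx => by
    obtain ⟨a, ha, rfl, -⟩ := (hS₀mem x).1 hx
    exact f.Cr_mem_X ha
  have hline : ∀ x : G, (∀ z ∈ S₀, x * z * x⁻¹ ∈ S₀) →
      x * E.ι f.a₀ * x⁻¹ ∈ Subgroup.zpowers (E.ι f.a₀) := by
    intro x hx
    obtain ⟨a, ha, e, -⟩ := (hS₀mem _).1 (hx _ hcS₀)
    obtain ⟨i, hi⟩ := mem_zpowers_of_cyclic f.ha₀ ha (by
      rw [← orderOf_injective E.ι E.inj a, ← e, ← orderOf_injective E.ι E.inj f.a₀]
      exact ((MulAut.conj x).orderOf_eq _).dvd)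
    exact ⟨i, by rw [e, ← hi, map_zpow]⟩
  obtain ⟨P, hP⟩ := (hS₀ ▸ P₀.2.map _ : IsPGroup f.p S₀).exists_le_sylow
  have hPeq : (P : Subgroup G) = S₀ := by
    refine le_antisymm ?_ hP
    by_contra hnot
    haveI : Group.IsNilpotent (P : Subgroup G) := P.2.isNilpotent
    have hlt : S₀.subgroupOf (P : Subgroup G) < ⊤ := by
      rw [lt_top_iff_ne_top, Ne, Subgroup.subgroupOf_eq_top]
      exact hnot
    obtain ⟨⟨x, hxP⟩, hxN, hxS⟩ :=
      SetLike.exists_of_lt (Group.normalizerCondition_of_isNilpotent _ hlt)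
    have hxconj : ∀ z ∈ S₀, x * z * x⁻¹ ∈ S₀ := fun z hz =>
      (Subgroup.mem_normalizer_iff.1 hxN ⟨z, hP hz⟩).1 hz
    obtain ⟨j, hj⟩ := P.2 ⟨x, hxP⟩
    have hpodd : Odd f.p := (odd_r hyp.mod8).of_dvd_nat f.p_dvd
    have hxX := f.mem_X_of_odd hyp (m := f.p ^ j) hpodd.pow (congrArg Subtype.val hj)
      (f.cases_norm hyp (hline x hxconj))
    obtain ⟨U, hU⟩ : ∃ U : Subgroup G, U = (P : Subgroup G) ⊓ f.X := ⟨_, rfl⟩
    have hSU : S₀ ≤ U := hU ▸ le_inf hP hS₀X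
    obtain ⟨i, hi⟩ := (P.2.to_le (hU ▸ inf_le_left : U ≤ P)).exists_card_eq
    have hdvd : f.p ^ i ∣ rOf F := by
      have h1 := Subgroup.card_dvd_of_le (hU ▸ inf_le_right : U ≤ f.X)
      have hX : Nat.card f.X = rOf F * Nat.card f.J := f.natCard_X hyp
      rw [hi, hX] at h1
      exact ((f.hp.coprime_iff_not_dvd.2 hpJ).pow_left i).dvd_of_dvd_mul_right h1
    have hle : Nat.card U ≤ Nat.card S₀ := by
      rw [hi, hS₀, Subgroup.card_map_of_injective (f := E.ι.comp c.Cr.subtype) (E.inj.comp c.Cr.subtype_injective)]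
      exact Nat.le_of_dvd Nat.card_pos (P₀.pow_dvd_card_of_pow_dvd_card (by rwa [c.natCard_Cr]))
    have := Subgroup.eq_of_le_of_card_ge hSU hle
    exact hxS (Subgroup.mem_subgroupOf.2 (this ▸ hU ▸ ⟨hxP, hxX⟩ : x ∈ S₀))
  refine ⟨P, hPeq ▸ hcS₀, fun x hx => (hS₀mem x).1 (hPeq ▸ hx), ?_, fun x hx => hline x ?_⟩
  · rw [hPeq, Subgroup.mem_normalizer_iff]
    intro z
    have key : ∀ z ∈ S₀, c.d * z * c.d⁻¹ ∈ S₀ := by
      intro z hz
      obtain ⟨a, ha, rfl, j, hj⟩ := (hS₀mem z).1 hz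
      exact (hS₀mem _).2 ⟨a⁻¹, inv_mem ha, c.d_tor ha.1, j, by rw [inv_pow, hj, inv_one]⟩
    refine ⟨key z, fun h => ?_⟩
    have := key _ h
    rwa [show c.d * (c.d * z * c.d⁻¹) * c.d⁻¹ = (c.d * c.d) * z * (c.d * c.d)⁻¹ by group, c.dd,
      one_mul, inv_one, mul_one] at this
  · intro z hz
    exact hPeq ▸ (Subgroup.mem_normalizer_iff.1 hx z).1 (hPeq ▸ hz)

theorem mem_zpowers_of_X {ℓ : ℕ} [Fact ℓ.Prime] {x s : G}
    (hxX : x ∈ f.X) (hsX : s ∈ f.X) (hxs : x * s = s * x) (hs : orderOf s = ℓ) (hℓr : ¬ ℓ ∣ rOf F)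
    {j : ℕ} (hx : x ^ ℓ ^ j = 1) (hJ : ¬ ℓ ^ 2 ∣ Nat.card f.J) : x ∈ Subgroup.zpowers s := by
  have hℓ : ℓ.Prime := Fact.out
  let φ : Subgroup.zpowers s × Subgroup.zpowers x →* f.X :=
    MonoidHom.noncommCoprod (Subgroup.inclusion (Subgroup.zpowers_le.2 hsX))
      (Subgroup.inclusion (Subgroup.zpowers_le.2 hxX)) (by
        rintro ⟨a, i, rfl⟩ ⟨b, k, rfl⟩
        exact Subtype.ext (((show Commute s x from hxs.symm).zpow_zpow i k)).eq)
  obtain ⟨i, -, hi⟩ := (Nat.dvd_prime_pow hℓ).1 (orderOf_dvd_of_pow_eq_one hx)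
  have hp : IsPGroup ℓ (Subgroup.zpowers s × Subgroup.zpowers x) := IsPGroup.of_card (n := i + 1) (by
    rw [Nat.card_prod, Nat.card_zpowers, Nat.card_zpowers, hs, hi, pow_succ, mul_comm])
  obtain ⟨k, hk⟩ := (show IsPGroup ℓ φ.range from hp.of_surjective φ.rangeRestrict
    φ.rangeRestrict_surjective).exists_card_eq
  have hdvd : ℓ ^ k ∣ Nat.card f.J := by
    have hX : Nat.card f.X = rOf F * Nat.card f.J := f.natCard_X hyp
    have h1 := φ.range.card_subgroup_dvd_card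
    rw [hk, hX] at h1
    exact ((hℓ.coprime_iff_not_dvd.2 hℓr).pow_left k).dvd_of_dvd_mul_left h1
  have hk1 : k ≤ 1 := by
    by_contra h
    exact hJ ((pow_dvd_pow ℓ (by omega : 2 ≤ k)).trans hdvd)
  obtain ⟨S, hS⟩ : ∃ S : Subgroup f.X, S = Subgroup.zpowers ⟨s, hsX⟩ := ⟨_, rfl⟩
  have hle : S ≤ φ.range := by
    rw [hS, Subgroup.zpowers_le]
    exact ⟨(⟨s, Subgroup.mem_zpowers s⟩, 1), Subtype.ext (by simp [φ])⟩
  have heq := Subgroup.eq_of_le_of_card_ge hle (by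
    rw [hk, hS, Nat.card_zpowers, Subgroup.orderOf_mk, hs]
    exact (Nat.pow_le_pow_right hℓ.pos hk1).trans_eq (pow_one ℓ))
  have hxm : (⟨x, hxX⟩ : f.X) ∈ S := by
    rw [heq]
    exact ⟨(1, ⟨x, Subgroup.mem_zpowers x⟩), Subtype.ext (by simp [φ])⟩
  rw [hS] at hxm
  obtain ⟨m, hm⟩ := hxm
  exact ⟨m, by simpa using congrArg Subtype.val hm⟩

end Fix

end CfsgLib.JankoThompson
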