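import Cfsg.Agent.JankoThompson.Fpf
import Mathlib

/-!
# Subgroups with a self-centralising four-group which is its own normaliser
-/

set_option autoImplicit false
set_option linter.unusedSectionVars false
set_option linter.style.haveILetI false

namespace CfsgLib.JankoThompson

universe w

variable {G : Type w} [Group G]

/-- Membership in the four-group on `e` and `f`. -/
def InFour (e f x : G) : Prop := x = 1 ∨ x = e ∨ x = f ∨ x = e * f

theorem inFour_mul {e f x y : G} (he : e * e = 1) (hf : f * f = 1) (hef : e * f = f * e)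
    (hx : InFour e f x) (hy : InFour e f y) : InFour e f (x * y) := by
  have h1 : e * (e * f) = f := by rw [← mul_assoc, he, one_mul]
  have h2 : f * (e * f) = e := by rw [hef, ← mul_assoc, hf, one_mul]
  have h3 : e * f * e = f := by rw [mul_assoc, ← hef, h1]
  have h4 : e * f * f = e := by rw [mul_assoc, hf, mul_one]
  have h5 : e * f * (e * f) = 1 := by rw [← mul_assoc, h3, hf]
  unfold InFour
  rcases hx with rfl | rfl | rfl | rfl <;> rcases hy with rfl | rfl | rfl | rfl <;>
    simp [he, hf, hef.symm, h1, h2, h3, h4, h5]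

theorem inFour_sq {e f x : G} (he : e * e = 1) (hf : f * f = 1) (hef : e * f = f * e)
    (hx : InFour e f x) : x * x = 1 := by
  rcases hx with rfl | rfl | rfl | rfl
  · exact one_mul 1
  · exact he
  · exact hf
  · rw [mul_assoc, ← mul_assoc f, ← hef, mul_assoc e f f, hf, mul_one, he]

/-- A group with a four-group that is self-centralising and self-normalising is that four-group. -/
theorem card_eq_four [Finite G] (H : Subgroup G) {e f : G} (heH : e ∈ H) (hfH : f ∈ H)
    (he : e * e = 1) (hf : f * f = 1) (he1 : e ≠ 1) (hf1 : f ≠ 1) (hne : e ≠ f)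
    (hef : e * f = f * e)
    (hcent : ∀ x ∈ H, ∀ z, z = e ∨ z = f ∨ z = e * f → x * z = z * x → InFour e f x)
    (hnorm : ∀ x ∈ H, InFour e f (x * e * x⁻¹) → InFour e f (x * f * x⁻¹) → InFour e f x) :
    Nat.card H = 4 := by
  classical
  haveI : Fact (Nat.Prime 2) := ⟨Nat.prime_two⟩
  let V : Subgroup G :=
    { carrier := {x | InFour e f x}
      one_mem' := Or.inl rfl
      mul_mem' := inFour_mul he hf hef
      inv_mem' := fun {x} hx => by
        show InFour e f x⁻¹
        rw [inv_eq_of_mul_eq_one_right (inFour_sq he hf hef hx)]; exact hx }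
  have hVH : V ≤ H := by
    rintro x (rfl | rfl | rfl | rfl)
    exacts [one_mem H, heH, hfH, mul_mem heH hfH]
  have hV4 : Nat.card V = 4 := by
    have hs : (V : Set G) = ↑({1, e, f, e * f} : Finset G) := by
      ext x
      simp [V, InFour]
    show Nat.card (V : Set G) = 4
    have hp : e * f ≠ 1 := fun h => hne (by
      rw [mul_eq_one_iff_eq_inv, inv_eq_of_mul_eq_one_right hf] at h; exact h)
    have hpe : e * f ≠ e := fun h => hf1 (mul_eq_left.1 h)
    have hpf : e * f ≠ f := fun h => he1 (mul_eq_right.1 h)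
    rw [Nat.card_coe_set_eq, hs, Set.ncard_coe_finset,
      Finset.card_insert_of_notMem (by simp [he1.symm, hf1.symm, hp.symm]),
      Finset.card_insert_of_notMem (by simp [hne, hpe.symm]),
      Finset.card_insert_of_notMem (by simp [hpf.symm]), Finset.card_singleton]
  obtain ⟨T0, hT0⟩ : ∃ T0 : Subgroup H, T0 = V.subgroupOf H := ⟨_, rfl⟩
  have hmem : ∀ x : H, x ∈ T0 ↔ InFour e f (x : G) := fun x => by
    rw [hT0, Subgroup.mem_subgroupOf]; rfl
  have hT4 : Nat.card T0 = 4 := by
    rw [hT0, Nat.card_congr (Subgroup.subgroupOfEquivOfLe hVH).toEquiv, hV4]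
  obtain ⟨T, hT⟩ := (IsPGroup.of_card (p := 2) (n := 2) (G := T0) (by rw [hT4]; norm_num)).exists_le_sylow
  have hnormT : ∀ x : H, x ∈ Subgroup.normalizer (T0 : Set H) → x ∈ T0 := by
    intro x hx
    refine (hmem x).2 (hnorm x x.2 ?_ ?_)
    · exact (hmem _).1 ((Subgroup.mem_normalizer_iff.1 hx ⟨e, heH⟩).1 ((hmem _).2 (Or.inr (Or.inl rfl))))
    · exact (hmem _).1 ((Subgroup.mem_normalizer_iff.1 hx ⟨f, hfH⟩).1
        ((hmem _).2 (Or.inr (Or.inr (Or.inl rfl)))))
  have hTeq : (T : Subgroup H) = T0 := by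
    refine le_antisymm ?_ hT
    by_contra hnot
    haveI : Group.IsNilpotent (T : Subgroup H) := T.2.isNilpotent
    have hlt : T0.subgroupOf (T : Subgroup H) < ⊤ := by
      rw [lt_top_iff_ne_top, Ne, Subgroup.subgroupOf_eq_top]
      exact hnot
    obtain ⟨⟨x, hxT⟩, hxN, hxT0⟩ :=
      SetLike.exists_of_lt (Group.normalizerCondition_of_isNilpotent _ hlt)
    refine hxT0 (Subgroup.mem_subgroupOf.2 (hnormT x ?_))
    rw [Subgroup.mem_normalizer_iff]
    intro z
    constructor
    · intro hz
      exact (Subgroup.mem_normalizer_iff.1 hxN ⟨z, hT hz⟩).1 hz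
    · intro hz
      have hzT : z ∈ (T : Subgroup H) := by
        have := mul_mem (mul_mem (inv_mem hxT) (hT hz)) hxT
        simpa [mul_assoc] using this
      exact (Subgroup.mem_normalizer_iff.1 hxN ⟨z, hzT⟩).2 hz
  have hN : Subgroup.normalizer ((T : Subgroup H) : Set H) ≤
      Subgroup.centralizer ((T : Subgroup H) : Set H) := by
    intro x hx
    rw [hTeq] at hx ⊢
    have hx4 := (hmem x).1 (hnormT x hx)
    rw [Subgroup.mem_centralizer_iff]
    intro y hy
    have hy4 := (hmem y).1 hy
    refine Subtype.ext ?_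
    show (y : G) * x = x * y
    have h1 := inFour_sq he hf hef (inFour_mul he hf hef hy4 hx4)
    rw [mul_eq_one_iff_eq_inv, mul_inv_rev, inv_eq_of_mul_eq_one_right (inFour_sq he hf hef hx4),
      inv_eq_of_mul_eq_one_right (inFour_sq he hf hef hy4)] at h1
    exact h1
  obtain ⟨O, hO⟩ : ∃ O : Subgroup H, O = (MonoidHom.transferSylow T hN).ker := ⟨_, rfl⟩
  haveI : O.Normal := hO ▸ inferInstance
  have hc : O.IsComplement' (T : Subgroup H) := hO ▸ MonoidHom.ker_transferSylow_isComplement' T hN
  have hodd : Odd (Nat.card (O.map H.subtype)) := by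
    rw [Subgroup.card_map_of_injective H.subtype_injective, ← Nat.not_even_iff_odd, even_iff_two_dvd, hO]
    exact MonoidHom.not_dvd_card_ker_transferSylow T hN
  have hconj : ∀ z, z ∈ H → z * z = 1 → ∀ x ∈ O.map H.subtype, z * x * z ∈ O.map H.subtype := by
    rintro z hz hzz _ ⟨x, hx, rfl⟩
    refine ⟨⟨z, hz⟩ * x * ⟨z, hz⟩⁻¹, Subgroup.Normal.conj_mem inferInstance x hx _, ?_⟩
    show z * (x : G) * z⁻¹ = _
    rw [inv_eq_of_mul_eq_one_right hzz]; rfl
  have hbot : ∀ z, z = e ∨ z = f ∨ z = e * f → ∀ x ∈ O.map H.subtype, x * z = z * x →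
      x ∈ (⊥ : Subgroup G) := by
    intro z hz x hx hxz
    rw [Subgroup.mem_bot]
    have h4 := hcent x (Subgroup.map_subtype_le _ hx) z hz hxz
    exact congrArg Subtype.val (sq_eq_one_imp hodd (x := (⟨x, hx⟩ : (O.map H.subtype : Subgroup G)))
      (Subtype.ext (inFour_sq he hf hef h4)))
  have hle := le_of_four _ hodd he hf hef (hconj e heH he) (hconj f hfH hf) ⊥
    (hbot e (Or.inl rfl)) (hbot f (Or.inr (Or.inl rfl))) (hbot _ (Or.inr (Or.inr rfl)))
    (fun x hx => by rw [Subgroup.mem_bot.1 hx]; simp)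
  have hO1 : Nat.card O = 1 := by
    rw [← Subgroup.card_map_of_injective H.subtype_injective, le_bot_iff.1 hle, Subgroup.card_bot]
  rw [← hc.card_mul_card, hO1, one_mul, hTeq, hT4]

end CfsgLib.JankoThompson
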