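import Cfsg.Agent.FgsSix.InvolutionAction
import Mathlib

/-!
# Coprime actions of dihedral and four-groups

The fixed points of an involution in a fixed-point-free dihedral action, four-groups acting on
groups of odd order, and invariant Sylow subgroups in groups with a self-centralising behaviour at
an involution.
-/

set_option autoImplicit false
set_option linter.unusedSectionVars false
set_option linter.style.haveILetI false

namespace CfsgLib.JankoThompson

universe w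

theorem sq_eq_one_imp {R : Type*} [Group R] [Finite R] (hodd : Odd (Nat.card R)) {x : R}
    (hx : x * x = 1) : x = 1 := by
  obtain ⟨j, hj⟩ := hodd.of_dvd_nat (orderOf_dvd_natCard x)
  have := pow_orderOf_eq_one x
  rwa [hj, pow_succ, pow_mul, pow_two, hx, one_pow, one_mul] at this

/-- In an abelian group of odd order with a fixed-point-free `σ` inverted by the involutory `τ`,
`τ` fixes the square root of the number of elements. -/
theorem card_fpf_comm {R : Type*} [CommGroup R] [Finite R] (hodd : Odd (Nat.card R))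
    (σ τ : MulAut R) (hτ : ∀ x, τ (τ x) = x) (hστ : ∀ x, τ (σ x) = σ.symm (τ x))
    (hfix : ∀ x, σ (σ x) = x → x = 1) :
    Nat.card R = Nat.card {x : R // τ x = x} * Nat.card {x : R // τ x = x} := by
  classical
  haveI := Fintype.ofFinite R
  have hsq : Function.Bijective fun x : R => x * x := Finite.injective_iff_bijective.1 fun x y h => by
    have h' : x * y⁻¹ * (x * y⁻¹) = 1 := by
      rw [mul_mul_mul_comm, ← mul_inv_rev, show x * x = y * y from h, mul_inv_cancel]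
    exact mul_inv_eq_one.1 (sq_eq_one_imp hodd h')
  have hστ' : ∀ x, τ (σ.symm x) = σ (τ x) := fun x => by
    apply τ.injective
    rw [hτ, hστ, hτ]
  let φ : {x : R // τ x = x} × {x : R // τ x = x⁻¹} → R := fun p => p.1.1 * p.2.1
  have hb : Function.Bijective φ := by
    constructor
    · rintro ⟨⟨a, ha⟩, ⟨b, hb⟩⟩ ⟨⟨a', ha'⟩, ⟨b', hb'⟩⟩ h
      have h1 : a * b = a' * b' := h
      have h2 : a * b⁻¹ = a' * b'⁻¹ := by
        have := congrArg τ h1
        rwa [map_mul, map_mul, ha, hb, ha', hb'] at this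
      have h3 : b * b = b' * b' := by
        have := congrArg₂ (fun x y => x * y⁻¹) h1 h2
        simpa [mul_comm, mul_assoc, mul_left_comm] using this
      have h4 : b = b' := hsq.1 h3
      subst h4
      simp [mul_right_cancel h1]
    · intro x
      obtain ⟨i, hi⟩ := hsq.2 (x * (τ x)⁻¹)
      have hi' : τ i = i⁻¹ := hsq.1 (show τ i * τ i = i⁻¹ * i⁻¹ by
        rw [← map_mul, show i * i = x * (τ x)⁻¹ from hi, map_mul, map_inv, hτ,
          ← mul_inv_rev, show i * i = x * (τ x)⁻¹ from hi, mul_inv_rev, inv_inv, mul_comm])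
      refine ⟨(⟨x * i⁻¹, ?_⟩, ⟨i, hi'⟩), inv_mul_cancel_right x i⟩
      rw [map_mul, map_inv, hi', inv_inv, eq_mul_inv_iff_mul_eq, mul_assoc,
        show i * i = x * (τ x)⁻¹ from hi, mul_comm x, mul_inv_cancel_left]
  have hfix' : ∀ a b : R, σ a * (σ.symm a)⁻¹ = σ b * (σ.symm b)⁻¹ → a = b := by
    intro a b h
    have h1 : σ (a * b⁻¹) = σ.symm (a * b⁻¹) := by
      rw [map_mul, map_mul, map_inv, map_inv]
      calc σ a * (σ b)⁻¹ = σ a * (σ.symm a)⁻¹ * σ.symm a * (σ b)⁻¹ := by group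
        _ = σ b * (σ.symm b)⁻¹ * σ.symm a * (σ b)⁻¹ := by rw [h]
        _ = σ.symm a * (σ.symm b)⁻¹ := by
          rw [mul_comm (σ b) (σ.symm b)⁻¹, mul_right_comm (σ.symm b)⁻¹ (σ b),
            mul_inv_cancel_right, mul_comm]
    refine mul_inv_eq_one.1 (hfix _ ?_)
    conv_lhs => rw [h1]
    exact σ.apply_symm_apply _
  let f : {x : R // τ x = x} → {x : R // τ x = x⁻¹} := fun a =>
    ⟨σ a.1 * (σ.symm a.1)⁻¹, by rw [map_mul, map_inv, hστ, hστ', a.2, mul_inv_rev, inv_inv]⟩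
  let g : {x : R // τ x = x⁻¹} → {x : R // τ x = x} := fun a =>
    ⟨σ a.1 * (σ.symm a.1)⁻¹, by
      rw [map_mul, map_inv, hστ, hστ', a.2, map_inv, map_inv, inv_inv, mul_comm]⟩
  have hf : Function.Injective f := fun a b h => Subtype.ext (hfix' _ _ (congrArg Subtype.val h))
  have hg : Function.Injective g := fun a b h => Subtype.ext (hfix' _ _ (congrArg Subtype.val h))
  rw [← Nat.card_eq_of_bijective φ hb, Nat.card_prod,
    le_antisymm (Nat.card_le_card_of_injective g hg) (Nat.card_le_card_of_injective f hf)]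

/-- The restriction of an automorphism to an invariant subgroup. -/
noncomputable def restrAut {R : Type*} [Group R] [Finite R] (σ : MulAut R) (Z : Subgroup R)
    (hZ : ∀ x ∈ Z, σ x ∈ Z) : MulAut Z :=
  MulEquiv.ofBijective ((σ.toMonoidHom.comp Z.subtype).codRestrict Z fun x => hZ x x.2)
    (Finite.injective_iff_bijective.1 fun _ _ h =>
      Subtype.ext (σ.injective (congrArg Subtype.val h)))

theorem coe_restrAut {R : Type*} [Group R] [Finite R] (σ : MulAut R) (Z : Subgroup R)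
    (hZ : ∀ x ∈ Z, σ x ∈ Z) (x : Z) : ((restrAut σ Z hZ x : Z) : R) = σ (x : R) := rfl

/-- The automorphism induced on a quotient. -/
noncomputable def quoAut {R : Type*} [Group R] [Finite R] (σ : MulAut R) (Z : Subgroup R)
    [Z.Normal] (hZ : ∀ x ∈ Z, σ x ∈ Z) : MulAut (R ⧸ Z) :=
  MulEquiv.ofBijective (QuotientGroup.map Z Z σ.toMonoidHom fun x hx => hZ x hx)
    (Finite.surjective_iff_bijective.1 fun y => by
      obtain ⟨y, rfl⟩ := QuotientGroup.mk_surjective y
      obtain ⟨x, rfl⟩ := σ.surjective y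
      exact ⟨x, rfl⟩)

theorem quoAut_mk {R : Type*} [Group R] [Finite R] (σ : MulAut R) (Z : Subgroup R)
    [Z.Normal] (hZ : ∀ x ∈ Z, σ x ∈ Z) (x : R) :
    quoAut σ Z hZ (QuotientGroup.mk x) = QuotientGroup.mk (σ x) := rfl

/-- A coset invariant under an automorphism of coprime prime order contains a fixed point. -/
theorem exists_fixed_lift_coprime {R : Type*} [Group R] [Finite R] {p : ℕ} [hp : Fact p.Prime]
    (σ : MulAut R) (hσ : σ ^ p = 1) (hcop : ¬ p ∣ Nat.card R) (Z : Subgroup R) [Z.Normal]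
    (hZ : ∀ x ∈ Z, σ x ∈ Z) {x : R} (hx : (QuotientGroup.mk (σ x) : R ⧸ Z) = QuotientGroup.mk x) :
    ∃ y : R, (QuotientGroup.mk y : R ⧸ Z) = QuotientGroup.mk x ∧ σ y = y := by
  classical
  haveI := Fintype.ofFinite R
  have hmem : ∀ y : R, (QuotientGroup.mk y : R ⧸ Z) = QuotientGroup.mk x →
      (QuotientGroup.mk (σ y) : R ⧸ Z) = QuotientGroup.mk x := fun y hy => by
    rw [← hx, ← quoAut_mk σ Z hZ, ← quoAut_mk σ Z hZ, hy]
  let π : Equiv.Perm {y : R // (QuotientGroup.mk y : R ⧸ Z) = QuotientGroup.mk x} :=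
    Equiv.ofBijective (fun y => ⟨σ y.1, hmem _ y.2⟩) (Finite.injective_iff_bijective.1
      fun a b h => Subtype.ext (σ.injective (congrArg Subtype.val h)))
  have hpow : ∀ (k : ℕ) (y), ((π ^ k) y).1 = (σ ^ k) y.1 := by
    intro k
    induction k with
    | zero => intro y; simp
    | succ k ih =>
      intro y
      rw [pow_succ', pow_succ', Equiv.Perm.mul_apply, MulAut.mul_apply, ← ih]
      rfl
  have hcard : ¬ p ∣ Fintype.card {y : R // (QuotientGroup.mk y : R ⧸ Z) = QuotientGroup.mk x} := by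
    intro hd
    have e : Nat.card {y : R // (QuotientGroup.mk y : R ⧸ Z) = QuotientGroup.mk x} = Nat.card Z :=
      Nat.card_congr
        { toFun := fun y => ⟨x⁻¹ * y.1, QuotientGroup.eq.1 y.2.symm⟩
          invFun := fun z => ⟨x * z.1, (QuotientGroup.eq.2 (by simp)).symm⟩
          left_inv := fun y => Subtype.ext (mul_inv_cancel_left x y.1)
          right_inv := fun z => Subtype.ext (inv_mul_cancel_left x z.1) }
    rw [← Nat.card_eq_fintype_card, e] at hd
    exact hcop (hd.trans Z.card_subgroup_dvd_card)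
  obtain ⟨y, hy⟩ := Equiv.Perm.exists_fixed_point_of_prime (p := p) (n := 1) hcard (σ := π)
    (Equiv.ext fun y => Subtype.ext (by rw [pow_one, hpow, hσ]; rfl))
  exact ⟨y.1, y.2, congrArg Subtype.val hy⟩

theorem card_fpf_aux : ∀ (n : ℕ) (R : Type w) [Group R] [Finite R], Nat.card R = n →
    ∀ {ℓ p : ℕ} [Fact ℓ.Prime] [Fact p.Prime], IsPGroup ℓ R → ℓ ≠ 2 → ℓ ≠ p → p ≠ 2 →
    ∀ (σ τ : MulAut R), σ ^ p = 1 → (∀ x, τ (τ x) = x) → (∀ x, τ (σ x) = σ.symm (τ x)) →
      (∀ x, σ x = x → x = 1) →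
      Nat.card R = Nat.card {x : R // τ x = x} * Nat.card {x : R // τ x = x} := by
  intro n
  induction n using Nat.strong_induction_on with
  | _ n ih =>
    intro R _ _ hn ℓ p hℓ hp hR hℓ2 hℓp hp2 σ τ hσ hτ hστ hfix
    classical
    obtain ⟨a, ha⟩ := hR.exists_card_eq
    have hodd : Odd (Nat.card R) := ha ▸ (hℓ.out.odd_of_ne_two hℓ2).pow
    have hcop : ¬ p ∣ Nat.card R := fun hd =>
      hℓp ((Nat.prime_dvd_prime_iff_eq hp.out hℓ.out).1 (hp.out.dvd_of_dvd_pow (ha ▸ hd))).symm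
    have hfix2 : ∀ x, σ (σ x) = x → x = 1 := by
      intro x hx
      refine hfix x ?_
      obtain ⟨j, hj⟩ := hp.out.odd_of_ne_two hp2
      have h2 : ∀ k : ℕ, (σ ^ (2 * k)) x = x := by
        intro k
        induction k with
        | zero => simp
        | succ k ihk =>
          rw [show 2 * (k + 1) = 2 + 2 * k by ring, pow_add, MulAut.mul_apply, ihk, pow_two,
            MulAut.mul_apply, hx]
      have h3 : (σ ^ p) x = x := by rw [hσ]; rfl
      rwa [hj, pow_succ', MulAut.mul_apply, h2] at h3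
    rcases subsingleton_or_nontrivial R with hs | hnt
    · have : Nat.card {x : R // τ x = x} = 1 :=
        Nat.card_eq_one_iff_unique.2 ⟨inferInstance, ⟨⟨1, map_one τ⟩⟩⟩
      rw [this, Nat.card_eq_one_iff_unique.2 ⟨hs, ⟨1⟩⟩]
    by_cases hab : Subgroup.center R = ⊤
    · letI : CommGroup R :=
        { (inferInstance : Group R) with
          mul_comm := fun x y => Subgroup.mem_center_iff.1 (hab ▸ Subgroup.mem_top y) x }
      exact card_fpf_comm hodd σ τ hτ hστ hfix2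
    set Z := Subgroup.center R with hZdef
    have hZs : ∀ φ : MulAut R, ∀ x ∈ Z, φ x ∈ Z := by
      intro φ x hx
      rw [hZdef, Subgroup.mem_center_iff]
      intro y
      obtain ⟨y, rfl⟩ := φ.surjective y
      rw [← map_mul, ← map_mul, Subgroup.mem_center_iff.1 hx]
    haveI := hR.center_nontrivial
    have hmul := Z.card_eq_card_quotient_mul_card_subgroup
    have hZ2 : 2 ≤ Nat.card Z := Finite.one_lt_card
    have hQ2 : 2 ≤ Nat.card (R ⧸ Z) := by
      rw [← Subgroup.index_eq_card]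
      have := Subgroup.index_ne_zero_of_finite (H := Z)
      have : Z.index ≠ 1 := fun h => hab (Subgroup.index_eq_one.1 h)
      omega
    have hlt1 : Nat.card Z < n := by rw [← hn, hmul]; nlinarith
    have hlt2 : Nat.card (R ⧸ Z) < n := by rw [← hn, hmul]; nlinarith
    have hpowZ : ∀ (φ : MulAut R) (k : ℕ) (x : Z),
        (((restrAut φ Z (hZs φ)) ^ k) x : R) = (φ ^ k) (x : R) := by
      intro φ k
      induction k with
      | zero => intro x; simp
      | succ k ihk =>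
        intro x
        rw [pow_succ', pow_succ', MulAut.mul_apply, MulAut.mul_apply, coe_restrAut, ihk]
    have hpowQ : ∀ (φ : MulAut R) (k : ℕ) (x : R),
        ((quoAut φ Z (hZs φ)) ^ k) (QuotientGroup.mk x) = QuotientGroup.mk ((φ ^ k) x) := by
      intro φ k
      induction k with
      | zero => intro x; simp
      | succ k ihk =>
        intro x
        rw [pow_succ', pow_succ', MulAut.mul_apply, MulAut.mul_apply, ihk, quoAut_mk]
    have e1 := ih _ hlt1 Z rfl (hR.to_subgroup Z) hℓ2 hℓp hp2 (restrAut σ Z (hZs σ))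
      (restrAut τ Z (hZs τ))
      (MulEquiv.ext fun x => Subtype.ext (by rw [hpowZ, hσ]; rfl))
      (fun x => Subtype.ext (by rw [coe_restrAut, coe_restrAut, hτ]))
      (fun x => by
        apply (restrAut σ Z (hZs σ)).injective
        rw [MulEquiv.apply_symm_apply]
        refine Subtype.ext ?_
        rw [coe_restrAut, coe_restrAut, coe_restrAut, coe_restrAut, hστ, MulEquiv.apply_symm_apply])
      (fun x h => Subtype.ext (hfix _ (congrArg Subtype.val h)))
    have e2 := ih _ hlt2 (R ⧸ Z) rfl (hR.to_quotient Z) hℓ2 hℓp hp2 (quoAut σ Z (hZs σ))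
      (quoAut τ Z (hZs τ))
      (MulEquiv.ext fun y => by
        obtain ⟨x, rfl⟩ := QuotientGroup.mk_surjective y
        rw [hpowQ, hσ]; rfl)
      (fun y => by
        obtain ⟨x, rfl⟩ := QuotientGroup.mk_surjective y
        rw [quoAut_mk, quoAut_mk, hτ])
      (fun y => by
        obtain ⟨x, rfl⟩ := QuotientGroup.mk_surjective y
        apply (quoAut σ Z (hZs σ)).injective
        rw [MulEquiv.apply_symm_apply, quoAut_mk, quoAut_mk, quoAut_mk, quoAut_mk, hστ,
          MulEquiv.apply_symm_apply])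
      (fun y h => by
        obtain ⟨x, rfl⟩ := QuotientGroup.mk_surjective y
        rw [quoAut_mk] at h
        obtain ⟨z, hz, hzf⟩ := exists_fixed_lift_coprime σ hσ hcop Z (hZs σ) h
        rw [← hz, hfix z hzf]; rfl)
    let F : Subgroup R :=
      { carrier := {x | τ x = x}
        one_mem' := map_one τ
        mul_mem' := fun {a b} ha hb => show τ (a * b) = a * b by
          rw [map_mul, show τ a = a from ha, show τ b = b from hb]
        inv_mem' := fun {a} ha => show τ a⁻¹ = a⁻¹ by rw [map_inv, show τ a = a from ha] }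
    let f : F →* R ⧸ Z := (QuotientGroup.mk' Z).comp F.subtype
    haveI : Fact (Nat.Prime 2) := ⟨Nat.prime_two⟩
    have hτ2 : τ ^ 2 = 1 := MulEquiv.ext fun x => by rw [pow_two, MulAut.mul_apply, hτ]; rfl
    have hker : Nat.card f.ker = Nat.card {x : Z // restrAut τ Z (hZs τ) x = x} :=
      Nat.card_congr
        { toFun := fun x => ⟨⟨x.1.1, (QuotientGroup.eq_one_iff _).1 x.2⟩, Subtype.ext x.1.2⟩
          invFun := fun z => ⟨⟨z.1.1, congrArg Subtype.val z.2⟩, (QuotientGroup.eq_one_iff _).2 z.1.2⟩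
          left_inv := fun _ => rfl
          right_inv := fun _ => rfl }
    have hrange : Nat.card f.range = Nat.card {y : R ⧸ Z // quoAut τ Z (hZs τ) y = y} :=
      Nat.card_congr (Equiv.subtypeEquivRight fun y => by
        constructor
        · rintro ⟨x, rfl⟩
          show quoAut τ Z (hZs τ) (QuotientGroup.mk x.1) = QuotientGroup.mk x.1
          rw [quoAut_mk, show τ x.1 = x.1 from x.2]
        · intro hy
          obtain ⟨x, rfl⟩ := QuotientGroup.mk_surjective y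
          rw [quoAut_mk] at hy
          obtain ⟨z, hz, hzf⟩ := exists_fixed_lift_coprime τ hτ2
            (fun hd => (Nat.not_even_iff_odd.2 hodd) (even_iff_two_dvd.2 hd)) Z (hZs τ) hy
          exact ⟨⟨z, hzf⟩, hz⟩)
    have hF : Nat.card {x : R // τ x = x} =
        Nat.card {y : R ⧸ Z // quoAut τ Z (hZs τ) y = y} *
          Nat.card {x : Z // restrAut τ Z (hZs τ) x = x} := by
      rw [← hker, ← hrange, ← Subgroup.index_ker, mul_comm, Subgroup.card_mul_index]
      rfl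
    rw [hmul, e1, e2, hF]
    ring

/-- Fixed points in a fixed-point-free dihedral action on a group of odd prime power order. -/
theorem card_fpf {R : Type w} [Group R] [Finite R] {ℓ p : ℕ} [Fact ℓ.Prime] [Fact p.Prime]
    (hR : IsPGroup ℓ R) (hℓ : ℓ ≠ 2) (hℓp : ℓ ≠ p) (hp : p ≠ 2) (σ τ : MulAut R) (hσ : σ ^ p = 1)
    (hτ : ∀ x, τ (τ x) = x) (hστ : ∀ x, τ (σ x) = σ.symm (τ x)) (hfix : ∀ x, σ x = x → x = 1) :
    Nat.card R = Nat.card {x : R // τ x = x} * Nat.card {x : R // τ x = x} :=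
  card_fpf_aux _ R rfl hR hℓ hℓp hp σ τ hσ hτ hστ hfix

/-- A fixed-point-free automorphism of order `p` forces `|R| ≡ 1 (mod p)`. -/
theorem card_mod_of_fpf {R : Type*} [Group R] [Finite R] {p : ℕ} [hp : Fact p.Prime]
    (σ : MulAut R) (hσ : σ ^ p = 1) (hfix : ∀ x, σ x = x → x = 1) :
    Nat.card R ≡ 1 [MOD p] := by
  have hP : IsPGroup p (Subgroup.zpowers σ) := by
    obtain ⟨i, -, hi⟩ := (Nat.dvd_prime_pow hp.out).1
      (show orderOf σ ∣ p ^ 1 by rw [pow_one]; exact orderOf_dvd_of_pow_eq_one hσ)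
    exact IsPGroup.of_card (n := i) (by rw [Nat.card_zpowers, hi])
  have h := hP.card_modEq_card_fixedPoints R
  have h1 : Nat.card (MulAction.fixedPoints (Subgroup.zpowers σ) R) = 1 := by
    rw [Nat.card_eq_one_iff_unique]
    refine ⟨⟨fun a b => Subtype.ext ?_⟩, ⟨⟨1, fun g => map_one (g : MulAut R)⟩⟩⟩
    have ha : σ a.1 = a.1 := a.2 ⟨σ, Subgroup.mem_zpowers σ⟩
    have hb : σ b.1 = b.1 := b.2 ⟨σ, Subgroup.mem_zpowers σ⟩
    rw [hfix _ ha, hfix _ hb]
  rwa [h1] at h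

variable {G : Type w} [Group G]

/-- A subgroup of odd order normalised by a four-group lies in `C` if every centraliser of a
nontrivial element of the four-group in it does and the four-group centralises `C`. -/
theorem le_of_four [Finite G] (K : Subgroup G) (hK : Odd (Nat.card K)) {e f : G} (he : e * e = 1)
    (hf : f * f = 1) (hef : e * f = f * e) (hKe : ∀ x ∈ K, e * x * e ∈ K)
    (hKf : ∀ x ∈ K, f * x * f ∈ K) (C : Subgroup G)
    (hCe : ∀ x ∈ K, x * e = e * x → x ∈ C) (hCf : ∀ x ∈ K, x * f = f * x → x ∈ C)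
    (hCef : ∀ x ∈ K, x * (e * f) = e * f * x → x ∈ C)
    (hC : ∀ x ∈ C, x * e = e * x ∧ x * f = f * x) : K ≤ C := by
  have he' : e⁻¹ = e := inv_eq_of_mul_eq_one_right he
  have hf' : f⁻¹ = f := inv_eq_of_mul_eq_one_right hf
  have hone : ∀ x ∈ K, x * x = 1 → x = 1 := fun x hx h => congrArg Subtype.val
    (sq_eq_one_imp hK (x := (⟨x, hx⟩ : K)) (Subtype.ext h))
  have key : ∀ x ∈ K, e * x * e = x⁻¹ → x = 1 := by
    intro x hx hex
    obtain ⟨w, hw⟩ : ∃ w, w = x⁻¹ * (f * x * f) := ⟨_, rfl⟩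
    have hwK : w ∈ K := hw ▸ K.mul_mem (K.inv_mem hx) (hKf x hx)
    obtain ⟨j, hj⟩ : Odd (orderOf w) := by
      have := hK.of_dvd_nat (orderOf_dvd_natCard (⟨w, hwK⟩ : K))
      rwa [Subgroup.orderOf_mk] at this
    obtain ⟨s, hs⟩ : ∃ s, s = w ^ (j + 1) := ⟨_, rfl⟩
    have hss : s * s = w := by
      rw [hs, ← pow_add, show j + 1 + (j + 1) = orderOf w + 1 by omega, pow_succ, pow_orderOf_eq_one,
        one_mul]
    have hfw : f * w * f⁻¹ = w⁻¹ := by
      rw [hw, hf']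
      calc f * (x⁻¹ * (f * x * f)) * f = f * x⁻¹ * f * x * (f * f) := by group
        _ = (x⁻¹ * (f * x * f))⁻¹ := by
          rw [hf, mul_one, mul_inv_rev, mul_inv_rev, mul_inv_rev, hf', inv_inv]; simp only [mul_assoc]
    have hew : e * w * e⁻¹ = x * w⁻¹ * x⁻¹ := by
      rw [hw, he', mul_inv_rev, mul_inv_rev, mul_inv_rev, hf', inv_inv]
      calc e * (x⁻¹ * (f * x * f)) * e = (e * x * e)⁻¹ * (e * f) * x * (f * e) := by
            simp only [mul_inv_rev, he', mul_assoc]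
            rw [← mul_assoc e e, he, one_mul]
        _ = x * (f * (e * x * e) * f) := by
          rw [hex, inv_inv, mul_assoc x, mul_assoc x,
            show e * f * x * (f * e) = f * e * x * (e * f) by rw [hef], ← hex]
          group
        _ = _ := by rw [hex]; group
    have hfs : f * s * f⁻¹ = s⁻¹ := by rw [hs, ← conj_pow, hfw, inv_pow]
    have hes : e * s * e⁻¹ = x * s⁻¹ * x⁻¹ := by rw [hs, ← conj_pow, hew, conj_pow, inv_pow]
    obtain ⟨c, hc⟩ : ∃ c, c = x * s := ⟨_, rfl⟩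
    have hcK : c ∈ K := hc ▸ K.mul_mem hx (hs ▸ K.pow_mem hwK _)
    have hfc : f * c * f⁻¹ = c := by
      rw [hc, show f * (x * s) * f⁻¹ = f * x * f⁻¹ * (f * s * f⁻¹) by group, hfs, hf',
        show f * x * f = x * (x⁻¹ * (f * x * f)) by group, ← hw, ← hss]
      group
    have hcC := hCf c hcK (mul_inv_eq_iff_eq_mul.1 hfc).symm
    have hec : e * c * e⁻¹ = c := by rw [← (hC c hcC).1, mul_inv_cancel_right]
    have hec' : e * c * e⁻¹ = c⁻¹ := by
      rw [hc, show e * (x * s) * e⁻¹ = e * x * e⁻¹ * (e * s * e⁻¹) by group, hes, he', hex]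
      group
    have hc1 : c = 1 := hone c hcK (by
      nth_rewrite 1 [hec.symm.trans hec']
      exact inv_mul_cancel c)
    have hsx : s = x⁻¹ := eq_inv_of_mul_eq_one_right (hc.symm.trans hc1)
    rw [hsx, inv_inv] at hfs
    have hfx : f * x * f⁻¹ = x⁻¹ := by
      calc f * x * f⁻¹ = (f * x⁻¹ * f⁻¹)⁻¹ := by group
        _ = x⁻¹ := by rw [hfs]
    have hx' : x ∈ C := hCef x hx (by
      refine (mul_inv_eq_iff_eq_mul.1 ?_).symm
      rw [mul_inv_rev, show e * f * x * (f⁻¹ * e⁻¹) = e * (f * x * f⁻¹) * e⁻¹ by group, hfx, he',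
        show e * x⁻¹ * e = (e * x * e)⁻¹ by rw [mul_inv_rev, mul_inv_rev, he', mul_assoc], hex,
        inv_inv])
    refine hone x hx ?_
    rw [← (hC x hx').1, mul_assoc, he, mul_one] at hex
    nth_rewrite 1 [hex]
    exact inv_mul_cancel x
  intro x hx
  have h1 := key (x⁻¹ * (e * x * e)) (K.mul_mem (K.inv_mem hx) (hKe x hx)) (by
    rw [mul_inv_rev, mul_inv_rev, mul_inv_rev, he', inv_inv]
    calc e * (x⁻¹ * (e * x * e)) * e = e * x⁻¹ * e * x * (e * e) := by group
      _ = _ := by rw [he, mul_one]; simp only [mul_assoc])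
  refine hCe x hx ?_
  have h2 : x = e * x * e := inv_mul_eq_one.1 h1
  nth_rewrite 1 [h2]
  rw [mul_assoc, he, mul_one]

/-- An invariant `ℓ`-subgroup lies in an invariant Sylow subgroup. -/
theorem exists_fixed_sylow_ge [Finite G] (O : Subgroup G) (hO : Odd (Nat.card O)) (ℓ : ℕ)
    [hℓ : Fact ℓ.Prime] {y : G} (hy : y ^ 2 = 1) (hyO : y ∈ Subgroup.normalizer (O : Set G))
    {A : Subgroup G} (hAO : A ≤ O) (hA : IsPGroup ℓ A)
    (hyA : y ∈ Subgroup.normalizer (A : Set G)) :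
    ∃ S : Sylow ℓ O, A ≤ (S : Subgroup O).map O.subtype ∧
      y ∈ Subgroup.normalizer ((((S : Subgroup O).map O.subtype : Subgroup G)) : Set G) := by
  obtain ⟨T, hAT, hT⟩ := Finite.exists_le_maximal (p := fun T : Subgroup G => A ≤ T ∧ T ≤ O ∧
    IsPGroup ℓ T ∧ y ∈ Subgroup.normalizer (T : Set G)) ⟨le_rfl, hAO, hA, hyA⟩
  obtain ⟨⟨-, hTO, hTp, hyT⟩, hmax⟩ := hT
  obtain ⟨N, hN⟩ : ∃ N : Subgroup G, N = O ⊓ Subgroup.normalizer (T : Set G) := ⟨_, rfl⟩
  have hTN : T ≤ N := hN ▸ le_inf hTO Subgroup.le_normalizer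
  have hNle : N ≤ Subgroup.normalizer (T : Set G) := hN ▸ inf_le_right
  have hNO : N ≤ O := hN ▸ inf_le_left
  have hyN : y ∈ Subgroup.normalizer (N : Set G) := by
    rw [hN, Subgroup.mem_normalizer_iff]
    intro x
    rw [Subgroup.mem_inf, Subgroup.mem_inf, ← Subgroup.mem_normalizer_iff.1 hyO x]
    refine and_congr_right fun _ => ?_
    rw [Subgroup.mul_mem_cancel_right _ ((Subgroup.normalizer (T : Set G)).inv_mem hyT),
      Subgroup.mul_mem_cancel_left _ hyT]
  obtain ⟨S₀, hS₀⟩ := FgsSix.exists_fixed_sylow N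
    (hO.of_dvd_nat (Subgroup.card_dvd_of_le hNO)) ℓ hy hyN
  obtain ⟨S₀', hS₀'⟩ : ∃ S' : Subgroup G, S' = (S₀ : Subgroup N).map N.subtype := ⟨_, rfl⟩
  rw [← hS₀'] at hS₀
  have hS₀le : S₀' ≤ N := hS₀' ▸ Subgroup.map_subtype_le _
  have hTS : T ≤ S₀' := by
    haveI : (T.subgroupOf N).Normal := ⟨fun z hz g => (Subgroup.mem_normalizer_iff.1 (hNle g.2) _).1 hz⟩
    intro x hx
    have hp' : IsPGroup ℓ (T.subgroupOf N ⊔ (S₀ : Subgroup N) : Subgroup N) :=
      IsPGroup.to_sup_of_normal_left (hTp.comap_subtype) S₀.2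
    have hmem : (⟨x, hTN hx⟩ : N) ∈ T.subgroupOf N ⊔ (S₀ : Subgroup N) :=
      Subgroup.mem_sup_left (Subgroup.mem_subgroupOf.2 hx)
    rw [S₀.3 hp' le_sup_right] at hmem
    exact hS₀' ▸ ⟨_, hmem, rfl⟩
  have hST : S₀' = T := le_antisymm (hmax ⟨hAT.trans hTS, hS₀le.trans hNO,
    hS₀' ▸ S₀.2.map _, hS₀⟩ hTS) hTS
  obtain ⟨S, hS⟩ := (hTp.comap_subtype (K := O)).exists_le_sylow
  have hSTO : (S : Subgroup O) = T.subgroupOf O := by
    refine le_antisymm ?_ hS
    by_contra hne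
    haveI : Group.IsNilpotent (S : Subgroup O) := S.2.isNilpotent
    have hlt : (T.subgroupOf O).subgroupOf (S : Subgroup O) < ⊤ := by
      rw [lt_top_iff_ne_top, Ne, Subgroup.subgroupOf_eq_top]
      exact hne
    obtain ⟨⟨⟨x, hxO⟩, hxS⟩, hxN, hxT⟩ :=
      SetLike.exists_of_lt (Group.normalizerCondition_of_isNilpotent _ hlt)
    have hfwd : ∀ z : (S : Subgroup O), ((z : O) : G) ∈ T ↔ x * ((z : O) : G) * x⁻¹ ∈ T := fun z =>
      Subgroup.mem_normalizer_iff.1 hxN z
    have hxnorm : x ∈ Subgroup.normalizer (T : Set G) := by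
      rw [Subgroup.mem_normalizer_iff]
      intro z
      constructor
      · intro hz
        exact (hfwd ⟨⟨z, hTO hz⟩, hS hz⟩).1 hz
      · intro hz
        have hzO : z ∈ O := by
          have := O.mul_mem (O.mul_mem (O.inv_mem hxO) (hTO hz)) hxO
          simpa [mul_assoc] using this
        have hzS : (⟨z, hzO⟩ : O) ∈ (S : Subgroup O) := by
          have h' : (⟨x, hxO⟩ : O)⁻¹ * ⟨x * z * x⁻¹, hTO hz⟩ * ⟨x, hxO⟩ ∈ (S : Subgroup O) :=
            mul_mem (mul_mem (inv_mem hxS) (hS hz)) hxS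
          rwa [show (⟨x, hxO⟩ : O)⁻¹ * ⟨x * z * x⁻¹, hTO hz⟩ * ⟨x, hxO⟩ = ⟨z, hzO⟩ from
            Subtype.ext (by simp [mul_assoc])] at h'
        exact (hfwd ⟨⟨z, hzO⟩, hzS⟩).2 hz
    -- a larger `ℓ`-subgroup of the normaliser contradicts that `S₀` is a Sylow subgroup of it
    have hxN' : x ∈ N := by rw [hN]; exact ⟨hxO, hxnorm⟩
    obtain ⟨W, hW⟩ : ∃ W : Subgroup G, W = (S : Subgroup O).map O.subtype ⊓ N := ⟨_, rfl⟩
    have hWp : IsPGroup ℓ (W.subgroupOf N) := by
      rw [hW]; exact ((S.2.map O.subtype).to_le inf_le_left).comap_subtype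
    have hS₀W : (S₀ : Subgroup N) ≤ W.subgroupOf N := by
      intro z hz
      have hzT : (z : G) ∈ T := hST ▸ hS₀' ▸ ⟨z, hz, rfl⟩
      rw [Subgroup.mem_subgroupOf, hW]
      exact ⟨⟨⟨z, hTO hzT⟩, hS hzT, rfl⟩, z.2⟩
    have hxW : (⟨x, hxN'⟩ : N) ∈ W.subgroupOf N := by
      rw [Subgroup.mem_subgroupOf, hW]
      exact ⟨⟨⟨x, hxO⟩, hxS, rfl⟩, hxN'⟩
    rw [S₀.3 hWp hS₀W] at hxW
    exact hxT (Subgroup.mem_subgroupOf.2 (Subgroup.mem_subgroupOf.2 (hST ▸ hS₀' ▸ ⟨_, hxW, rfl⟩)))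
  refine ⟨S, ?_⟩
  rw [hSTO, Subgroup.subgroupOf_map_subtype, inf_of_le_left hTO]
  exact ⟨hAT, hyT⟩

/-! ### Groups with a Sylow 2-subgroup of order two -/

theorem exists_index_two [Finite G] (h : ∀ T : Sylow 2 G, Nat.card (T : Subgroup G) = 2) :
    ∃ O : Subgroup G, O.Normal ∧ O.index = 2 ∧ Odd (Nat.card O) := by
  haveI : Fact (Nat.Prime 2) := ⟨Nat.prime_two⟩
  obtain ⟨P⟩ : Nonempty (Sylow 2 G) := inferInstance
  have hcyc : IsCyclic P := isCyclic_of_prime_card (p := 2) (h P)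
  have hmin : (Nat.card G).minFac = 2 := by
    rw [Nat.minFac_eq_two_iff]
    exact h P ▸ Subgroup.card_subgroup_dvd_card _
  have hc := IsCyclic.isComplement' hmin hcyc
  refine ⟨_, inferInstance, by rw [hc.symm.index_eq_card, h P], ?_⟩
  rw [← Nat.not_even_iff_odd, even_iff_two_dvd]
  exact MonoidHom.not_dvd_card_ker_transferSylow _ _

/-- Involutions of a subgroup are conjugate in it when a normal subgroup of index two is odd. -/
theorem exists_conj_involution [Finite G] {O : Subgroup G} (hO2 : O.index = 2)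
    (hodd : Odd (Nat.card O)) (H : Subgroup G) {a b : G} (ha : a ∈ H) (hb : b ∈ H)
    (haa : a * a = 1) (hbb : b * b = 1) (ha1 : a ≠ 1) (hb1 : b ≠ 1) :
    ∃ z ∈ H, z * a * z⁻¹ = b := by
  haveI : Fact (Nat.Prime 2) := ⟨Nat.prime_two⟩
  have hG : ¬ 4 ∣ Nat.card G := by
    intro h4
    rw [← O.card_mul_index, hO2] at h4
    have := Nat.odd_iff.1 hodd
    omega
  have ho : ∀ x : G, x * x = 1 → x ≠ 1 → orderOf x = 2 := fun x hx hx1 =>
    orderOf_eq_prime ((pow_two x).trans hx) hx1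
  have hsyl : ∀ T : Sylow 2 H, Nat.card (T : Subgroup H) ≤ 2 := by
    intro T
    obtain ⟨k, hk⟩ := T.2.exists_card_eq
    rw [hk]
    rcases (show k ≤ 1 ∨ 2 ≤ k by omega) with hk1 | hk2
    · exact (Nat.pow_le_pow_right two_pos hk1).trans (by norm_num)
    · exact absurd (((pow_dvd_pow 2 hk2).trans (hk ▸ Subgroup.card_subgroup_dvd_card _)).trans
        (Subgroup.card_subgroup_dvd_card H)) hG
  have hz : ∀ (x : G) (hx : x ∈ H), x * x = 1 → x ≠ 1 → ∃ T : Sylow 2 H,
      (T : Subgroup H) = Subgroup.zpowers ⟨x, hx⟩ := by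
    intro x hx hxx hx1
    have hp : IsPGroup 2 (Subgroup.zpowers (⟨x, hx⟩ : H)) := IsPGroup.of_card (n := 1) (by
      rw [Nat.card_zpowers, Subgroup.orderOf_mk, ho x hxx hx1, pow_one])
    obtain ⟨T, hT⟩ := hp.exists_le_sylow
    refine ⟨T, (Subgroup.eq_of_le_of_card_ge hT ?_).symm⟩
    rw [Nat.card_zpowers, Subgroup.orderOf_mk, ho x hxx hx1]
    exact hsyl T
  obtain ⟨A, hA⟩ := hz a ha haa ha1
  obtain ⟨B, hB⟩ := hz b hb hbb hb1
  obtain ⟨z, hzz⟩ := MulAction.exists_smul_eq H A B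
  have hm : z * ⟨a, ha⟩ * z⁻¹ ∈ (B : Subgroup H) := by
    rw [← hzz, Sylow.coe_subgroup_smul]
    exact Subgroup.smul_mem_pointwise_smul _ (MulAut.conj z) _ (hA ▸ Subgroup.mem_zpowers _)
  rw [hB, Subgroup.mem_zpowers_iff] at hm
  obtain ⟨k, hk⟩ := hm
  refine ⟨z, z.2, ?_⟩
  have hk' : b ^ k = (z : G) * a * (z : G)⁻¹ := congrArg Subtype.val hk
  rcases Int.even_or_odd k with ⟨i, rfl⟩ | ⟨i, rfl⟩
  · exfalso
    refine ha1 (conj_eq_one_iff.1 (hk'.symm.trans ?_))
    rw [← two_mul, zpow_mul, zpow_ofNat, pow_two, hbb, one_zpow]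
  · rw [← hk', zpow_add, zpow_mul, zpow_ofNat, pow_two, hbb, one_zpow, one_mul, zpow_one]

theorem smul_sylow_eq_iff {r : ℕ} {g : G} {P : Sylow r G} :
    g • P = P ↔ g ∈ Subgroup.normalizer ((P : Subgroup G) : Set G) :=
  Sylow.smul_eq_iff_mem_normalizer

/-- A Sylow `ℓ`-subgroup invariant under a Sylow `p`-subgroup and the involution, containing the
`ℓ`-elements commuting with the involution. -/
theorem exists_invariant_sylow [Finite G] {O : Subgroup G} [O.Normal] (hO2 : O.index = 2)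
    (hodd : Odd (Nat.card O)) {ℓ p : ℕ} [hℓ : Fact ℓ.Prime] [hp : Fact p.Prime] (hℓ2 : ℓ ≠ 2)
    (hp2 : p ≠ 2) (hℓp : ℓ ≠ p) (P : Sylow p G)
    (hNC : ∀ x ∈ O, x ∈ Subgroup.normalizer ((P : Subgroup G) : Set G) →
      ∀ z ∈ (P : Subgroup G), x * z = z * x)
    {d : G} (hdd : d * d = 1) (hd1 : d ≠ 1)
    (hdP : d ∈ Subgroup.normalizer ((P : Subgroup G) : Set G))
    (hab : ∀ x y : G, x * d = d * x → y * d = d * y → x * y = y * x) :
    ∃ R : Sylow ℓ G, (P : Subgroup G) ≤ Subgroup.normalizer ((R : Subgroup G) : Set G) ∧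
      d ∈ Subgroup.normalizer ((R : Subgroup G) : Set G) ∧
      ∀ (x : G) (j : ℕ), x * d = d * x → x ^ ℓ ^ j = 1 → x ∈ (R : Subgroup G) := by
  haveI : Fact (Nat.Prime 2) := ⟨Nat.prime_two⟩
  have hPO : ∀ {r : ℕ} [Fact r.Prime], r ≠ 2 → ∀ S : Subgroup G, IsPGroup r S → S ≤ O := by
    intro r _ hr S hS x hx
    obtain ⟨k, hk⟩ := hS ⟨x, hx⟩
    have hk' : x ^ r ^ k = 1 := congrArg Subtype.val hk
    obtain ⟨j, hj⟩ := ((Fact.out : r.Prime).odd_of_ne_two hr).pow (n := k)
    by_contra hxO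
    have h2 : x * x ∈ O := (Subgroup.mul_mem_iff_of_index_two hO2).2 Iff.rfl
    have : x ^ (2 * j + 1) ∉ O := by
      rw [pow_succ, pow_mul, pow_two]
      exact fun hh => hxO ((Subgroup.mul_mem_cancel_left _ (O.pow_mem h2 j)).1 hh)
    exact this (hj ▸ hk' ▸ O.one_mem)
  have hPle : (P : Subgroup G) ≤ O := hPO hp2 _ P.2
  -- the complement of `P` in `O`
  let P' : Sylow p O := P.subtype hPle
  have hN : Subgroup.normalizer ((P' : Subgroup O) : Set O) ≤
      Subgroup.centralizer ((P' : Subgroup O) : Set O) := by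
    intro x hx
    rw [Subgroup.mem_centralizer_iff]
    intro z hz
    refine Subtype.ext (hNC x x.2 ?_ z hz).symm
    rw [Subgroup.mem_normalizer_iff]
    intro w
    constructor
    · intro hw
      exact (Subgroup.mem_normalizer_iff.1 hx ⟨w, hPle hw⟩).1 hw
    · intro hw
      have hwO : w ∈ O := by
        have := O.mul_mem (O.mul_mem (O.inv_mem x.2) (hPle hw)) x.2
        simpa [mul_assoc] using this
      exact (Subgroup.mem_normalizer_iff.1 hx ⟨w, hwO⟩).2 hw
  obtain ⟨O₁, hO₁⟩ : ∃ O₁ : Subgroup O, O₁ = (MonoidHom.transferSylow P' hN).ker := ⟨_, rfl⟩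
  haveI : O₁.Normal := hO₁ ▸ inferInstance
  have hc : O₁.IsComplement' (P' : Subgroup O) := hO₁ ▸ MonoidHom.ker_transferSylow_isComplement' P' hN
  obtain ⟨R₀⟩ : Nonempty (Sylow ℓ O₁) := inferInstance
  obtain ⟨R₀', hR₀'⟩ : ∃ R : Subgroup G, R = ((R₀ : Subgroup O₁).map O₁.subtype).map O.subtype :=
    ⟨_, rfl⟩
  obtain ⟨b, hb⟩ := P.2.exists_card_eq
  have hcardG : Nat.card G = Nat.card O₁ * p ^ b * 2 := by
    rw [← O.card_mul_index, hO2, ← hc.card_mul_card,
      show Nat.card (P' : Subgroup O) = Nat.card (P : Subgroup G) from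
        Nat.card_congr (Subgroup.subgroupOfEquivOfLe hPle).toEquiv, hb]
  have hR₀card : Nat.card R₀' = ℓ ^ (Nat.card G).factorization ℓ := by
    rw [hR₀', Subgroup.card_map_of_injective O.subtype_injective,
      Subgroup.card_map_of_injective O₁.subtype_injective, R₀.card_eq_multiplicity, hcardG]
    congr 1
    rw [Nat.factorization_mul (mul_ne_zero Nat.card_pos.ne' (pow_ne_zero _ hp.out.ne_zero)) two_ne_zero, Nat.factorization_mul Nat.card_pos.ne'
      (pow_ne_zero _ hp.out.ne_zero), Finsupp.add_apply, Finsupp.add_apply,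
      hp.out.factorization_pow, Finsupp.single_apply, if_neg (Ne.symm hℓp),
      Nat.prime_two.factorization, Finsupp.single_apply, if_neg (Ne.symm hℓ2), add_zero, add_zero]
  let R₁ : Sylow ℓ G := Sylow.ofCard R₀' hR₀card
  -- its normaliser contains a Sylow `p`-subgroup
  obtain ⟨N₀, hN₀⟩ : ∃ N₀ : Subgroup O,
      N₀ = Subgroup.normalizer ((((R₀ : Subgroup O₁).map O₁.subtype : Subgroup O)) : Set O) :=
    ⟨_, rfl⟩
  have hpb : p ^ b ∣ Nat.card N₀ := by
    have hidx : O₁.index = p ^ b := by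
      rw [hc.symm.index_eq_card, show Nat.card (P' : Subgroup O) = Nat.card (P : Subgroup G) from
        Nat.card_congr (Subgroup.subgroupOfEquivOfLe hPle).toEquiv, hb]
    rw [← hidx, Subgroup.index_eq_card]
    refine Subgroup.card_dvd_of_surjective ((QuotientGroup.mk' O₁).comp N₀.subtype) ?_
    rw [← MonoidHom.range_eq_top, MonoidHom.range_comp, Subgroup.range_subtype]
    have := congrArg (Subgroup.map (QuotientGroup.mk' O₁))
      (hN₀ ▸ Sylow.normalizer_sup_eq_top R₀ : N₀ ⊔ O₁ = ⊤)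
    rw [Subgroup.map_sup, Subgroup.map_top_of_surjective _ (QuotientGroup.mk'_surjective O₁)] at this
    rwa [show O₁.map (QuotientGroup.mk' O₁) = ⊥ from (Subgroup.map_eq_bot_iff _).2
      (QuotientGroup.ker_mk' O₁).ge, sup_bot_eq] at this
  obtain ⟨Q⟩ : Nonempty (Sylow p N₀) := inferInstance
  obtain ⟨QG, hQG⟩ : ∃ QG : Subgroup G,
      QG = (Q : Subgroup N₀).map (O.subtype.comp N₀.subtype) := ⟨_, rfl⟩
  have hQp : IsPGroup p QG := hQG ▸ Q.2.map _
  obtain ⟨Q₁, hQ₁⟩ := hQp.exists_le_sylow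
  have hQeq : (Q₁ : Subgroup G) = QG := by
    refine (Subgroup.eq_of_le_of_card_ge hQ₁ ?_).symm
    rw [Q₁.card_eq_multiplicity, ← P.card_eq_multiplicity, hb, hQG,
      Subgroup.card_map_of_injective (f := O.subtype.comp N₀.subtype)
        (O.subtype_injective.comp N₀.subtype_injective)]
    exact Nat.le_of_dvd Nat.card_pos (Q.pow_dvd_card_of_pow_dvd_card hpb)
  have hQN : (Q₁ : Subgroup G) ≤ Subgroup.normalizer ((R₁ : Subgroup G) : Set G) := by
    rw [hQeq, hQG]
    rintro _ ⟨z, -, rfl⟩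
    show ((z : O) : G) ∈ Subgroup.normalizer (R₀' : Set G)
    rw [hR₀']
    exact Subgroup.le_normalizer_map O.subtype ⟨(z : O), hN₀ ▸ z.2, rfl⟩
  obtain ⟨x₀, hx₀⟩ := MulAction.exists_smul_eq G Q₁ P
  obtain ⟨R₂, hR₂⟩ : ∃ R₂ : Sylow ℓ G, R₂ = x₀ • R₁ := ⟨_, rfl⟩
  have hPN₂ : (P : Subgroup G) ≤ Subgroup.normalizer ((R₂ : Subgroup G) : Set G) := by
    intro z hz
    rw [← hx₀, Sylow.coe_subgroup_smul, Subgroup.mem_pointwise_smul_iff_inv_smul_mem] at hz
    have h1 := smul_sylow_eq_iff.2 (hQN hz)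
    rw [← smul_sylow_eq_iff, hR₂,
      show z = x₀ * ((MulAut.conj x₀)⁻¹ • z) * x₀⁻¹ by simp [MulAut.smul_def, mul_assoc],
      ← mul_smul, inv_mul_cancel_right, mul_smul, h1]
  -- an element outside `O` normalising both
  obtain ⟨H, hH⟩ : ∃ H : Subgroup G, H = Subgroup.normalizer ((R₂ : Subgroup G) : Set G) :=
    ⟨_, rfl⟩
  rw [← hH] at hPN₂
  obtain ⟨w₀, hw₀, hw₀O⟩ : ∃ w ∈ H, w ∉ O := by
    by_contra hcon
    push Not at hcon
    have h1 : Subgroup.normalizer ((R₂ : Subgroup G) : Set G) ⊔ O = ⊤ :=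
      Sylow.normalizer_sup_eq_top' R₂ (hPO hℓ2 _ R₂.2)
    rw [← hH, sup_eq_right.2 hcon] at h1
    rw [h1, Subgroup.index_top] at hO2
    omega
  have hQH : ((w₀ • P : Sylow p G) : Subgroup G) ≤ H ⊓ O := by
    rw [Sylow.coe_subgroup_smul]
    rintro _ ⟨z, hz, rfl⟩
    exact ⟨H.mul_mem (H.mul_mem hw₀ (hPN₂ hz)) (H.inv_mem hw₀),
      (inferInstance : O.Normal).conj_mem z (hPle hz) w₀⟩
  obtain ⟨y₀, hy₀⟩ := MulAction.exists_smul_eq (H ⊓ O : Subgroup G)
    ((w₀ • P).subtype hQH) (P.subtype (le_inf hPN₂ hPle))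
  rw [Sylow.smul_subtype hQH] at hy₀
  have hy₀' := Sylow.subtype_injective hy₀
  obtain ⟨w, hw⟩ : ∃ w, w = (y₀ : G) * w₀ := ⟨_, rfl⟩
  have hwH : w ∈ H := hw ▸ H.mul_mem y₀.2.1 hw₀
  have hwP : w ∈ Subgroup.normalizer ((P : Subgroup G) : Set G) := by
    rw [← smul_sylow_eq_iff, hw, mul_smul]
    exact hy₀'
  have hwO : w ∉ O := fun hh => hw₀O ((Subgroup.mul_mem_cancel_left _ y₀.2.2).1 (hw ▸ hh))
  obtain ⟨τ, hτ⟩ : ∃ τ, τ = w ^ Nat.card O := ⟨_, rfl⟩
  have hττ : τ * τ = 1 := by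
    rw [hτ, ← pow_add, ← mul_two, show Nat.card O * 2 = Nat.card G by rw [← O.card_mul_index, hO2],
      pow_card_eq_one']
  have hτ1 : τ ≠ 1 := by
    intro e
    obtain ⟨j, hj⟩ := hodd
    have h2 : w * w ∈ O := (Subgroup.mul_mem_iff_of_index_two hO2).2 Iff.rfl
    rw [hτ, hj, pow_succ, pow_mul, pow_two] at e
    exact hwO ((Subgroup.mul_mem_cancel_left _ (O.pow_mem h2 j)).1 (e ▸ O.one_mem))
  obtain ⟨z, hzP, hz⟩ := exists_conj_involution hO2 hodd (Subgroup.normalizer ((P : Subgroup G) : Set G))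
    (hτ ▸ Subgroup.pow_mem _ hwP _) hdP hττ hdd hτ1 hd1
  have hdR : d ∈ Subgroup.normalizer (((z • R₂ : Sylow ℓ G) : Subgroup G) : Set G) := by
    have hτR : τ • R₂ = R₂ := by rw [smul_sylow_eq_iff, ← hH, hτ]; exact H.pow_mem hwH _
    rw [← smul_sylow_eq_iff, ← hz, ← mul_smul, inv_mul_cancel_right, mul_smul, hτR]
  refine ⟨z • R₂, ?_, hdR, ?_⟩
  · intro x hx
    have hx' : z⁻¹ * x * z ∈ (P : Subgroup G) := (Subgroup.mem_normalizer_iff''.1 hzP x).1 hx
    have hxR : (z⁻¹ * x * z) • R₂ = R₂ := by rw [smul_sylow_eq_iff, ← hH]; exact hPN₂ hx'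
    rw [← smul_sylow_eq_iff, show x = z * (z⁻¹ * x * z) * z⁻¹ by group, ← mul_smul,
      inv_mul_cancel_right, mul_smul, hxR]
  -- the centralised `ℓ`-elements
  intro x j hxd hxj
  obtain ⟨A, hA⟩ : ∃ A : Subgroup G, A = Subgroup.zpowers x := ⟨_, rfl⟩
  have hAp : IsPGroup ℓ A := by
    obtain ⟨i, -, hi⟩ := (Nat.dvd_prime_pow hℓ.out).1 (orderOf_dvd_of_pow_eq_one hxj)
    exact IsPGroup.of_card (n := i) (by rw [hA, Nat.card_zpowers, hi])
  have hdA : d ∈ Subgroup.normalizer (A : Set G) := by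
    refine Subgroup.centralizer_le_normalizer _ (Subgroup.mem_centralizer_iff.2 ?_)
    intro a ha
    rw [hA] at ha
    obtain ⟨i, rfl⟩ := ha
    exact ((show Commute x d from hxd).zpow_left i).eq
  obtain ⟨S, hS, hdS⟩ := exists_fixed_sylow_ge O hodd ℓ ((pow_two d).trans hdd)
    (by rw [Subgroup.normalizer_eq_top_iff.2 inferInstance]; exact Subgroup.mem_top _)
    (hPO hℓ2 A hAp) hAp hdA
  let S' : Sylow ℓ G := Sylow.ofCard ((S : Subgroup O).map O.subtype) (by
    rw [Subgroup.card_map_of_injective O.subtype_injective, S.card_eq_multiplicity,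
      ← O.card_mul_index, hO2, Nat.factorization_mul Nat.card_pos.ne' two_ne_zero, Finsupp.add_apply,
      Nat.prime_two.factorization, Finsupp.single_apply, if_neg (Ne.symm hℓ2), add_zero])
  obtain ⟨k, hk⟩ := MulAction.exists_smul_eq G (z • R₂) S'
  obtain ⟨K, hK⟩ : ∃ K : Subgroup G,
      K = Subgroup.normalizer (((z • R₂ : Sylow ℓ G) : Subgroup G) : Set G) := ⟨_, rfl⟩
  have hd' : k⁻¹ * d * k ∈ K := by
    rw [hK, ← smul_sylow_eq_iff, mul_smul, mul_smul, hk,
      smul_sylow_eq_iff.2 (show d ∈ Subgroup.normalizer ((S' : Subgroup G) : Set G)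
        from hdS), inv_smul_eq_iff, hk]
  obtain ⟨y, hyK, hy⟩ := exists_conj_involution hO2 hodd K hd' (hK ▸ hdR)
    (by rw [show k⁻¹ * d * k * (k⁻¹ * d * k) = k⁻¹ * (d * d) * k by group, hdd, mul_one,
      inv_mul_cancel]) hdd
    (fun e => hd1 (by rw [show d = k * (k⁻¹ * d * k) * k⁻¹ by group, e, mul_one, mul_inv_cancel]))
    hd1
  obtain ⟨k', hk'⟩ : ∃ k', k' = k * y⁻¹ := ⟨_, rfl⟩
  have hk'R : k' • (z • R₂) = S' := by
    have hyR : y⁻¹ • (z • R₂) = z • R₂ := by rw [smul_sylow_eq_iff, ← hK]; exact K.inv_mem hyK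
    rw [hk', mul_smul, hyR, hk]
  have hk'd : k' * d = d * k' := by
    rw [hk']
    nth_rewrite 1 [← hy]
    group
  have hxS : x ∈ (S' : Subgroup G) := hS (hA ▸ Subgroup.mem_zpowers x)
  rw [← hk'R, Sylow.coe_subgroup_smul, Subgroup.mem_pointwise_smul_iff_inv_smul_mem,
    MulAut.smul_def, MulAut.conj_inv_apply] at hxS
  rwa [mul_assoc, hab x k' hxd hk'd, inv_mul_cancel_left] at hxS

end CfsgLib.JankoThompson
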