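import Cfsg.Agent.JankoThompson.Tori
import Cfsg.Agent.ReeTypeS3.Local
import Cfsg.Agent.ReeG2Sylow.Normalizer
import Mathlib

/-!
# Local structure of a simple group with an involution centraliser `⟨t⟩ × PSL₂(q)` and abelian
# Sylow 2-subgroups, `q ≡ ±3 (mod 8)`
-/

set_option autoImplicit false
set_option linter.unusedSectionVars false
set_option linter.style.haveILetI false

namespace CfsgLib.JankoThompson

open Matrix CfsgLib.ReeTypeS3
open scoped MatrixGroups

universe u v

variable {G : Type u} [Group G] [Fintype G] {F : Type v} [Field F] [Fintype F]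

local notation "PST" => Matrix.ProjectiveSpecialLinearGroup (Fin 2) F
local notation "Z₂" => Multiplicative (ZMod 2)

/-- The standing hypotheses. -/
structure Hyp (E : Emb G (Matrix.ProjectiveSpecialLinearGroup (Fin 2) F)) : Prop where
  simple : IsSimpleGroup G
  perf : commutator G = ⊤
  ab : ∀ P : Sylow 2 G, ∀ a b : P, a * b = b * a
  mod8 : Mod8 F

variable {E : Emb G (Matrix.ProjectiveSpecialLinearGroup (Fin 2) F)} (hyp : Hyp E)
include hyp

theorem two_ne : (2 : F) ≠ 0 := two_ne_F hyp.mod8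

theorem natCard_C : Nat.card (Subgroup.centralizer ({E.t} : Set G)) =
    8 * (Fintype.card F * rOf F * uOf F) := by
  rw [E.natCard_cent, natCard_L hyp.mod8]; ring

theorem natCard_G : Nat.card G = 8 * (Fintype.card F * rOf F * uOf F) *
    (Subgroup.centralizer ({E.t} : Set G)).index := by
  rw [← natCard_C hyp, Subgroup.card_mul_index]

theorem odd_qru : Odd (Fintype.card F * rOf F * uOf F) :=
  ((odd_card hyp.mod8).mul (odd_r hyp.mod8)).mul (odd_u hyp.mod8)

theorem odd_index : Odd (Subgroup.centralizer ({E.t} : Set G)).index := by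
  haveI : Fact (Nat.Prime 2) := ⟨Nat.prime_two⟩
  have hp : IsPGroup 2 (Subgroup.zpowers E.t) :=
    IsPGroup.of_card (n := 1) (by rw [Nat.card_zpowers, E.orderOf_t, pow_one])
  obtain ⟨S, hS⟩ := hp.exists_le_sylow
  have hSC : (S : Subgroup G) ≤ Subgroup.centralizer ({E.t} : Set G) := fun x hx =>
    Subgroup.mem_centralizer_singleton_iff.2
      (congrArg Subtype.val (hyp.ab S ⟨x, hx⟩ ⟨E.t, hS (Subgroup.mem_zpowers _)⟩))
  rw [← Nat.not_even_iff_odd, even_iff_two_dvd]
  exact fun h => S.not_dvd_index (h.trans (Subgroup.index_dvd_of_le hSC))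

theorem sylow_two (S : Sylow 2 G) :
    Nat.card (S : Subgroup G) = 8 ∧ ∀ x ∈ (S : Subgroup G), x * x = 1 := by
  haveI : Fact (Nat.Prime 2) := ⟨Nat.prime_two⟩
  have hG : Nat.card G = 2 ^ 3 * (Fintype.card F * rOf F * uOf F *
      (Subgroup.centralizer ({E.t} : Set G)).index) := by
    rw [natCard_G hyp]; ring
  have hodd : ¬ 2 ∣ Fintype.card F * rOf F * uOf F *
      (Subgroup.centralizer ({E.t} : Set G)).index := by
    rw [← even_iff_two_dvd, Nat.not_even_iff_odd]
    exact (odd_qru hyp).mul (odd_index hyp)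
  have hS := fun T : Sylow 2 G => Linear.card_sylow_of_card_eq 2 hG hodd T
  refine ⟨hS S, ?_⟩
  set C := Subgroup.centralizer ({E.t} : Set G) with hC
  obtain ⟨P⟩ : Nonempty (Sylow 2 C) := inferInstance
  have hP := Linear.card_sylow_of_card_eq 2 (k := 3) (natCard_C hyp)
    (fun h => hodd (h.mul_right _)) P
  have hPsq : ∀ x ∈ (P : Subgroup C), x * x = 1 := by
    intro x hx
    obtain ⟨Q, hQ⟩ := (P.2.map ((MonoidHom.snd _ _).comp E.centEquiv.toMonoidHom)).exists_le_sylow
    have hv := Small.kleinFour_mul_self (Linear.isKleinFour_sylow_PSL_two hyp.mod8.2 Q)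
      (hQ ⟨x, hx, rfl⟩)
    refine E.centEquiv.injective (Prod.ext ?_ ?_)
    · rw [map_mul, map_one, Prod.fst_mul, Prod.fst_one]
      generalize (E.centEquiv x).1 = z
      exact (congrArg Multiplicative.ofAdd (CharTwo.add_self_eq_zero (Multiplicative.toAdd z)) :)
    · rw [map_mul, map_one, Prod.snd_mul, Prod.snd_one]
      exact hv
  let T : Sylow 2 G := Sylow.ofCard ((P : Subgroup C).map C.subtype) (by
    rw [Subgroup.card_map_of_injective C.subtype_injective, hP, ← hS (Classical.arbitrary _),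
      Sylow.card_eq_multiplicity])
  have hT : ∀ y : T, y * y = 1 := by
    rintro ⟨_, x, hx, rfl⟩
    refine Subtype.ext ?_
    show C.subtype x * C.subtype x = 1
    rw [← map_mul, hPsq x hx, map_one]
  intro x hx
  exact congrArg Subtype.val ((Sylow.equiv S T).injective (a₁ := ⟨x, hx⟩ * ⟨x, hx⟩) (a₂ := 1)
    (by rw [map_mul, map_one, hT]))

theorem two_group_facts {P : Subgroup G} (hP : IsPGroup 2 P) {x y : G} (hx : x ∈ P) (hy : y ∈ P) :
    x * x = 1 ∧ x * y = y * x := by
  haveI : Fact (Nat.Prime 2) := ⟨Nat.prime_two⟩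
  obtain ⟨S, hS⟩ := hP.exists_le_sylow
  exact ⟨(sylow_two hyp S).2 x (hS hx), congrArg Subtype.val (hyp.ab S ⟨x, hS hx⟩ ⟨y, hS hy⟩)⟩

theorem main_involutions (S : Sylow 2 G) :
    Subgroup.centralizer ((S : Subgroup G) : Set G) = (S : Subgroup G) ∧
      Nat.card (Subgroup.normalizer ((S : Subgroup G) : Set G)) = 168 ∧
      ∀ s t : G, s ≠ 1 → s * s = 1 → t ≠ 1 → t * t = 1 → IsConj s t :=
  ReeG2Sylow.main_of_abelian hyp.perf S (sylow_two hyp S).1 (sylow_two hyp S).2 hyp.mod8.2
    E.t_ne_one E.sq E.centEquiv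

/-- Every involution is conjugate to `t`. -/
theorem exists_to_t {s : G} (hs : s ≠ 1) (hs2 : s * s = 1) : ∃ g : G, g * s * g⁻¹ = E.t :=
  isConj_iff.1 ((main_involutions hyp (Classical.arbitrary _)).2.2 _ _ hs hs2 E.t_ne_one E.sq)

theorem natCard_cent_involution {s : G} (hs : s ≠ 1) (hs2 : s * s = 1) :
    Nat.card (Subgroup.centralizer ({s} : Set G)) = 8 * (Fintype.card F * rOf F * uOf F) := by
  obtain ⟨g, hg⟩ := exists_to_t hyp hs hs2
  rw [← natCard_C hyp]
  refine Nat.card_congr
    { toFun := fun x => ⟨g * x.1 * g⁻¹, Subgroup.mem_centralizer_singleton_iff.2 (by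
        rw [← hg, show g * x.1 * g⁻¹ * (g * s * g⁻¹) = g * (x.1 * s) * g⁻¹ by group,
          Subgroup.mem_centralizer_singleton_iff.1 x.2]
        group)⟩
      invFun := fun x => ⟨g⁻¹ * x.1 * g, Subgroup.mem_centralizer_singleton_iff.2 (by
        have h : (x.1) * (g * s * g⁻¹) = g * s * g⁻¹ * x.1 :=
          ((congrArg (x.1 * ·) hg).trans (Subgroup.mem_centralizer_singleton_iff.1 x.2)).trans
            (congrArg (· * x.1) hg.symm)
        calc g⁻¹ * x.1 * g * s = g⁻¹ * (x.1 * (g * s * g⁻¹)) * g := by group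
          _ = s * (g⁻¹ * x.1 * g) := by rw [h]; group)⟩
      left_inv := fun x => Subtype.ext (by simp [mul_assoc])
      right_inv := fun x => Subtype.ext (by simp [mul_assoc]) }

/-- An element of odd order commuting with `t` lies in the second factor. -/
theorem exists_ι_of_odd {x : G} (h : x * E.t = E.t * x) {m : ℕ} (hm : Odd m) (hx : x ^ m = 1) :
    ∃ l : PST, x = E.ι l ∧ l ^ m = 1 := by
  obtain ⟨l, hl⟩ := E.cent x h
  refine ⟨l, ?_⟩
  rcases hl with e | e
  · exact ⟨e, E.inj (by rw [map_pow, ← e, hx, map_one])⟩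
  · exfalso
    rw [e, (show Commute E.t (E.ι l) from E.comm l).mul_pow] at hx
    obtain ⟨j, hj⟩ := hm
    rw [show E.t ^ m = E.t by rw [hj, pow_succ, pow_mul, pow_two, E.sq, one_pow, one_mul],
      ← map_pow] at hx
    exact E.ι_eq_t_mul_iff (a := 1) (b := l ^ m) (by rw [map_one E.ι]; exact hx.symm)

end CfsgLib.JankoThompson
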