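import Cfsg.Agent.JankoThompson.Orbit
import Mathlib

/-!
# The supports of the base columns
-/

set_option autoImplicit false
set_option linter.unusedSectionVars false
set_option maxHeartbeats 2000000
set_option linter.style.haveILetI false

namespace CfsgLib.JankoThompson

open Matrix CfsgLib.ReeTypeS3
open scoped MatrixGroups

universe u v w

/-! ### Short integer vectors -/

section Vectors

variable {ι : Type w} [Fintype ι] {f : ι → ℕ}

/-- An integer vector of norm two orthogonal to a positive one. -/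
theorem exists_pair (hf : ∀ i, 0 < f i) {v : ι → ℤ} (hn : dotp v v = 2)
    (hv : ∑ i, v i * (f i : ℤ) = 0) :
    ∃ Y Y' : ι, Y ≠ Y' ∧ v Y = 1 ∧ v Y' = -1 ∧ f Y = f Y' ∧ ∀ i, i ≠ Y → i ≠ Y' → v i = 0 := by
  classical
  rw [dotp] at hn
  have hone := ReeTypeS3.abs_le_one hf (by rw [hn]; norm_num) hv
  have hS : (Finset.univ.filter fun i => v i ≠ 0).card = 2 := by
    rw [← Finset.sum_filter_add_sum_filter_not Finset.univ (fun i => v i ≠ 0),
      Finset.sum_congr rfl (g := fun _ => (1 : ℤ)) fun i hi => by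
        rcases hone i with e | e | e <;> simp_all] at hn
    rw [Finset.sum_const, Finset.sum_eq_zero fun i hi => by simp_all] at hn
    simp only [nsmul_eq_mul, mul_one, add_zero] at hn
    exact_mod_cast hn
  obtain ⟨a, b, hab, hS⟩ := Finset.card_eq_two.1 hS
  have hmem : ∀ i, v i ≠ 0 ↔ i = a ∨ i = b := fun i => by
    have := Finset.ext_iff.1 hS i
    simpa using this
  have hz : ∀ i, i ≠ a → i ≠ b → v i = 0 := fun i h1 h2 => by
    by_contra h; exact ((hmem i).1 h).elim h1 h2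
  rw [← Finset.sum_subset (Finset.subset_univ {a, b}) (fun i _ hi => by
    simp only [Finset.mem_insert, Finset.mem_singleton, not_or] at hi
    rw [hz i hi.1 hi.2, zero_mul]), Finset.sum_pair hab] at hv
  have ha := hf a
  have hb := hf b
  have hane := (hmem a).2 (Or.inl rfl)
  have hbne := (hmem b).2 (Or.inr rfl)
  rcases hone a with e | e | e <;> rcases hone b with e' | e' | e' <;>
    simp only [e, e'] at hv hane hbne <;> try omega
  · exact ⟨b, a, hab.symm, e', e, by omega, fun i h1 h2 => hz i h2 h1⟩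
  · exact ⟨a, b, hab, e, e', by omega, hz⟩

/-- Two vectors of norm four with product two share two entries. -/
theorem overlap [DecidableEq ι] (hf : ∀ i, 0 < f i) {v w : ι → ℤ} (hv : dotp v v = 4)
    (hw : dotp w w = 4) (hvw : dotp v w = 2) (hvf : ∑ i, v i * (f i : ℤ) = 0)
    (hwf : ∑ i, w i * (f i : ℤ) = 0) :
    (Finset.univ.filter fun i => v i ≠ 0 ∧ w i ≠ 0).card = 2 ∧
      ∀ i, v i ≠ 0 → w i ≠ 0 → v i = w i := by
  rw [dotp] at hv hw hvw
  have h1 := ReeTypeS3.abs_le_one hf hv.le hvf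
  have h2 := ReeTypeS3.abs_le_one hf hw.le hwf
  obtain ⟨A, hA⟩ : ∃ A : Finset ι, A = Finset.univ.filter fun i => v i ≠ 0 ∧ v i = w i := ⟨_, rfl⟩
  obtain ⟨B, hB⟩ : ∃ B : Finset ι, B = Finset.univ.filter fun i => v i ≠ 0 ∧ v i = -w i := ⟨_, rfl⟩
  have hvw' : ∀ i, v i * w i = (if i ∈ A then (1 : ℤ) else 0) - (if i ∈ B then 1 else 0) := by
    intro i
    simp only [hA, hB, Finset.mem_filter, Finset.mem_univ, true_and]
    rcases h1 i with e | e | e <;> rcases h2 i with e' | e' | e' <;> rw [e, e'] <;> norm_num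
  have hsub : ∀ i, (if i ∈ A then (1 : ℤ) else 0) + (if i ∈ B then 1 else 0) ≤ v i * v i := by
    intro i
    simp only [hA, hB, Finset.mem_filter, Finset.mem_univ, true_and]
    rcases h1 i with e | e | e <;> rcases h2 i with e' | e' | e' <;> rw [e, e'] <;> norm_num
  rw [Finset.sum_congr rfl fun i _ => hvw' i, Finset.sum_sub_distrib, Finset.sum_boole,
    Finset.sum_boole, Finset.filter_univ_mem, Finset.filter_univ_mem] at hvw
  have hle := Finset.sum_le_sum fun i (_ : i ∈ Finset.univ) => hsub i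
  rw [hv, Finset.sum_add_distrib, Finset.sum_boole, Finset.sum_boole, Finset.filter_univ_mem,
    Finset.filter_univ_mem] at hle
  have hB0 : B.card = 0 := by
    by_contra hne
    have hcase : A.card = 3 ∧ B.card = 1 := by
      omega
    obtain ⟨b, hb⟩ := Finset.card_eq_one.1 hcase.2
    have hbB : b ∈ B := by rw [hb]; exact Finset.mem_singleton_self b
    have hsq : ∀ i, i ≠ b → v i = w i := by
      have htot : ∑ i, (v i - w i) * (v i - w i) = 4 := by
        rw [Finset.sum_congr rfl fun i _ => show (v i - w i) * (v i - w i) =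
          v i * v i + w i * w i - 2 * ((if i ∈ A then (1 : ℤ) else 0) - (if i ∈ B then 1 else 0)) by
          rw [← hvw' i]; ring]
        simp only [Finset.sum_sub_distrib, Finset.sum_add_distrib, ← Finset.mul_sum, Finset.sum_boole,
          Finset.filter_univ_mem, hv, hw]
        omega
      intro i hib
      rw [← Finset.add_sum_erase _ _ (Finset.mem_univ b)] at htot
      have hb4 : (v b - w b) * (v b - w b) = 4 := by
        rw [hB, Finset.mem_filter] at hbB
        obtain ⟨-, hb1, hb2⟩ := hbB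
        rcases h1 b with e | e | e <;> rcases h2 b with e' | e' | e' <;> simp_all
      rw [hb4] at htot
      have := (Finset.sum_eq_zero_iff_of_nonneg fun j _ => mul_self_nonneg (v j - w j)).1
        (by linarith : ∑ j ∈ Finset.univ.erase b, (v j - w j) * (v j - w j) = 0) i
        (Finset.mem_erase.2 ⟨hib, Finset.mem_univ i⟩)
      exact sub_eq_zero.1 (mul_self_eq_zero.1 this)
    have h0 : ∑ i, (v i - w i) * (f i : ℤ) = 0 := by
      simp only [sub_mul, Finset.sum_sub_distrib, hvf, hwf, sub_self]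
    rw [Finset.sum_eq_single b (fun i _ hib => by rw [hsq i hib, sub_self, zero_mul])
      (fun h => absurd (Finset.mem_univ b) h)] at h0
    rw [hB, Finset.mem_filter] at hbB
    have := hf b
    rcases mul_eq_zero.1 h0 with e | e
    · obtain ⟨-, hb1, hb2⟩ := hbB
      omega
    · omega
  have hA2 : A.card = 2 := by omega
  have hBe : ∀ i, i ∉ B := by rw [Finset.card_eq_zero.1 hB0]; exact fun i => Finset.notMem_empty i
  have hagree : ∀ i, v i ≠ 0 → w i ≠ 0 → v i = w i := by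
    intro i hi hi'
    by_contra hne
    refine hBe i ?_
    simp only [hB, Finset.mem_filter, Finset.mem_univ, true_and]
    rcases h1 i with e | e | e <;> rcases h2 i with e' | e' | e' <;> simp_all
  refine ⟨?_, hagree⟩
  rw [← hA2, hA]
  congr 1
  ext i
  simp only [Finset.mem_filter, Finset.mem_univ, true_and]
  exact ⟨fun h => ⟨h.1, hagree i h.1 h.2⟩, fun h => ⟨h.1, h.2 ▸ h.1⟩⟩

end Vectors

variable {G : Type u} [Group G] [Fintype G] {F : Type v} [Field F] [Fintype F]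

local notation "PST" => Matrix.ProjectiveSpecialLinearGroup (Fin 2) F

noncomputable local instance (priority := high) instFintypePSTNamed :
    Fintype (Matrix.ProjectiveSpecialLinearGroup (Fin 2) F) := Fintype.ofFinite _

noncomputable local instance (priority := high) instFintypeSubNamed
    (H : Subgroup (Matrix.ProjectiveSpecialLinearGroup (Fin 2) F)) : Fintype H := Fintype.ofFinite _

variable {E : Emb G (Matrix.ProjectiveSpecialLinearGroup (Fin 2) F)}

namespace Dat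

variable (hyp : Hyp E) (D : Dat E)

/-- A character outside the supports of the short columns of nontrivial characters. -/
def Plain (χ : Cfsg.IrrCharacter G) : Prop :=
  (∀ ν, ν ≠ 1 → D.vP ν χ = 0) ∧ ∀ τ, τ ≠ 1 → D.vZ τ χ = 0

/-- The three base columns have this configuration of supports: two characters common to all. -/
structure Std where
  /-- A common character. -/
  A : Cfsg.IrrCharacter G
  /-- The other common character. -/
  B : Cfsg.IrrCharacter G
  /-- The private character of `vZ 1`. -/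
  C : Cfsg.IrrCharacter G
  /-- A private character of `vH1`. -/
  P : Cfsg.IrrCharacter G
  /-- The other private character of `vH1`. -/
  R : Cfsg.IrrCharacter G
  /-- A private character of `vH2`. -/
  P2 : Cfsg.IrrCharacter G
  /-- The other private character of `vH2`. -/
  R2 : Cfsg.IrrCharacter G
  nodup : [trivC G, A, B, C, P, R, P2, R2].Nodup
  valA : D.vH1 A = D.vZ 1 A ∧ D.vH2 A = D.vZ 1 A
  valB : D.vH1 B = D.vZ 1 B ∧ D.vH2 B = D.vZ 1 B
  x_ne : D.vZ 1 A ≠ 0 ∧ D.vZ 1 B ≠ 0 ∧ D.vZ 1 C ≠ 0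
  y_ne : D.vH1 P ≠ 0 ∧ D.vH1 R ≠ 0
  w_ne : D.vH2 P2 ≠ 0 ∧ D.vH2 R2 ≠ 0
  x_zero : ∀ χ, χ ≠ trivC G → χ ≠ A → χ ≠ B → χ ≠ C → D.vZ 1 χ = 0
  y_zero : ∀ χ, χ ≠ A → χ ≠ B → χ ≠ P → χ ≠ R → D.vH1 χ = 0
  w_zero : ∀ χ, χ ≠ A → χ ≠ B → χ ≠ P2 → χ ≠ R2 → D.vH2 χ = 0

/-- The three base columns have this configuration of supports: one character common to all. -/
structure Tri where
  /-- The common character. -/
  A : Cfsg.IrrCharacter G
  /-- Common to `vZ 1` and `vH1`. -/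
  B : Cfsg.IrrCharacter G
  /-- Common to `vZ 1` and `vH2`. -/
  C : Cfsg.IrrCharacter G
  /-- Common to `vH1` and `vH2`. -/
  P : Cfsg.IrrCharacter G
  /-- The private character of `vH1`. -/
  R : Cfsg.IrrCharacter G
  /-- The private character of `vH2`. -/
  R2 : Cfsg.IrrCharacter G
  nodup : [trivC G, A, B, C, P, R, R2].Nodup
  valA : D.vH1 A = D.vZ 1 A ∧ D.vH2 A = D.vZ 1 A
  valB : D.vH1 B = D.vZ 1 B
  valC : D.vH2 C = D.vZ 1 C
  valP : D.vH2 P = D.vH1 P
  x_ne : D.vZ 1 A ≠ 0 ∧ D.vZ 1 B ≠ 0 ∧ D.vZ 1 C ≠ 0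
  y_ne : D.vH1 P ≠ 0 ∧ D.vH1 R ≠ 0
  w_ne : D.vH2 R2 ≠ 0
  x_zero : ∀ χ, χ ≠ trivC G → χ ≠ A → χ ≠ B → χ ≠ C → D.vZ 1 χ = 0
  y_zero : ∀ χ, χ ≠ A → χ ≠ B → χ ≠ P → χ ≠ R → D.vH1 χ = 0
  w_zero : ∀ χ, χ ≠ A → χ ≠ C → χ ≠ P → χ ≠ R2 → D.vH2 χ = 0

include hyp

theorem dot_base :
    dotp (D.vZ 1) (D.vZ 1) = 4 ∧ dotp D.vH1 D.vH1 = 4 ∧ dotp D.vH2 D.vH2 = 4 ∧
      dotp (D.vZ 1) D.vH1 = 2 ∧ dotp (D.vZ 1) D.vH2 = 2 ∧ dotp D.vH1 D.vH2 = 2 := by
  have hZ : dotp (D.vZ 1) (D.vZ 1) = 4 := by rw [D.dot_ZZ hyp, dlt_one_one]; norm_num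
  have hP : dotp (D.vP 1) (D.vP 1) = 8 := by rw [D.dot_PP hyp, dlt_one_one]; norm_num
  have hPZ := D.dot_PZ hyp 1 1
  have hEP := D.dot_EP hyp 1
  have hEZ := D.dot_EZ hyp 1
  have hEE := D.dot_EE hyp
  have hZP : dotp (D.vZ 1) (D.vP 1) = 0 := by rw [dotp_comm, hPZ]
  have hZE : dotp (D.vZ 1) D.vE = 0 := by rw [dotp_comm, hEZ]
  have hPE : dotp (D.vP 1) D.vE = 0 := by rw [dotp_comm, hEP]
  have a1 := D.two_dot_vH1 hyp (D.vZ 1)
  have a2 := D.two_dot_vH1 hyp (D.vP 1)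
  have a3 := D.two_dot_vH1 hyp D.vE
  have a4 := D.two_dot_vH1 hyp D.vH1
  have b1 := D.two_dot_vH2 hyp (D.vZ 1)
  have b2 := D.two_dot_vH2 hyp (D.vP 1)
  have b3 := D.two_dot_vH2 hyp D.vE
  have b4 := D.two_dot_vH2 hyp D.vH2
  have c4 := D.two_dot_vH1 hyp D.vH2
  simp only [dotp_comm (D.vZ 1) D.vH1, dotp_comm (D.vP 1) D.vH1, dotp_comm D.vE D.vH1,
    dotp_comm (D.vZ 1) D.vH2, dotp_comm (D.vP 1) D.vH2, dotp_comm D.vE D.vH2,
    hZ, hP, hPZ, hEP, hEZ, hEE, hZP, hZE, hPE] at a1 a2 a3 a4 b1 b2 b3 b4 c4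
  refine ⟨hZ, by omega, by omega, ?_, ?_, by omega⟩
  · rw [dotp_comm]; omega
  · rw [dotp_comm]; omega

theorem vP_zero_of_base {χ : Cfsg.IrrCharacter G}
    (h : D.vZ 1 χ ≠ 0 ∨ D.vH1 χ ≠ 0 ∨ D.vH2 χ ≠ 0 ∨ ∃ τ, D.vZ τ χ ≠ 0) :
    ∀ ν, ν ≠ 1 → D.vP ν χ = 0 := by
  intro ν hν
  obtain ⟨o⟩ := D.exists_orb hyp hν
  refine (o.outside χ fun hR => ?_).1
  obtain ⟨hE, hP, hZ⟩ := o.base χ hR
  have h1 := D.two_vH1 hyp χ
  have h2 := D.two_vH2 hyp χ
  rw [hE, hP, hZ 1] at h1 h2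
  rcases h with h | h | h | ⟨τ, h⟩
  · exact h (hZ 1)
  · omega
  · omega
  · exact h (hZ τ)

theorem sumP_eq {χ : Cfsg.IrrCharacter G} (h : ∀ ν, ν ≠ 1 → D.vP ν χ = 0) :
    D.sumP χ = D.vP 1 χ := by
  haveI := D.c.isCyclic_Cr
  show ∑ j ∈ Finset.range (rOf F), D.vP (D.μ₀ ^ j) χ = _
  rw [← D.c.natCard_Cr, ← Finset.add_sum_erase _ _
    (Finset.mem_range.2 (Nat.card_pos (α := D.c.Cr))), pow_zero_hom D.μ₀_inj,
    Finset.sum_eq_zero fun j hj => h _ (pow_ne_one_of_pos D.μ₀_inj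
      (Finset.mem_range.1 (Finset.mem_erase.1 hj).2) (Finset.mem_erase.1 hj).1), add_zero]

/-- The supports of the short columns of the odd torus avoid the base columns. -/
theorem base_zero_of_vZ {τ : tor D.g₁ →* ℂˣ} (hτ : τ ≠ 1) {χ : Cfsg.IrrCharacter G}
    (hχ : D.vZ τ χ ≠ 0) : D.vZ 1 χ = 0 ∧ D.vH1 χ = 0 ∧ D.vH2 χ = 0 := by
  classical
  haveI := isCyclic_tor D.htr₁
  have hodd := D.odd_g₁ hyp
  have hself := dlt_self_odd hodd hτ
  obtain ⟨Y, Y', hne, hY, hY', hdeg, hz⟩ := exists_pair deg_pos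
    (by rw [D.dot_ZZ hyp, hself, mul_one]) (D.col_vZ τ).deg_orth
  have horth : ∀ v : Cfsg.IrrCharacter G → ℤ, dotp v (D.vZ τ) = 0 → v Y = v Y' := by
    intro v hv
    rw [dotp, ← Finset.sum_subset (Finset.subset_univ {Y, Y'}) (fun i _ hi => by
      simp only [Finset.mem_insert, Finset.mem_singleton, not_or] at hi
      rw [hz i hi.1 hi.2, mul_zero]), Finset.sum_pair hne, hY, hY'] at hv
    linarith
  have hpairsq : ∀ v : Cfsg.IrrCharacter G → ℤ, v Y * v Y + v Y' * v Y' ≤ dotp v v := fun v => by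
    have := Finset.sum_le_univ_sum_of_nonneg (fun i => mul_self_nonneg (v i)) (s := {Y, Y'})
    rwa [Finset.sum_pair hne] at this
  have hP : ∀ i, (i = Y ∨ i = Y') → ∀ ν, ν ≠ 1 → D.vP ν i = 0 := fun i hi =>
    D.vP_zero_of_base hyp (Or.inr (Or.inr (Or.inr ⟨τ, by
      rcases hi with e | e <;> rw [e]
      · rw [hY]; norm_num
      · rw [hY']; norm_num⟩)))
  have hZ0 : ∀ σ, σ ≠ 1 → dlt σ τ = 0 → D.vZ σ Y = 0 ∧ D.vZ σ Y' = 0 := by
    intro σ hσ hd
    have he := horth (D.vZ σ) (by rw [D.dot_ZZ hyp, hd, mul_zero])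
    have hn : dotp (D.vZ σ) (D.vZ σ) = 2 := by rw [D.dot_ZZ hyp, dlt_self_odd hodd hσ, mul_one]
    obtain ⟨U, U', hU, hU1, hU', -, hUz⟩ := exists_pair deg_pos hn (D.col_vZ σ).deg_orth
    have h0 : D.vZ σ Y = 0 := by
      by_contra h
      have hYU : Y = U ∨ Y = U' := by
        by_contra hh; push Not at hh; exact h (hUz Y hh.1 hh.2)
      have hY'U : Y' = U ∨ Y' = U' := by
        by_contra hh; push Not at hh; exact (he ▸ h) (hUz Y' hh.1 hh.2)
      rcases hYU with e | e <;> rcases hY'U with e' | e'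
      · exact hne (e.trans e'.symm)
      · rw [e, e', hU1, hU'] at he; omega
      · rw [e, e', hU1, hU'] at he; omega
      · exact hne (e.trans e'.symm)
    exact ⟨h0, by rw [← he]; exact h0⟩
  have hsumZ : ∀ i, (i = Y ∨ i = Y') → D.sumZ i = D.vZ 1 i + 2 * D.vZ τ i := by
    intro i hi
    show ∑ j ∈ Finset.range (uOf F), D.vZ (D.τ₀ ^ j) i = _
    rw [← D.card₁]
    exact sum_pow_split D.τ₀_inj hodd (fun σ => D.vZ σ i) (fun σ => congrFun (D.vZ_inv hyp σ) i) hτ
      fun σ hσ hd => by rcases hi with e | e <;> rw [e]; exacts [(hZ0 σ hσ hd).1, (hZ0 σ hσ hd).2]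
  have hP1 := horth (D.vP 1) (D.dot_PZ hyp 1 τ)
  have hZ1 := horth (D.vZ 1) (by rw [D.dot_ZZ hyp, dlt_one_left hτ, mul_zero])
  have hE := horth D.vE (D.dot_EZ hyp τ)
  have hTY := (D.vN_Tz_eq hyp Y).2
  have hTY' := (D.vN_Tz_eq hyp Y').2
  rw [D.sumP_eq hyp (hP Y (Or.inl rfl)), hsumZ Y (Or.inl rfl), hY] at hTY
  rw [D.sumP_eq hyp (hP Y' (Or.inr rfl)), hsumZ Y' (Or.inr rfl), hY', ← hP1, ← hZ1] at hTY'
  have htw : tw E (D.vZ τ) = 0 := by
    rw [tw_vZ hyp D, if_neg hτ]; ring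
  rw [tw, ← Finset.sum_subset (Finset.subset_univ {Y, Y'}) (fun i _ hi => by
    simp only [Finset.mem_insert, Finset.mem_singleton, not_or] at hi
    rw [hz i hi.1 hi.2, Int.cast_zero, zero_mul, zero_div]), Finset.sum_pair hne, hY, hY', ← hdeg]
    at htw
  have hsq : Tz E Y * Tz E Y = Tz E Y' * Tz E Y' := by
    have hd : (deg Y : ℚ) ≠ 0 := Nat.cast_ne_zero.2 (deg_pos Y).ne'
    field_simp at htw
    push_cast at htw
    have : ((Tz E Y * Tz E Y : ℤ) : ℚ) = ((Tz E Y' * Tz E Y' : ℤ) : ℚ) := by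
      push_cast; linarith
    exact_mod_cast this
  have hr := three_le_r hyp.mod8
  have hneg : Tz E Y = -Tz E Y' := by
    rcases mul_self_eq_mul_self_iff.1 hsq with e | e
    · exfalso
      rw [hTY, hTY'] at e
      have : (rOf F : ℤ) = 0 := by linarith
      omega
    · exact e
  rw [hTY, hTY'] at hneg
  -- the base values vanish
  have hu := u_eq hyp.mod8
  have hu5 := five_le_u hyp.mod8
  have hle1 := hpairsq (D.vP 1)
  have hle2 := hpairsq (D.vZ 1)
  rw [D.dot_PP hyp, dlt_one_one, ← hP1] at hle1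
  rw [D.dot_ZZ hyp, dlt_one_one, ← hZ1] at hle2
  have hb2 : ∀ z : ℤ, z * z + z * z ≤ 8 → -2 ≤ z ∧ z ≤ 2 := fun z h => by constructor <;> nlinarith
  have hb1 : ∀ z : ℤ, z * z + z * z ≤ 4 → -1 ≤ z ∧ z ≤ 1 := fun z h => by constructor <;> nlinarith
  have hvb := hb2 (D.vP 1 Y) (by linarith)
  have hwb := hb1 (D.vZ 1 Y) (by linarith)
  have hlin : (uOf F : ℤ) * D.vP 1 Y + 2 * (rOf F : ℤ) * D.vZ 1 Y = 0 := by linarith
  have hboth : D.vP 1 Y = 0 ∧ D.vZ 1 Y = 0 := by
    have hu5' : (5 : ℤ) ≤ uOf F := by exact_mod_cast hu5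
    have hr' : (3 : ℤ) ≤ rOf F := by exact_mod_cast hr
    rcases (by omega : D.vZ 1 Y = -1 ∨ D.vZ 1 Y = 0 ∨ D.vZ 1 Y = 1) with e | e | e <;>
      rcases (by omega : D.vP 1 Y = -2 ∨ D.vP 1 Y = -1 ∨ D.vP 1 Y = 0 ∨ D.vP 1 Y = 1 ∨
        D.vP 1 Y = 2) with e' | e' | e' | e' | e' <;> rw [e, e'] at hlin <;>
      rcases sg_cases (F := F) with es | es <;> rw [es] at hu <;> omega
  have hE0 : D.vE Y = 0 := by
    have h1 := D.two_vH1 hyp Y
    rw [hboth.1, hboth.2] at h1
    have hle3 := hpairsq D.vE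
    rw [D.dot_EE hyp, ← hE] at hle3
    have := hb1 (D.vE Y) (by linarith)
    omega
  have hfin : ∀ i, (i = Y ∨ i = Y') → D.vP 1 i = 0 ∧ D.vZ 1 i = 0 ∧ D.vE i = 0 := by
    rintro i (rfl | rfl)
    · exact ⟨hboth.1, hboth.2, hE0⟩
    · exact ⟨hP1 ▸ hboth.1, hZ1 ▸ hboth.2, hE ▸ hE0⟩
  have hχY : χ = Y ∨ χ = Y' := by
    by_contra hh; push Not at hh; exact hχ (hz χ hh.1 hh.2)
  obtain ⟨h1, h2, h3⟩ := hfin χ hχY
  have a1 := D.two_vH1 hyp χ
  have a2 := D.two_vH2 hyp χ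
  rw [h1, h2, h3] at a1 a2
  exact ⟨h2, by omega, by omega⟩

theorem plain_of_base {χ : Cfsg.IrrCharacter G}
    (h : D.vZ 1 χ ≠ 0 ∨ D.vH1 χ ≠ 0 ∨ D.vH2 χ ≠ 0) : D.Plain χ := by
  refine ⟨D.vP_zero_of_base hyp (by tauto), fun τ hτ => ?_⟩
  by_contra hne
  obtain ⟨h1, h2, h3⟩ := D.base_zero_of_vZ hyp hτ hne
  tauto

/-- The value at `t` outside the supports of the short columns. -/
theorem plain_Tz {χ : Cfsg.IrrCharacter G} (h : D.Plain χ) :
    Tz E χ = (uOf F : ℤ) * (D.vH1 χ + D.vH2 χ) - sg F * D.vZ 1 χ := by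
  haveI := isCyclic_tor D.htr₁
  have hZ : D.sumZ χ = D.vZ 1 χ := by
    show ∑ j ∈ Finset.range (uOf F), D.vZ (D.τ₀ ^ j) χ = _
    rw [← D.card₁, ← Finset.add_sum_erase _ _
      (Finset.mem_range.2 (Nat.card_pos (α := tor D.g₁))), pow_zero_hom D.τ₀_inj,
      Finset.sum_eq_zero fun j hj => h.2 _ (pow_ne_one_of_pos D.τ₀_inj
        (Finset.mem_range.1 (Finset.mem_erase.1 hj).2) (Finset.mem_erase.1 hj).1), add_zero]
  have h1 := D.two_vH1 hyp χ
  have h2 := D.two_vH2 hyp χ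
  have h12 : D.vH1 χ + D.vH2 χ = D.vZ 1 χ + D.vP 1 χ := by omega
  rw [(D.vN_Tz_eq hyp χ).2, D.sumP_eq hyp h.1, hZ, h12]
  linear_combination (-(D.vZ 1 χ)) * u_eq hyp.mod8

/-- The two possible configurations. -/
theorem exists_shape : Nonempty D.Std ∨ Nonempty D.Tri := by
  classical
  obtain ⟨hxx, hyy, hww, hxy, hxw, hyw⟩ := D.dot_base hyp
  have fx := (D.col_vZ 1).deg_orth
  have fy := (D.col_vH1 hyp).deg_orth
  have fw := (D.col_vH2 hyp).deg_orth
  obtain ⟨cxy, axy⟩ := overlap deg_pos hxx hyy hxy fx fy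
  obtain ⟨cxw, axw⟩ := overlap deg_pos hxx hww hxw fx fw
  obtain ⟨cyw, ayw⟩ := overlap deg_pos hyy hww hyw fy fw
  have hsupp : ∀ v : Cfsg.IrrCharacter G → ℤ, dotp v v = 4 → ∑ i, v i * (deg i : ℤ) = 0 →
      (Finset.univ.filter fun i => v i ≠ 0).card = 4 := by
    intro v hv hvf
    rw [dotp] at hv
    have hone := ReeTypeS3.abs_le_one deg_pos hv.le hvf
    rw [← Finset.sum_filter_add_sum_filter_not Finset.univ (fun i => v i ≠ 0),
      Finset.sum_congr rfl (g := fun _ => (1 : ℤ)) fun i hi => by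
        rcases hone i with e | e | e <;> simp_all, Finset.sum_const,
      Finset.sum_eq_zero fun i hi => by simp_all] at hv
    simp only [nsmul_eq_mul, mul_one, add_zero] at hv
    exact_mod_cast hv
  obtain ⟨X, hX⟩ : ∃ X, X = Finset.univ.filter fun i => D.vZ 1 i ≠ 0 := ⟨_, rfl⟩
  obtain ⟨Ys, hYs⟩ : ∃ X, X = Finset.univ.filter fun i => D.vH1 i ≠ 0 := ⟨_, rfl⟩
  obtain ⟨W, hW⟩ : ∃ X, X = Finset.univ.filter fun i => D.vH2 i ≠ 0 := ⟨_, rfl⟩
  have mX : ∀ i, i ∈ X ↔ D.vZ 1 i ≠ 0 := fun i => by simp [hX]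
  have mY : ∀ i, i ∈ Ys ↔ D.vH1 i ≠ 0 := fun i => by simp [hYs]
  have mW : ∀ i, i ∈ W ↔ D.vH2 i ≠ 0 := fun i => by simp [hW]
  have kX : X.card = 4 := hX ▸ hsupp _ hxx fx
  have kY : Ys.card = 4 := hYs ▸ hsupp _ hyy fy
  have kW : W.card = 4 := hW ▸ hsupp _ hww fw
  have kXY : (X ∩ Ys).card = 2 := by rw [hX, hYs, ← Finset.filter_and]; exact cxy
  have kXW : (X ∩ W).card = 2 := by rw [hX, hW, ← Finset.filter_and]; exact cxw
  have kYW : (Ys ∩ W).card = 2 := by rw [hYs, hW, ← Finset.filter_and]; exact cyw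
  have hs0 : sg F ≠ 0 := by rcases sg_cases (F := F) with e | e <;> rw [e] <;> norm_num
  have tX : trivC G ∈ X := (mX _).2 (by rw [D.vZ_trivC hyp, if_pos rfl]; omega)
  have tY : trivC G ∉ Ys := fun h => (mY _).1 h (by
    have h1 := D.two_vH1 hyp (trivC G)
    rw [D.vZ_trivC hyp, if_pos rfl, D.vP_trivC hyp, if_pos rfl, D.vE_trivC hyp] at h1
    omega)
  have tW : trivC G ∉ W := fun h => (mW _).1 h (by
    have h1 := D.two_vH2 hyp (trivC G)
    rw [D.vZ_trivC hyp, if_pos rfl, D.vP_trivC hyp, if_pos rfl, D.vE_trivC hyp] at h1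
    omega)
  obtain ⟨A, B, hAB, eXY⟩ := Finset.card_eq_two.1 kXY
  have mXY : ∀ i, i ∈ X ∧ i ∈ Ys ↔ i = A ∨ i = B := fun i => by
    rw [← Finset.mem_inter, eXY]; simp
  -- the support of `vZ 1`
  have hA := (mXY A).2 (Or.inl rfl)
  have hB := (mXY B).2 (Or.inr rfl)
  have hsubX : ({trivC G, A, B} : Finset _) ⊆ X := by
    simp only [Finset.insert_subset_iff, Finset.singleton_subset_iff]
    exact ⟨tX, hA.1, hB.1⟩
  have k3 : ({trivC G, A, B} : Finset (Cfsg.IrrCharacter G)).card = 3 := by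
    rw [Finset.card_insert_of_notMem (by
      simp only [Finset.mem_insert, Finset.mem_singleton, not_or]
      exact ⟨fun e => tY (e ▸ hA.2), fun e => tY (e ▸ hB.2)⟩), Finset.card_pair hAB]
  obtain ⟨C, eC⟩ := Finset.card_eq_one.1 (show (X \ {trivC G, A, B}).card = 1 by
    rw [Finset.card_sdiff_of_subset hsubX, kX, k3])
  have mXl : ∀ i, i ∈ X ↔ i = trivC G ∨ i = A ∨ i = B ∨ i = C := by
    intro i
    have h := Finset.ext_iff.1 eC i
    simp only [Finset.mem_sdiff, Finset.mem_insert, Finset.mem_singleton] at h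
    constructor
    · intro hi; by_cases hh : i = trivC G ∨ i = A ∨ i = B <;> tauto
    · rintro (rfl | rfl | rfl | rfl)
      exacts [tX, hA.1, hB.1, (h.2 rfl).1]
  have hC : C ∈ X := (mXl C).2 (Or.inr (Or.inr (Or.inr rfl)))
  have hC' := (Finset.ext_iff.1 eC C).2 (Finset.mem_singleton_self C)
  simp only [Finset.mem_sdiff, Finset.mem_insert, Finset.mem_singleton, not_or] at hC'
  have hCY : C ∉ Ys := fun h => by
    rcases (mXY C).1 ⟨hC, h⟩ with e | e
    exacts [hC'.2.2.1 e, hC'.2.2.2 e]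
  have hone : ∀ i ∈ X ∩ W, i = A ∨ i = B ∨ i = C := by
    intro i hi
    rw [Finset.mem_inter] at hi
    rcases (mXl i).1 hi.1 with e | e | e | e
    · exact absurd (e ▸ hi.2) tW
    all_goals tauto
  -- which of the two common characters lie in the support of `vH2`
  by_cases hboth : A ∈ W ∧ B ∈ W
  · left
    have eXW : X ∩ W = {A, B} := (Finset.eq_of_subset_of_card_le (by
      simp only [Finset.insert_subset_iff, Finset.singleton_subset_iff, Finset.mem_inter]
      exact ⟨⟨hA.1, hboth.1⟩, hB.1, hboth.2⟩) (by rw [kXW, Finset.card_pair hAB])).symm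
    have eYW : Ys ∩ W = {A, B} := (Finset.eq_of_subset_of_card_le (by
      simp only [Finset.insert_subset_iff, Finset.singleton_subset_iff, Finset.mem_inter]
      exact ⟨⟨hA.2, hboth.1⟩, hB.2, hboth.2⟩) (by rw [kYW, Finset.card_pair hAB])).symm
    obtain ⟨P, R, hPR, eP⟩ := Finset.card_eq_two.1 (show (Ys \ (X ∩ Ys)).card = 2 by
      rw [Finset.card_sdiff_of_subset Finset.inter_subset_right, kY, kXY])
    obtain ⟨P2, R2, hPR2, eP2⟩ := Finset.card_eq_two.1 (show (W \ (X ∩ W)).card = 2 by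
      rw [Finset.card_sdiff_of_subset Finset.inter_subset_right, kW, kXW])
    simp only [eXY, Finset.ext_iff, Finset.mem_sdiff, Finset.mem_insert, Finset.mem_singleton] at eP
    simp only [eXW, Finset.ext_iff, Finset.mem_sdiff, Finset.mem_insert, Finset.mem_singleton] at eP2
    simp only [Finset.ext_iff, Finset.mem_inter, Finset.mem_insert, Finset.mem_singleton] at eXW eYW
    have hP := (eP P).2 (Or.inl rfl)
    have hR := (eP R).2 (Or.inr rfl)
    have hP2 := (eP2 P2).2 (Or.inl rfl)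
    have hR2 := (eP2 R2).2 (Or.inr rfl)
    refine ⟨{
      A := A, B := B, C := C, P := P, R := R, P2 := P2, R2 := R2,
      nodup := ?_,
      valA := ⟨(axy A ((mX A).1 hA.1) ((mY A).1 hA.2)).symm,
        (axw A ((mX A).1 hA.1) ((mW A).1 hboth.1)).symm⟩,
      valB := ⟨(axy B ((mX B).1 hB.1) ((mY B).1 hB.2)).symm,
        (axw B ((mX B).1 hB.1) ((mW B).1 hboth.2)).symm⟩,
      x_ne := ⟨(mX A).1 hA.1, (mX B).1 hB.1, (mX C).1 hC⟩,
      y_ne := ⟨(mY P).1 hP.1, (mY R).1 hR.1⟩,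
      w_ne := ⟨(mW P2).1 hP2.1, (mW R2).1 hR2.1⟩,
      x_zero := ?_, y_zero := ?_, w_zero := ?_ }⟩
    · simp only [List.nodup_cons, List.mem_cons, List.not_mem_nil, List.nodup_nil, or_false,
        not_or, and_true, not_false_eq_true]
      grind
    · intro χ h0 h1 h2 h3
      by_contra h; rcases (mXl χ).1 ((mX χ).2 h) with e | e | e | e <;> contradiction
    · intro χ h1 h2 h3 h4
      by_contra h
      rcases (eP χ).1 ⟨(mY χ).2 h, by tauto⟩ with e | e <;> contradiction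
    · intro χ h1 h2 h3 h4
      by_contra h
      rcases (eP2 χ).1 ⟨(mW χ).2 h, by tauto⟩ with e | e <;> contradiction
  · right
    -- name the common character `A'`
    obtain ⟨A', B', eAB, hA'W, hB'W⟩ : ∃ A' B', ({A', B'} : Finset _) = {A, B} ∧ A' ∈ W ∧ B' ∉ W := by
      have h2 : A ∈ W ∨ B ∈ W := by
        by_contra hh; push Not at hh
        have hle : (X ∩ W).card ≤ 1 := Finset.card_le_one.2 fun i hi j hj => by
          have := (Finset.mem_inter.1 hi).2; have := (Finset.mem_inter.1 hj).2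
          rcases hone i hi with rfl | rfl | rfl <;> rcases hone j hj with rfl | rfl | rfl <;> tauto
        omega
      rcases h2 with h | h
      · exact ⟨A, B, rfl, h, fun h' => hboth ⟨h, h'⟩⟩
      · exact ⟨B, A, Finset.pair_comm B A, h, fun h' => hboth ⟨h', h⟩⟩
    simp only [Finset.ext_iff, Finset.mem_insert, Finset.mem_singleton] at eAB
    have hA' := (mXY A').2 ((eAB A').1 (Or.inl rfl))
    have hB' := (mXY B').2 ((eAB B').1 (Or.inr rfl))
    have hCW : C ∈ W := by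
      by_contra hh
      have hle : (X ∩ W).card ≤ 1 := Finset.card_le_one.2 fun i hi j hj => by
        have := (Finset.mem_inter.1 hi).2; have := (Finset.mem_inter.1 hj).2
        have := eAB i; have := eAB j
        rcases hone i hi with rfl | rfl | rfl <;> rcases hone j hj with rfl | rfl | rfl <;> grind
      omega
    obtain ⟨P, eP⟩ := Finset.card_eq_one.1 (show ((Ys ∩ W) \ {A'}).card = 1 by
      rw [Finset.card_sdiff_of_subset (Finset.singleton_subset_iff.2 (Finset.mem_inter.2 ⟨hA'.2, hA'W⟩)),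
        kYW, Finset.card_singleton])
    simp only [Finset.ext_iff, Finset.mem_sdiff, Finset.mem_inter, Finset.mem_singleton] at eP
    have hP := (eP P).2 rfl
    have hPX : P ∉ X := fun h => by
      have := (mXY P).1 ⟨h, hP.1.1⟩
      have := eAB P
      grind
    obtain ⟨R, eR⟩ := Finset.card_eq_one.1 (show (Ys \ {A', B', P}).card = 1 by
      rw [Finset.card_sdiff_of_subset (by
        simp only [Finset.insert_subset_iff, Finset.singleton_subset_iff]
        exact ⟨hA'.2, hB'.2, hP.1.1⟩), kY, Finset.card_insert_of_notMem (by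
        simp only [Finset.mem_insert, Finset.mem_singleton, not_or]
        exact ⟨fun e => hB'W (e ▸ hA'W), fun e => hPX (e ▸ hA'.1)⟩), Finset.card_pair
        (fun e : B' = P => hB'W (e ▸ hP.1.2))])
    obtain ⟨R2, eR2⟩ := Finset.card_eq_one.1 (show (W \ {A', C, P}).card = 1 by
      rw [Finset.card_sdiff_of_subset (by
        simp only [Finset.insert_subset_iff, Finset.singleton_subset_iff]
        exact ⟨hA'W, hCW, hP.1.2⟩), kW, Finset.card_insert_of_notMem (by
        simp only [Finset.mem_insert, Finset.mem_singleton, not_or]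
        exact ⟨fun e => hCY (e ▸ hA'.2), fun e => hPX (e ▸ hA'.1)⟩), Finset.card_pair
        (fun e : C = P => hPX (e ▸ hC))])
    simp only [Finset.ext_iff, Finset.mem_sdiff, Finset.mem_insert, Finset.mem_singleton] at eR eR2
    have hR := (eR R).2 rfl
    have hR2 := (eR2 R2).2 rfl
    refine ⟨{
      A := A', B := B', C := C, P := P, R := R, R2 := R2,
      nodup := ?_,
      valA := ⟨(axy A' ((mX A').1 hA'.1) ((mY A').1 hA'.2)).symm,
        (axw A' ((mX A').1 hA'.1) ((mW A').1 hA'W)).symm⟩,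
      valB := (axy B' ((mX B').1 hB'.1) ((mY B').1 hB'.2)).symm,
      valC := (axw C ((mX C).1 hC) ((mW C).1 hCW)).symm,
      valP := (ayw P ((mY P).1 hP.1.1) ((mW P).1 hP.1.2)).symm,
      x_ne := ⟨(mX A').1 hA'.1, (mX B').1 hB'.1, (mX C).1 hC⟩,
      y_ne := ⟨(mY P).1 hP.1.1, (mY R).1 hR.1⟩,
      w_ne := (mW R2).1 hR2.1,
      x_zero := ?_, y_zero := ?_, w_zero := ?_ }⟩
    · have hRX : R ∉ X := fun h => by
        have := (mXY R).1 ⟨h, hR.1⟩; have := eAB R; grind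
      have hR2X : R2 ∉ X := fun h => by
        have := hone R2 (Finset.mem_inter.2 ⟨h, hR2.1⟩); have := eAB R2; grind
      have hRW : R ∉ W := fun h => by have := (eP R).1; grind
      simp only [List.nodup_cons, List.mem_cons, List.not_mem_nil, List.nodup_nil, or_false,
        not_or, and_true, not_false_eq_true]
      grind
    · intro χ h0 h1 h2 h3
      by_contra h
      have := eAB χ
      rcases (mXl χ).1 ((mX χ).2 h) with e | e | e | e <;> grind
    · intro χ h1 h2 h3 h4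
      by_contra h
      exact h4 ((eR χ).1 ⟨(mY χ).2 h, by tauto⟩)
    · intro χ h1 h2 h3 h4
      by_contra h
      exact h4 ((eR2 χ).1 ⟨(mW χ).2 h, by tauto⟩)

end Dat

end CfsgLib.JankoThompson
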