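import Cfsg.Agent.JankoThompson.Values
import Cfsg.Agent.ReeTypeS3.Rows
import Mathlib

/-!
# The four characters of an orbit of nontrivial characters of `C_r`
-/

set_option autoImplicit false
set_option linter.unusedSectionVars false
set_option linter.style.haveILetI false

namespace CfsgLib.JankoThompson

open Matrix CfsgLib.ReeTypeS3
open scoped MatrixGroups

universe u v

variable {G : Type u} [Group G] [Fintype G] {F : Type v} [Field F] [Fintype F]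

local notation "PST" => Matrix.ProjectiveSpecialLinearGroup (Fin 2) F

noncomputable local instance (priority := high) instFintypePSTOrbit :
    Fintype (Matrix.ProjectiveSpecialLinearGroup (Fin 2) F) := Fintype.ofFinite _

noncomputable local instance (priority := high) instFintypeSubOrbit
    (H : Subgroup (Matrix.ProjectiveSpecialLinearGroup (Fin 2) F)) : Fintype H := Fintype.ofFinite _

variable {E : Emb G (Matrix.ProjectiveSpecialLinearGroup (Fin 2) F)}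

namespace Dat

variable (hyp : Hyp E) (D : Dat E)

/-- The four characters belonging to the orbit of `μ`. -/
structure Orb (μ : D.c.Cr →* ℂˣ) where
  /-- The four characters. -/
  R : Finset (Cfsg.IrrCharacter G)
  /-- The character at which the three columns agree. -/
  i₀ : Cfsg.IrrCharacter G
  /-- Their common degree. -/
  f : ℕ
  card : R.card = 4
  mem : i₀ ∈ R
  hdeg : ∀ i ∈ R, deg i = f
  const : ∀ u : Cfsg.IrrCharacter G → ℤ, dotp u (D.vP μ) = 0 → dotp u (D.vP (D.rot hyp μ)) = 0 →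
    dotp u (D.vP (D.rot hyp (D.rot hyp μ))) = 0 → ∀ i ∈ R, ∀ j ∈ R, u i = u j
  at_i₀ : D.vP μ i₀ = 1 ∧ D.vP (D.rot hyp μ) i₀ = 1 ∧ D.vP (D.rot hyp (D.rot hyp μ)) i₀ = 1
  off : ∀ i ∈ R, i ≠ i₀ → D.vP μ i + D.vP (D.rot hyp μ) i + D.vP (D.rot hyp (D.rot hyp μ)) i = -1
  outside : ∀ i ∉ R, D.vP μ i = 0 ∧ D.vP (D.rot hyp μ) i = 0 ∧ D.vP (D.rot hyp (D.rot hyp μ)) i = 0
  base : ∀ i ∈ R, D.vE i = 0 ∧ D.vP 1 i = 0 ∧ ∀ τ, D.vZ τ i = 0
  hT : ∀ i ∈ R, Tz E i = ((Fintype.card F : ℤ) + sg F) *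
    (D.vP μ i + D.vP (D.rot hyp μ) i + D.vP (D.rot hyp (D.rot hyp μ)) i)
  hK : (Fintype.card F : ℚ) * Kq E * (f : ℚ) =
    ((Fintype.card F : ℚ) + (sg F : ℚ)) ^ 2 * (4 * (rOf F : ℚ))

include hyp

theorem exists_orb {μ : D.c.Cr →* ℂˣ} (hμ : μ ≠ 1) : Nonempty (D.Orb hyp μ) := by
  classical
  obtain ⟨μ₁, hμ₁⟩ : ∃ ν, ν = D.rot hyp μ := ⟨_, rfl⟩
  obtain ⟨μ₂, hμ₂⟩ : ∃ ν, ν = D.rot hyp μ₁ := ⟨_, rfl⟩
  have hodd := D.c.odd_Cr hyp
  have n1 : μ₁ ≠ 1 := hμ₁ ▸ D.rot_ne_one hyp hμ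
  have n2 : μ₂ ≠ 1 := hμ₂ ▸ D.rot_ne_one hyp n1
  have s0 := dlt_self_odd hodd hμ
  have s1 := dlt_self_odd hodd n1
  have s2 := dlt_self_odd hodd n2
  have d01 : dlt μ μ₁ = 0 := hμ₁ ▸ (D.dlt_rot hyp hμ).1
  have d02 : dlt μ μ₂ = 0 := by rw [hμ₂, hμ₁]; exact (D.dlt_rot hyp hμ).2
  have d12 : dlt μ₁ μ₂ = 0 := hμ₂ ▸ (D.dlt_rot hyp n1).1
  have d10 : dlt μ₁ μ = 0 := (dlt_comm _ _).trans d01
  have d20 : dlt μ₂ μ = 0 := (dlt_comm _ _).trans d02
  have d21 : dlt μ₂ μ₁ = 0 := (dlt_comm _ _).trans d12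
  have hpp := D.dot_PP hyp
  have hdo : ∀ ν, ∑ χ, D.vP ν χ * (deg χ : ℤ) = 0 := fun ν => (D.col_vP ν).deg_orth
  have par1 : ∀ χ, (2 : ℤ) ∣ D.vP μ χ - D.vP μ₁ χ := fun χ => hμ₁ ▸ D.parity_rot hyp μ χ
  have par2 : ∀ χ, (2 : ℤ) ∣ D.vP μ χ - D.vP μ₂ χ := fun χ => by
    have h2 : (2 : ℤ) ∣ D.vP μ₁ χ - D.vP μ₂ χ := hμ₂ ▸ D.parity_rot hyp μ₁ χ
    simpa using dvd_add (par1 χ) h2
  have q0 : dotp (D.vP μ) (D.vP μ) = 4 := by rw [hpp, s0, mul_one]
  have q1 : dotp (D.vP μ₁) (D.vP μ₁) = 4 := by rw [hpp, s1, mul_one]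
  have q2 : dotp (D.vP μ₂) (D.vP μ₂) = 4 := by rw [hpp, s2, mul_one]
  have q01 : dotp (D.vP μ) (D.vP μ₁) = 0 := by rw [hpp, d01, mul_zero]
  have q02 : dotp (D.vP μ) (D.vP μ₂) = 0 := by rw [hpp, d02, mul_zero]
  have q12 : dotp (D.vP μ₁) (D.vP μ₂) = 0 := by rw [hpp, d12, mul_zero]
  obtain ⟨R, hR, hconst, i₀, hi₀, -, -, hw₀, -⟩ := rows (a := D.vP μ) (b := D.vP μ₁) (c := D.vP μ₂)
    (f := deg) deg_pos q0 q1 q2 q01 q02 q12 par1 par2 (hdo μ) (hdo μ₁) (hdo μ₂)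
  have constC : ∀ u : Cfsg.IrrCharacter G → ℤ, dotp u (D.vP μ) = 0 → dotp u (D.vP μ₁) = 0 →
      dotp u (D.vP μ₂) = 0 → ∀ i ∈ R, ∀ j ∈ R, u i = u j := fun u a b d i hi j hj => by
    have := hconst (fun χ => (u χ : ℂ)) (orth_cast a) (orth_cast b) (orth_cast d) i hi j hj
    exact_mod_cast this
  have zero : ∀ u : Cfsg.IrrCharacter G → ℤ, dotp u (D.vP μ) = 0 → dotp u (D.vP μ₁) = 0 →
      dotp u (D.vP μ₂) = 0 → dotp u u ≤ 4 → (∑ χ, u χ * (deg χ : ℤ) = 0) → ∀ i ∈ R, u i = 0 :=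
    fun u a b d hn hf i hi => eq_zero_of_const hR deg_pos hn hf (constC u a b d) hi
  -- signs
  have va := abs_le_one (v := D.vP μ) deg_pos q0.le (hdo μ)
  have vb := abs_le_one (v := D.vP μ₁) deg_pos q1.le (hdo μ₁)
  have vc := abs_le_one (v := D.vP μ₂) deg_pos q2.le (hdo μ₂)
  obtain ⟨σ, hσ, hs₀⟩ : ∃ σ : ℤ, (σ = 1 ∨ σ = -1) ∧
      D.vP μ i₀ + D.vP μ₁ i₀ + D.vP μ₂ i₀ = 3 * σ := by
    rcases mul_self_eq_mul_self_iff.1 (show (D.vP μ i₀ + D.vP μ₁ i₀ + D.vP μ₂ i₀) *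
        (D.vP μ i₀ + D.vP μ₁ i₀ + D.vP μ₂ i₀) = 3 * 3 by rw [← pow_two, hw₀]; norm_num) with h | h
    · exact ⟨1, Or.inl rfl, by rw [h, mul_one]⟩
    · exact ⟨-1, Or.inr rfl, by rw [h]; norm_num⟩
  have hσa : D.vP μ i₀ = σ ∧ D.vP μ₁ i₀ = σ ∧ D.vP μ₂ i₀ = σ := by
    have := va i₀; have := vb i₀; have := vc i₀
    omega
  let s : Cfsg.IrrCharacter G → ℤ := fun χ => D.vP μ χ + D.vP μ₁ χ + D.vP μ₂ χ
  have hoff : ∀ i ∈ R, i ≠ i₀ → s i = -σ := by
    intro i hi hne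
    let x : Cfsg.IrrCharacter G → ℤ := fun χ => s χ - (if χ = i₀ then 4 * σ else 0)
    have hx : ∀ ν, dotp x (D.vP ν) = 4 * (dlt μ ν + dlt μ₁ ν + dlt μ₂ ν) - 4 * σ * D.vP ν i₀ := by
      intro ν
      simp only [x, s, dotp_sub, dotp_add, hpp]
      rw [show dotp (fun χ => if χ = i₀ then 4 * σ else 0) (D.vP ν) = 4 * σ * D.vP ν i₀ by
        simp [dotp, ite_mul]]
      ring
    have hσσ : σ * σ = 1 := by rcases hσ with e | e <;> rw [e] <;> norm_num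
    have := constC x (by rw [hx, s0, d10, d20, hσa.1]; linear_combination (-4 : ℤ) * hσσ)
      (by rw [hx, d01, s1, d21, hσa.2.1]; linear_combination (-4 : ℤ) * hσσ)
      (by rw [hx, d02, d12, s2, hσa.2.2]; linear_combination (-4 : ℤ) * hσσ) i hi i₀ hi₀
    simp only [x, if_neg hne, if_true, sub_zero] at this
    simp only [s] at this ⊢
    omega
  have hne0 : ∀ i ∈ R, (D.vP μ i = 1 ∨ D.vP μ i = -1) ∧ (D.vP μ₁ i = 1 ∨ D.vP μ₁ i = -1) ∧
      (D.vP μ₂ i = 1 ∨ D.vP μ₂ i = -1) := by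
    intro i hi
    by_cases e : i = i₀
    · subst e
      rw [hσa.1, hσa.2.1, hσa.2.2]
      exact ⟨hσ, hσ, hσ⟩
    · have h := hoff i hi e
      have := va i; have := vb i; have := vc i; have := par1 i; have := par2 i
      simp only [s] at h
      rcases hσ with e' | e' <;> omega
  have hsupp : ∀ v : Cfsg.IrrCharacter G → ℤ, dotp v v = 4 → (∀ i ∈ R, v i = 1 ∨ v i = -1) →
      ∀ i ∉ R, v i = 0 := by
    intro v hv h1 i hi
    have h2 := Finset.sum_sdiff (s₁ := R) (f := fun j => v j * v j) (Finset.subset_univ R)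
    rw [Finset.sum_congr rfl (g := fun _ => (1 : ℤ)) (s₂ := R) (fun j hj => by
      rcases h1 j hj with e | e <;> rw [e] <;> norm_num), Finset.sum_const, hR] at h2
    rw [dotp] at hv
    rw [hv] at h2
    have h4 := (Finset.sum_eq_zero_iff_of_nonneg
      (s := Finset.univ \ R) fun j _ => mul_self_nonneg (v j)).1 (by simpa using h2) i
      (Finset.mem_sdiff.2 ⟨Finset.mem_univ i, hi⟩)
    exact mul_self_eq_zero.1 h4
  -- every short column is a combination of the three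
  have hcomb : ∀ ν : D.c.Cr →* ℂˣ, ν ≠ 1 → ∀ i ∈ R, D.vP ν i =
      dlt ν μ * D.vP μ i + dlt ν μ₁ * D.vP μ₁ i + dlt ν μ₂ * D.vP μ₂ i := by
    intro ν hν i hi
    let y : Cfsg.IrrCharacter G → ℤ := fun χ => D.vP ν χ -
      (dlt ν μ * D.vP μ χ + dlt ν μ₁ * D.vP μ₁ χ + dlt ν μ₂ * D.vP μ₂ χ)
    have hy : ∀ κ, dotp y (D.vP κ) = 4 * dlt ν κ -
        (dlt ν μ * (4 * dlt μ κ) + dlt ν μ₁ * (4 * dlt μ₁ κ) + dlt ν μ₂ * (4 * dlt μ₂ κ)) := fun κ => by
      simp only [y, dotp_sub, dotp_add, dotp_smul, hpp]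
    refine sub_eq_zero.1 (zero y ?_ ?_ ?_ ?_ ?_ i hi)
    · rw [hy, s0, d10, d20]; ring
    · rw [hy, s1, d01, d21]; ring
    · rw [hy, s2, d02, d12]; ring
    · have h1 := hy ν
      have h2 := hy μ; have h4 := hy μ₁; have h5 := hy μ₂
      simp only [s0, s1, s2, d01, d02, d12, d10, d20, d21] at h2 h4 h5
      have key : dotp y y = dotp y (D.vP ν) - (dlt ν μ * dotp y (D.vP μ) +
          dlt ν μ₁ * dotp y (D.vP μ₁) + dlt ν μ₂ * dotp y (D.vP μ₂)) := by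
        conv_lhs => arg 2; simp only [y]
        simp only [dotp_sub', dotp_add', dotp_smul']
      rw [key, h1, h2, h4, h5, dlt_self_odd hodd hν, dlt_comm μ ν, dlt_comm μ₁ ν, dlt_comm μ₂ ν]
      nlinarith [mul_self_nonneg (dlt ν μ), mul_self_nonneg (dlt ν μ₁), mul_self_nonneg (dlt ν μ₂)]
    · simp only [y, sub_mul, add_mul, Finset.sum_sub_distrib, Finset.sum_add_distrib, mul_assoc,
        ← Finset.mul_sum, hdo]
      ring
  -- the base columns vanish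
  have hEzero : ∀ i ∈ R, D.vE i = 0 := zero _ (D.dot_EP hyp _) (D.dot_EP hyp _) (D.dot_EP hyp _)
    (D.dot_EE hyp).le D.col_vE.deg_orth
  have hZzero : ∀ τ, ∀ i ∈ R, D.vZ τ i = 0 := by
    intro τ
    refine zero _ ?_ ?_ ?_ ?_ (D.col_vZ τ).deg_orth
    · rw [dotp_comm, D.dot_PZ hyp]
    · rw [dotp_comm, D.dot_PZ hyp]
    · rw [dotp_comm, D.dot_PZ hyp]
    · have hle : dlt τ τ ≤ 2 := by unfold dlt; split_ifs <;> norm_num
      rw [D.dot_ZZ hyp]; omega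
  have hHzero : ∀ i ∈ R, D.vH1 i = 0 := by
    have hperp : ∀ ν, ν ≠ 1 → dotp D.vH1 (D.vP ν) = 0 := fun ν hν => by
      have h := D.two_dot_vH1 hyp (D.vP ν)
      rw [dotp_comm (D.vZ 1), D.dot_PZ hyp, hpp, dlt_one_left hν, D.dot_EP hyp] at h
      omega
    refine zero _ (hperp _ hμ) (hperp _ n1) (hperp _ n2) ?_ (D.col_vH1 hyp).deg_orth
    have h := D.two_dot_vH1 hyp D.vH1
    rw [dotp_comm (D.vZ 1), dotp_comm (D.vP 1), dotp_comm D.vE] at h
    have hZ := D.two_dot_vH1 hyp (D.vZ 1)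
    have hP := D.two_dot_vH1 hyp (D.vP 1)
    have hE := D.two_dot_vH1 hyp D.vE
    rw [D.dot_ZZ hyp, dlt_one_one, D.dot_PZ hyp, D.dot_EZ hyp] at hZ
    rw [dotp_comm (D.vZ 1), D.dot_PZ hyp, hpp, dlt_one_one, D.dot_EP hyp] at hP
    rw [dotp_comm (D.vZ 1), D.dot_EZ hyp, dotp_comm (D.vP 1), D.dot_EP hyp, D.dot_EE hyp] at hE
    omega
  have hP1zero : ∀ i ∈ R, D.vP 1 i = 0 := fun i hi => by
    have h := D.two_vH1 hyp i
    rw [hHzero i hi, hZzero 1 i hi, hEzero i hi] at h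
    omega
  have hT : ∀ i ∈ R, Tz E i = ((Fintype.card F : ℤ) + sg F) * s i := by
    intro i hi
    haveI := D.c.isCyclic_Cr
    have hP : D.sumP i = 2 * s i := by
      show ∑ j ∈ Finset.range (rOf F), D.vP (D.μ₀ ^ j) i = 2 * s i
      rw [← D.c.natCard_Cr, ← Finset.add_sum_erase _ _
        (Finset.mem_range.2 (Nat.card_pos (α := D.c.Cr))), pow_zero_hom D.μ₀_inj, hP1zero i hi,
        zero_add]
      rw [Finset.sum_congr rfl fun j hj => hcomb (D.μ₀ ^ j)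
        (pow_ne_one_of_pos D.μ₀_inj (Finset.mem_range.1 (Finset.mem_erase.1 hj).2)
          (Finset.mem_erase.1 hj).1) i hi]
      simp only [Finset.sum_add_distrib, ← Finset.sum_mul, sum_dlt D.μ₀_inj hμ,
        sum_dlt D.μ₀_inj n1, sum_dlt D.μ₀_inj n2, s]
      ring
    have hZ : D.sumZ i = 0 := Finset.sum_eq_zero fun j _ => hZzero _ i hi
    rw [(D.vN_Tz_eq hyp i).2, hP, hZ]
    linear_combination (2 * s i) * u_eq hyp.mod8 - (s i) * q_eq hyp.mod8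
  obtain ⟨f, hf⟩ : ∃ f, f = deg i₀ := ⟨_, rfl⟩
  have hdeg : ∀ i ∈ R, deg i = f := fun i hi => by
    have hdc : ∀ ν, dotp (fun χ => (deg χ : ℤ)) (D.vP ν) = 0 := fun ν => by
      rw [dotp_comm]; exact hdo ν
    have := constC (fun χ => (deg χ : ℤ)) (hdc _) (hdc _) (hdc _) i hi i₀ hi₀
    rw [hf]; exact_mod_cast this
  have hfq : (f : ℚ) ≠ 0 := by rw [hf]; exact_mod_cast (deg_pos i₀).ne'
  have htw : tw E s = Kq E * (6 * (Fintype.card F : ℚ) / (rOf F : ℚ)) := by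
    simp only [s, tw_add]
    rw [tw_vP hyp D, tw_vP hyp D, tw_vP hyp D, if_neg hμ, if_neg n1, if_neg n2]
    ring
  have htw' : tw E s = 24 * (σ : ℚ) *
      ((Fintype.card F : ℚ) + (sg F : ℚ)) ^ 2 / (f : ℚ) := by
    have hout : ∀ i ∉ R, s i = 0 := fun i hi => by
      simp only [s, hsupp _ q0 (fun j hj => (hne0 j hj).1) i hi,
        hsupp _ q1 (fun j hj => (hne0 j hj).2.1) i hi,
        hsupp _ q2 (fun j hj => (hne0 j hj).2.2) i hi, add_zero]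
    rw [tw, ← Finset.sum_subset (Finset.subset_univ R) (fun i _ hi => by
      rw [hout i hi, Int.cast_zero, zero_mul, zero_div]), ← Finset.add_sum_erase _ _ hi₀,
      Finset.sum_congr rfl (g := fun _ => -(σ : ℚ) *
        ((Fintype.card F : ℚ) + (sg F : ℚ)) ^ 2 / (f : ℚ)) (s₂ := R.erase i₀) fun i hi => ?_,
      Finset.sum_const, Finset.card_erase_of_mem hi₀, hR, hT i₀ hi₀, hdeg i₀ hi₀]
    · simp only [s, hs₀]
      rcases hσ with e | e <;> rw [e] <;> push_cast <;> ring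
    · obtain ⟨hi0, hiR⟩ := Finset.mem_erase.1 hi
      rw [hT i hiR, hdeg i hiR, hoff i hiR hi0]
      rcases hσ with e | e <;> rw [e] <;> push_cast <;> ring
  have hKpos : 0 < Kq E := by
    have : (0 : ℚ) < Nat.card (Subgroup.centralizer ({E.t} : Set G)) := by exact_mod_cast Nat.card_pos
    have : (0 : ℚ) < Nat.card G := by exact_mod_cast Nat.card_pos
    unfold Kq; positivity
  have hr0 : (0 : ℚ) < rOf F := by
    have := three_le_r hyp.mod8; exact_mod_cast (by omega : 0 < rOf F)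
  have hm0 : ((Fintype.card F : ℚ) + (sg F : ℚ)) ≠ 0 := by
    have h11 := hyp.mod8.1
    rcases sg_cases (F := F) with e | e <;> rw [e] <;> push_cast <;>
      · have : (11 : ℚ) ≤ Fintype.card F := by exact_mod_cast h11
        intro h; linarith
  have hq0 : (0 : ℚ) < Fintype.card F := by exact_mod_cast Fintype.card_pos
  have hσ1 : σ = 1 := by
    rcases hσ with e | e
    · exact e
    · exfalso
      have h := htw.symm.trans htw'
      rw [e] at h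
      have hl : (0 : ℚ) < Kq E * (6 * (Fintype.card F : ℚ) / (rOf F : ℚ)) := by positivity
      have hf0 : (0 : ℚ) < f := lt_of_le_of_ne (Nat.cast_nonneg f) (Ne.symm hfq)
      have hle : 24 * ((-1 : ℤ) : ℚ) * ((Fintype.card F : ℚ) + (sg F : ℚ)) ^ 2 / (f : ℚ) ≤ 0 := by
        apply div_nonpos_of_nonpos_of_nonneg _ hf0.le
        have := sq_nonneg ((Fintype.card F : ℚ) + (sg F : ℚ))
        push_cast
        linarith
      linarith
  subst hσ1 hμ₂ hμ₁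
  refine ⟨⟨R, i₀, f, hR, hi₀, hdeg, ?_, ?_, ?_, ?_, fun i hi => ⟨hEzero i hi, hP1zero i hi,
    fun τ => hZzero τ i hi⟩, ?_, ?_⟩⟩
  · exact constC
  · exact hσa
  · exact hoff
  · intro i hi
    exact ⟨hsupp _ q0 (fun j hj => (hne0 j hj).1) i hi, hsupp _ q1 (fun j hj => (hne0 j hj).2.1) i hi,
      hsupp _ q2 (fun j hj => (hne0 j hj).2.2) i hi⟩
  · exact hT
  · have h := htw.symm.trans htw'
    field_simp at h
    push_cast at h
    linear_combination (1 / 6 : ℚ) * h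

/-- The common degree does not depend on the orbit. -/
theorem Orb.f_eq {μ ν : D.c.Cr →* ℂˣ} (o : D.Orb hyp μ) (o' : D.Orb hyp ν) : o.f = o'.f := by
  have h := o.hK.trans o'.hK.symm
  have hK : (Fintype.card F : ℚ) * Kq E ≠ 0 := by
    have h1 : (0 : ℚ) < Nat.card (Subgroup.centralizer ({E.t} : Set G)) := by exact_mod_cast Nat.card_pos
    have h2 : (0 : ℚ) < Nat.card G := by exact_mod_cast Nat.card_pos
    refine mul_ne_zero (Nat.cast_ne_zero.2 Fintype.card_ne_zero) ?_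
    unfold Kq; positivity
  exact_mod_cast mul_left_cancel₀ hK h

theorem Orb.f_pos {μ : D.c.Cr →* ℂˣ} (o : D.Orb hyp μ) : 0 < o.f := o.hdeg _ o.mem ▸ deg_pos _

end Dat

end CfsgLib.JankoThompson
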