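import Cfsg.Agent.JankoThompson.Cycle
import Cfsg.Agent.ReeTypeS3.Columns
import Cfsg.Agent.ReeTypeS3.Tools
import Cfsg.Agent.ReeTypeS3.Moved
import Mathlib

/-!
# The signed columns of the section of `t` and their Gram matrix
-/

set_option autoImplicit false
set_option linter.unusedSectionVars false
set_option linter.style.haveILetI false

namespace CfsgLib.JankoThompson

open Matrix CfsgLib.ReeTypeS3
open scoped MatrixGroups

universe u v

variable {G : Type u} [Group G] [Fintype G] {F : Type v} [Field F] [Fintype F]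

local notation "PST" => Matrix.ProjectiveSpecialLinearGroup (Fin 2) F
local notation "qC" => (Fintype.card F : ℂ)

noncomputable local instance (priority := high) instFintypePSTSection :
    Fintype (Matrix.ProjectiveSpecialLinearGroup (Fin 2) F) := Fintype.ofFinite _

noncomputable local instance (priority := high) instFintypeSubSection
    (H : Subgroup (Matrix.ProjectiveSpecialLinearGroup (Fin 2) F)) : Fintype H := Fintype.ofFinite _

/-- The chosen tori and nonsquare. -/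
structure Dat (E : Emb G (Matrix.ProjectiveSpecialLinearGroup (Fin 2) F)) where
  /-- The cycling data. -/
  c : Cyc E
  /-- A matrix whose torus has order `u`. -/
  g₁ : SL(2, F)
  /-- A nonsquare. -/
  ns : F
  htr₁ : SL2Tori.tr g₁ ^ 2 ≠ 4
  card₁ : Nat.card (tor g₁) = uOf F
  hns : ¬ IsSquare ns

variable {E : Emb G (Matrix.ProjectiveSpecialLinearGroup (Fin 2) F)}

theorem exists_dat (hyp : Hyp E) : Nonempty (Dat E) := by
  obtain ⟨c⟩ := exists_cyc hyp
  obtain ⟨g₁, ht₁, hc₁⟩ := exists_tor_odd hyp.mod8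
  obtain ⟨n, hn⟩ := FiniteField.exists_nonsquare (F := F) (fun h => by
    have := FiniteField.even_card_of_char_two h
    have := Nat.odd_iff.1 (odd_card hyp.mod8)
    omega)
  exact ⟨⟨c, g₁, n, ht₁, hc₁, hn⟩⟩

namespace Dat

variable (D : Dat E)

theorem ns_ne_zero : D.ns ≠ 0 := fun h => D.hns (h ▸ IsSquare.zero)

theorem one_ne_ns : (1 : F) ≠ D.ns := fun h => D.hns (h ▸ IsSquare.one)

/-- The sum of the two unipotent columns. -/
noncomputable def vN : Cfsg.IrrCharacter G → ℤ :=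
  fun χ => Pz E (subQ (F := F)) (lam 1) χ + Pz E (subQ (F := F)) (lam D.ns) χ

/-- Their difference. -/
noncomputable def vE : Cfsg.IrrCharacter G → ℤ :=
  fun χ => Pz E (subQ (F := F)) (lam 1) χ - Pz E (subQ (F := F)) (lam D.ns) χ

/-- The short columns of the torus of order `2 r`. -/
noncomputable def vP (μ : D.c.Cr →* ℂˣ) : Cfsg.IrrCharacter G → ℤ :=
  fun χ => sg F * (Pz E D.c.Cr μ χ - 2 * D.vN χ)

/-- The short columns of the torus of order `u`. -/
noncomputable def vZ (τ : tor D.g₁ →* ℂˣ) : Cfsg.IrrCharacter G → ℤ :=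
  fun χ => sg F * (D.vN χ - Pz E (tor D.g₁) τ χ)

variable (hyp : Hyp E)
include hyp

theorem qC_eq : qC = 4 * (rOf F : ℂ) + (sg F : ℂ) := by exact_mod_cast q_eq hyp.mod8

theorem uC_eq : (uOf F : ℂ) = 2 * (rOf F : ℂ) + (sg F : ℂ) := by exact_mod_cast u_eq hyp.mod8

theorem sgC_sq : (sg F : ℂ) * (sg F : ℂ) = 1 := by
  rcases sg_cases (F := F) with e | e <;> rw [e] <;> norm_num

theorem card_L : (Fintype.card PST : ℂ) = 4 * qC * (rOf F : ℂ) * (uOf F : ℂ) := by
  have h := natCard_L hyp.mod8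
  rw [Nat.card_eq_fintype_card] at h
  exact_mod_cast h

theorem dot_of_gsum' (H : Subgroup PST) (α : H →* ℂˣ) (K : Subgroup PST) (β : K →* ℂˣ)
    (hH : Odd (Nat.card H)) (hK : Odd (Nat.card K)) (z : ℤ)
    (h : 2 * gsum H α K β = (Nat.card H : ℂ) * (Nat.card K : ℂ) * (z : ℂ)) :
    dotp (Pz E H α) (Pz E K β) = z := by
  have h1 := sum_P_mul E H α K β hH hK
  rw [h, Nat.card_eq_fintype_card, Nat.card_eq_fintype_card, mul_div_cancel_left₀ _
    (mul_ne_zero (Nat.cast_ne_zero.2 Fintype.card_ne_zero) (Nat.cast_ne_zero.2 Fintype.card_ne_zero))]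
    at h1
  rw [dotp]
  exact_mod_cast h1

theorem odd_subQ' : Odd (Nat.card (subQ (F := F))) := by
  rw [natCard_subQ, Nat.card_eq_fintype_card]; exact odd_card hyp.mod8

theorem coprime_q_r : Nat.Coprime (Fintype.card F) (rOf F) := by
  have h := sq_sub_one hyp.mod8
  have hpos : 1 ≤ Fintype.card F ^ 2 := Nat.one_le_pow _ _ Fintype.card_pos
  rw [Nat.coprime_iff_gcd_eq_one]
  refine Nat.dvd_one.1 ?_
  have h1 : Nat.gcd (Fintype.card F) (rOf F) ∣ Fintype.card F ^ 2 :=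
    (Nat.gcd_dvd_left _ _).pow two_ne_zero
  have h2 : Nat.gcd (Fintype.card F) (rOf F) ∣ Fintype.card F ^ 2 - 1 := by
    rw [h]; exact ((Nat.gcd_dvd_right _ _).mul_right _).mul_left 8
  have h3 := Nat.dvd_sub h1 h2
  rwa [show Fintype.card F ^ 2 - (Fintype.card F ^ 2 - 1) = 1 by omega] at h3

theorem coprime_q_u : Nat.Coprime (Fintype.card F) (uOf F) := by
  have h := sq_sub_one hyp.mod8
  have hpos : 1 ≤ Fintype.card F ^ 2 := Nat.one_le_pow _ _ Fintype.card_pos
  rw [Nat.coprime_iff_gcd_eq_one]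
  refine Nat.dvd_one.1 ?_
  have h1 : Nat.gcd (Fintype.card F) (uOf F) ∣ Fintype.card F ^ 2 :=
    (Nat.gcd_dvd_left _ _).pow two_ne_zero
  have h2 : Nat.gcd (Fintype.card F) (uOf F) ∣ Fintype.card F ^ 2 - 1 := by
    rw [h]; exact ((Nat.gcd_dvd_right _ _).mul_left _).mul_left 8
  have h3 := Nat.dvd_sub h1 h2
  rwa [show Fintype.card F ^ 2 - (Fintype.card F ^ 2 - 1) = 1 by omega] at h3

theorem odd_g₁ : Odd (Nat.card (tor D.g₁)) := by rw [D.card₁]; exact odd_u hyp.mod8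

theorem gsum_subQ' {e₁ e₂ : F} (h₁ : e₁ ≠ 0) (h : ∀ a : F, e₂ * (a * a) = e₁ → e₁ = e₂)
    [Decidable (e₁ = e₂)] :
    2 * gsum (subQ (F := F)) (lam e₁) (subQ (F := F)) (lam e₂) =
      qC * qC * (if e₁ = e₂ then qC + 1 else qC - 1) := by
  classical
  have h2 := two_ne hyp
  obtain ⟨B, hB⟩ : ∃ B : Finset PST, B = Finset.univ.filter fun l => InB l := ⟨_, rfl⟩
  have hmem : ∀ l, l ∈ B ↔ InB l := fun l => by simp [hB]
  have hin : ∀ l ∈ B, ∀ h : subQ (F := F), l * (h : PST) * l⁻¹ ∈ subQ (F := F) := by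
    rintro l hl ⟨_, b, rfl⟩
    obtain ⟨a, -, ha⟩ := inB_conj ((hmem l).1 hl)
    exact ⟨_, (ha (Multiplicative.toAdd b)).symm⟩
  have hout : ∀ l ∉ B, ∀ h : subQ (F := F), h ≠ 1 → l * (h : PST) * l⁻¹ ∉ subQ (F := F) :=
    fun l hl h hh hc => hl ((hmem l).2 (inB_of_conj h2 h.2 (fun e => hh (Subtype.ext e)) hc))
  rw [gsum_eq (subQ (F := F)) (lam e₁) (subQ (F := F)) (lam e₂) B hout hin
    (fun l => if e₁ = e₂ ∧ l ∈ subQ (F := F) then qC else 0) fun l hl => ?_]
  · have hBc : 2 * (B.card : ℂ) = qC * (qC - 1) := by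
      have h := two_mul_natCard_inB (F := F) h2
      rw [Nat.card_eq_fintype_card, Fintype.card_subtype, ← hB] at h
      have h' : (2 * B.card : ℂ) = ((Fintype.card F * (Fintype.card F - 1) : ℕ) : ℂ) := by
        exact_mod_cast h
      rw [h']
      push_cast [Nat.cast_sub (Nat.one_le_iff_ne_zero.2 Fintype.card_ne_zero)]
      ring
    have hL : 2 * (Fintype.card PST : ℂ) = qC * (qC ^ 2 - 1) := by
      have hs := sq_sub_one hyp.mod8
      have hpos : 1 ≤ Fintype.card F ^ 2 := Nat.one_le_pow _ _ Fintype.card_pos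
      have hs' : qC ^ 2 - 1 = 8 * ((rOf F : ℂ) * (uOf F : ℂ)) := by
        have : ((Fintype.card F ^ 2 - 1 : ℕ) : ℂ) = ((8 * (rOf F * uOf F) : ℕ) : ℂ) := by rw [hs]
        rw [Nat.cast_sub hpos] at this
        push_cast at this
        exact this
      rw [card_L hyp, hs']; ring
    by_cases he : e₁ = e₂
    · have hQ : (B.filter fun l => e₁ = e₂ ∧ l ∈ subQ (F := F)) =
          Finset.univ.filter fun l => l ∈ subQ (F := F) := by
        ext l
        simp only [Finset.mem_filter, he, true_and, Finset.mem_univ, hmem, and_iff_right_iff_imp]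
        rintro ⟨b, rfl⟩
        exact inB_iff.2 ⟨LocalEven50.upperHom F b,
          (show (LocalEven50.upperHom F b : Matrix (Fin 2) (Fin 2) F) 1 0 = 0 from rfl), rfl⟩
      rw [if_pos he, ← Finset.sum_filter, hQ, Finset.sum_const, nsmul_eq_mul,
        ← Fintype.card_subtype,
        show Fintype.card {l // l ∈ subQ (F := F)} = Fintype.card F by
          rw [← Nat.card_eq_fintype_card, ← Nat.card_eq_fintype_card]; exact natCard_subQ]
      linear_combination hL - hBc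
    · rw [if_neg he, Finset.sum_eq_zero fun l _ => by rw [if_neg fun h => he h.1]]
      linear_combination hL - hBc
  · obtain ⟨a, -, ha⟩ := inB_conj ((hmem l).1 hl)
    let ψ := AddChar.FiniteField.primitiveChar_to_Complex F
    have hψ : ψ.IsPrimitive := AddChar.FiniteField.primitiveChar_to_Complex_isPrimitive F
    calc ∑ h : subQ (F := F), (((lam e₁ h)⁻¹ : ℂˣ) : ℂ) *
          ((lam e₂ ⟨l * (h : PST) * l⁻¹, hin l hl h⟩ : ℂˣ) : ℂ)
        = ∑ x : F, ψ (x * (e₂ * (a * a) - e₁)) := by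
          refine (Fintype.sum_bijective (fun x : F => (⟨uQ (.ofAdd x), uQ_mem _⟩ : subQ (F := F)))
            ⟨fun x y h => ?_, ?_⟩ _ _ fun x => ?_).symm
          · exact Multiplicative.ofAdd.injective (uQ_injective (congrArg Subtype.val h))
          · rintro ⟨_, b, rfl⟩
            exact ⟨Multiplicative.toAdd b, rfl⟩
          · have e : (⟨l * uQ (.ofAdd x) * l⁻¹, hin l hl ⟨_, uQ_mem _⟩⟩ : subQ (F := F)) =
                ⟨uQ (.ofAdd (a * a * x)), uQ_mem _⟩ := Subtype.ext (ha x)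
            rw [e, Units.val_inv_eq_inv_val, lam_apply, lam_apply,
              show x * (e₂ * (a * a) - e₁) = -(e₁ * x) + e₂ * (a * a * x) by ring,
              AddChar.map_add_eq_mul, AddChar.map_neg_eq_inv]
      _ = if e₁ = e₂ ∧ l ∈ subQ (F := F) then qC else 0 := by
          rw [AddChar.sum_mulShift _ hψ]
          have hiff : e₂ * (a * a) - e₁ = 0 ↔ e₁ = e₂ ∧ l ∈ subQ (F := F) := by
            constructor
            · intro h'
              have h'' := sub_eq_zero.1 h'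
              have he := h a h''
              subst he
              have haa : a * a = 1 := mul_left_cancel₀ h₁ (by rw [mul_one]; exact h'')
              exact ⟨rfl, mem_subQ_of_commute h2 (by rw [ha, haa]; norm_num)⟩
            · rintro ⟨rfl, b, rfl⟩
              have h := ha 1
              rw [← map_inv, ← map_mul, ← map_mul, mul_comm b, mul_inv_cancel_right, mul_one] at h
              have haa : a * a = 1 := (congrArg Multiplicative.toAdd (uQ_injective h)).symm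
              rw [haa]; ring
          by_cases h' : e₁ = e₂ ∧ l ∈ subQ (F := F)
          · rw [if_pos h', if_pos (hiff.2 h')]
          · rw [if_neg h', if_neg fun h'' => h' (hiff.1 h''), Nat.cast_zero]

theorem gsum_tor' {g : SL(2, F)} (htr : SL2Tori.tr g ^ 2 ≠ 4) (H : Subgroup PST) (hH : H ≤ tor g)
    (α β : H →* ℂˣ) [Decidable (α = β)] [Decidable (α = β⁻¹)] :
    gsum H α H β = ((Fintype.card PST : ℂ) - 2 * (Nat.card (tor g) : ℂ)) +
      (Nat.card H : ℂ) * (Nat.card (tor g) : ℂ) *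
        ((if α = β then 1 else 0) + (if α = β⁻¹ then 1 else 0)) := by
  classical
  have hA : (Finset.univ.filter fun l : PST => l ∈ tor g).card = Nat.card (tor g) := by
    rw [Nat.card_eq_fintype_card, ← Fintype.card_subtype]
  have hN : (Finset.univ.filter fun l : PST => l ∈ torN g).card = Nat.card (torN g) := by
    rw [Nat.card_eq_fintype_card, ← Fintype.card_subtype]
  rw [gsum_torus H α β (Finset.univ.filter fun l : PST => l ∈ torN g)
    (Finset.univ.filter fun l : PST => l ∈ tor g) ?_ ?_ ?_ ?_ ?_, hA, Nat.card_eq_fintype_card (α := H)]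
  · congr
  · intro l hl
    simp only [Finset.mem_filter, Finset.mem_univ, true_and] at hl ⊢
    exact tor_le_torN g hl
  · intro l hl h
    simp only [Finset.mem_filter, Finset.mem_univ, true_and] at hl
    rw [tor_comm htr hl (hH h.2), mul_inv_cancel_right]
  · intro l hl hl' h
    simp only [Finset.mem_filter, Finset.mem_univ, true_and] at hl hl'
    exact (torN_cases htr hl).resolve_left hl' _ (hH h.2)
  · intro l hl h hh hc
    simp only [Finset.mem_filter, Finset.mem_univ, true_and] at hl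
    exact hl (mem_torN_of_conj htr (hH h.2) (fun e => hh (Subtype.ext e)) (hH hc))
  · rw [hA, hN, ReeTypeS3.natCard_torN htr (two_ne hyp)]

/-! ### The Gram matrix of the columns -/

theorem dot_subQ_self {e : F} (he : e ≠ 0) :
    dotp (Pz E (subQ (F := F)) (lam e)) (Pz E (subQ (F := F)) (lam e)) =
      (Fintype.card F : ℤ) + 1 := by
  classical
  refine dot_of_gsum' hyp _ _ _ _ (odd_subQ' hyp) (odd_subQ' hyp) _ ?_
  rw [gsum_subQ' hyp he (fun _ _ => rfl), if_pos rfl, natCard_subQ, Nat.card_eq_fintype_card]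
  push_cast
  ring

theorem dot_subQ_cross : dotp (Pz E (subQ (F := F)) (lam 1)) (Pz E (subQ (F := F)) (lam D.ns)) =
    (Fintype.card F : ℤ) - 1 := by
  classical
  refine dot_of_gsum' hyp _ _ _ _ (odd_subQ' hyp) (odd_subQ' hyp) _ ?_
  rw [gsum_subQ' hyp one_ne_zero (fun a ha => absurd ⟨a⁻¹, ?_⟩ D.hns), if_neg D.one_ne_ns,
    natCard_subQ, Nat.card_eq_fintype_card]
  · push_cast; ring
  · have ha0 : a ≠ 0 := fun e => by rw [e, mul_zero, mul_zero] at ha; exact zero_ne_one ha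
    field_simp
    linear_combination ha

theorem dot_NN : dotp D.vN D.vN = 4 * (Fintype.card F : ℤ) := by
  have h' : dotp (Pz E (subQ (F := F)) (lam D.ns)) (Pz E (subQ (F := F)) (lam 1)) =
      (Fintype.card F : ℤ) - 1 := by rw [dotp_comm, D.dot_subQ_cross hyp]
  unfold vN
  simp only [dotp_add, dotp_add', dot_subQ_self hyp one_ne_zero, dot_subQ_self hyp D.ns_ne_zero,
    D.dot_subQ_cross hyp, h']
  ring

theorem dot_EN : dotp D.vE D.vN = 0 := by
  have h' : dotp (Pz E (subQ (F := F)) (lam D.ns)) (Pz E (subQ (F := F)) (lam 1)) =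
      (Fintype.card F : ℤ) - 1 := by rw [dotp_comm, D.dot_subQ_cross hyp]
  unfold vE vN
  simp only [dotp_sub, dotp_add', dot_subQ_self hyp one_ne_zero, dot_subQ_self hyp D.ns_ne_zero,
    D.dot_subQ_cross hyp, h']
  ring

theorem dot_EE : dotp D.vE D.vE = 4 := by
  have h' : dotp (Pz E (subQ (F := F)) (lam D.ns)) (Pz E (subQ (F := F)) (lam 1)) =
      (Fintype.card F : ℤ) - 1 := by rw [dotp_comm, D.dot_subQ_cross hyp]
  unfold vE
  simp only [dotp_sub, dotp_sub', dot_subQ_self hyp one_ne_zero, dot_subQ_self hyp D.ns_ne_zero,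
    D.dot_subQ_cross hyp, h']
  ring

theorem dot_QH (e : F) (μ : D.c.Cr →* ℂˣ) :
    dotp (Pz E (subQ (F := F)) (lam e)) (Pz E D.c.Cr μ) = 8 * (uOf F : ℤ) := by
  refine dot_of_gsum' hyp _ _ _ _ (odd_subQ' hyp) (D.c.odd_Cr hyp) _ ?_
  rw [gsum_coprime, natCard_subQ, Nat.card_eq_fintype_card (α := F), D.c.natCard_Cr, card_L hyp]
  · push_cast; ring
  · rw [natCard_subQ, Nat.card_eq_fintype_card (α := F), D.c.natCard_Cr]
    exact coprime_q_r hyp

theorem dot_QK (e : F) (τ : tor D.g₁ →* ℂˣ) :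
    dotp (Pz E (subQ (F := F)) (lam e)) (Pz E (tor D.g₁) τ) = 8 * (rOf F : ℤ) := by
  refine dot_of_gsum' hyp _ _ _ _ (odd_subQ' hyp) (D.odd_g₁ hyp) _ ?_
  rw [gsum_coprime, natCard_subQ, Nat.card_eq_fintype_card (α := F), D.card₁, card_L hyp]
  · push_cast; ring
  · rw [natCard_subQ, Nat.card_eq_fintype_card (α := F), D.card₁]
    exact coprime_q_u hyp

theorem dot_HK (μ : D.c.Cr →* ℂˣ) (τ : tor D.g₁ →* ℂˣ) :
    dotp (Pz E D.c.Cr μ) (Pz E (tor D.g₁) τ) = 8 * (Fintype.card F : ℤ) := by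
  refine dot_of_gsum' hyp _ _ _ _ (D.c.odd_Cr hyp) (D.odd_g₁ hyp) _ ?_
  rw [gsum_coprime, D.c.natCard_Cr, D.card₁, card_L hyp]
  · push_cast; ring
  · rw [D.c.natCard_Cr, D.card₁]
    exact coprime_r_u hyp.mod8

theorem dot_HH (μ μ' : D.c.Cr →* ℂˣ) :
    dotp (Pz E D.c.Cr μ) (Pz E D.c.Cr μ') = 16 * ((Fintype.card F : ℤ) + 2 * sg F) + 4 * dlt μ μ' := by
  classical
  refine dot_of_gsum' hyp _ _ _ _ (D.c.odd_Cr hyp) (D.c.odd_Cr hyp) _ ?_
  rw [gsum_tor' hyp D.c.htr D.c.Cr D.c.Cr_le, D.c.card_tor, D.c.natCard_Cr, card_L hyp]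
  unfold dlt
  split_ifs <;> push_cast <;>
    rw [qC_eq hyp, uC_eq hyp] <;> linear_combination (8 * (rOf F : ℂ)) * sgC_sq hyp

theorem dot_KK (τ τ' : tor D.g₁ →* ℂˣ) :
    dotp (Pz E (tor D.g₁) τ) (Pz E (tor D.g₁) τ') =
      4 * ((Fintype.card F : ℤ) - 2 * sg F) + 2 * dlt τ τ' := by
  classical
  refine dot_of_gsum' hyp _ _ _ _ (D.odd_g₁ hyp) (D.odd_g₁ hyp) _ ?_
  rw [gsum_tor' hyp D.htr₁ (tor D.g₁) le_rfl, D.card₁, card_L hyp]
  unfold dlt
  split_ifs <;> push_cast <;>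
    rw [qC_eq hyp, uC_eq hyp] <;> linear_combination 4 * (2 * (rOf F : ℂ) + (sg F : ℂ)) * sgC_sq hyp

/-! ### The short columns -/

theorem dot_NH (μ : D.c.Cr →* ℂˣ) : dotp D.vN (Pz E D.c.Cr μ) = 16 * (uOf F : ℤ) := by
  unfold vN; simp only [dotp_add, D.dot_QH hyp]; ring

theorem dot_NK (τ : tor D.g₁ →* ℂˣ) : dotp D.vN (Pz E (tor D.g₁) τ) = 16 * (rOf F : ℤ) := by
  unfold vN; simp only [dotp_add, D.dot_QK hyp]; ring

theorem sgZ_sq : sg F * sg F = 1 := by rcases sg_cases (F := F) with e | e <;> rw [e] <;> norm_num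

theorem dot_PP (μ μ' : D.c.Cr →* ℂˣ) : dotp (D.vP μ) (D.vP μ') = 4 * dlt μ μ' := by
  have h' : dotp (Pz E D.c.Cr μ) D.vN = 16 * (uOf F : ℤ) := by rw [dotp_comm, D.dot_NH hyp]
  unfold vP
  simp only [dotp_smul, dotp_smul', dotp_sub, dotp_sub', D.dot_HH hyp, h', D.dot_NH hyp, D.dot_NN hyp]
  linear_combination (4 * dlt μ μ') * sgZ_sq hyp +
    (sg F * sg F) * (32 * q_eq hyp.mod8 - 64 * u_eq hyp.mod8)

theorem dot_ZZ (τ τ' : tor D.g₁ →* ℂˣ) : dotp (D.vZ τ) (D.vZ τ') = 2 * dlt τ τ' := by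
  have h' : dotp (Pz E (tor D.g₁) τ) D.vN = 16 * (rOf F : ℤ) := by rw [dotp_comm, D.dot_NK hyp]
  unfold vZ
  simp only [dotp_smul, dotp_smul', dotp_sub, dotp_sub', D.dot_KK hyp, h', D.dot_NK hyp, D.dot_NN hyp]
  linear_combination (2 * dlt τ τ') * sgZ_sq hyp + (sg F * sg F) * (8 * q_eq hyp.mod8)

theorem dot_PZ (μ : D.c.Cr →* ℂˣ) (τ : tor D.g₁ →* ℂˣ) : dotp (D.vP μ) (D.vZ τ) = 0 := by
  have h' : dotp (Pz E D.c.Cr μ) D.vN = 16 * (uOf F : ℤ) := by rw [dotp_comm, D.dot_NH hyp]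
  unfold vP vZ
  simp only [dotp_smul, dotp_smul', dotp_sub, dotp_sub', h', D.dot_HK hyp, D.dot_NN hyp, D.dot_NK hyp]
  linear_combination (sg F * sg F) * (16 * u_eq hyp.mod8 - 16 * q_eq hyp.mod8)

theorem dot_EP (μ : D.c.Cr →* ℂˣ) : dotp D.vE (D.vP μ) = 0 := by
  have h0 : dotp D.vE (Pz E D.c.Cr μ) = 0 := by
    unfold vE; simp only [dotp_sub, D.dot_QH hyp]; ring
  unfold vP
  simp only [dotp_smul', dotp_sub', h0, D.dot_EN hyp]
  ring

theorem dot_EZ (τ : tor D.g₁ →* ℂˣ) : dotp D.vE (D.vZ τ) = 0 := by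
  have h0 : dotp D.vE (Pz E (tor D.g₁) τ) = 0 := by
    unfold vE; simp only [dotp_sub, D.dot_QK hyp]; ring
  unfold vZ
  simp only [dotp_smul', dotp_sub', h0, D.dot_EN hyp]
  ring

/-! ### Inversion -/

omit hyp in
theorem dlt_inv {H : Type v} [Group H] (α β : H →* ℂˣ) : dlt α β⁻¹ = dlt α β := by
  classical
  unfold dlt
  rw [show β⁻¹⁻¹ = β from MonoidHom.ext fun x => by simp, add_comm]

omit hyp in
theorem dlt_inv_left {H : Type v} [Group H] (α β : H →* ℂˣ) : dlt α⁻¹ β = dlt α β := by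
  rw [dlt_comm, dlt_inv, dlt_comm]

omit hyp in
theorem eq_of_dot {u w : Cfsg.IrrCharacter G → ℤ} {z : ℤ} (h1 : dotp u u = z) (h2 : dotp w w = z)
    (h3 : dotp u w = z) : u = w := by
  have h0 : dotp (fun i => u i - w i) (fun i => u i - w i) = 0 := by
    simp only [dotp_sub, dotp_sub', dotp_comm w u, h1, h2, h3]; ring
  funext i
  rw [dotp] at h0
  have := (Finset.sum_eq_zero_iff_of_nonneg fun j _ => mul_self_nonneg (u j - w j)).1 h0 i
    (Finset.mem_univ i)
  exact sub_eq_zero.1 (mul_self_eq_zero.1 this)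

theorem Pz_Cr_inv (μ : D.c.Cr →* ℂˣ) : Pz E D.c.Cr μ⁻¹ = Pz E D.c.Cr μ :=
  eq_of_dot (by rw [D.dot_HH hyp, dlt_inv_left, dlt_inv]) (D.dot_HH hyp μ μ)
    (by rw [D.dot_HH hyp, dlt_inv_left])

theorem Pz_g₁_inv (τ : tor D.g₁ →* ℂˣ) : Pz E (tor D.g₁) τ⁻¹ = Pz E (tor D.g₁) τ :=
  eq_of_dot (by rw [D.dot_KK hyp, dlt_inv_left, dlt_inv]) (D.dot_KK hyp τ τ)
    (by rw [D.dot_KK hyp, dlt_inv_left])

theorem vP_inv (μ : D.c.Cr →* ℂˣ) : D.vP μ⁻¹ = D.vP μ := by
  unfold vP; rw [D.Pz_Cr_inv hyp]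

theorem vZ_inv (τ : tor D.g₁ →* ℂˣ) : D.vZ τ⁻¹ = D.vZ τ := by
  unfold vZ; rw [D.Pz_g₁_inv hyp]

end Dat

end CfsgLib.JankoThompson
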