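import Cfsg.Prelude.Def_Sporadic
import Cfsg.Agent.ReeTypeS3.Local
import Cfsg.Agent.Linear.SL2Sylow
import Cfsg.Agent.Linear.Basic
import Cfsg.Agent.CentTwoAlt.Main
import Cfsg.Agent.J1Order.Main
import Cfsg.Agent.Linear.Perfect
import Cfsg.Agent.Linear.SylowChar
import Cfsg.Agent.AutPSL.AutOrder
import Cfsg.Agent.S0251
import Cfsg.Agent.S0252
import Cfsg.Agent.S0253
import Mathlib

/-!
# The reduction to the main case

A simple group with abelian Sylow 2-subgroups and an involution centraliser `Z₂ × L`.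
-/

set_option autoImplicit false
set_option linter.unusedSectionVars false
set_option linter.style.haveILetI false

namespace CfsgLib.JankoThompson

open Matrix CfsgLib.ReeTypeS3
open scoped MatrixGroups commutatorElement

universe u v

variable {G : Type u} [Group G]

section General

variable {L : Type v} [Group L] {t : G}

/-- An isomorphism of the centraliser with `Z₂ × L` takes the involution to the central one. -/
theorem cent_iso_t (hL : ∀ z : L, (∀ l, z * l = l * z) → z = 1) (ht : orderOf t = 2)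
    (e : Subgroup.centralizer ({t} : Set G) ≃* Multiplicative (ZMod 2) × L) :
    e ⟨t, Subgroup.mem_centralizer_singleton_iff.2 rfl⟩ = (Multiplicative.ofAdd 1, 1) := by
  set T : Subgroup.centralizer ({t} : Set G) :=
    ⟨t, Subgroup.mem_centralizer_singleton_iff.2 rfl⟩ with hT
  have h2 : (e T).2 = 1 := hL _ fun l => by
    obtain ⟨c, hc⟩ := e.surjective (1, l)
    have h : c * T = T * c := Subtype.ext (Subgroup.mem_centralizer_singleton_iff.1 c.2)
    have := congrArg (fun x => (e x).2) h
    simp only [map_mul, Prod.snd_mul, hc] at this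
    exact this.symm
  rcases (show ∀ z : Multiplicative (ZMod 2), z = 1 ∨ z = Multiplicative.ofAdd 1 by decide)
      (e T).1 with h1 | h1
  · exfalso
    have h : T = 1 := e.injective ((Prod.ext h1 h2 : e T = 1).trans (map_one e).symm)
    have h' : t = 1 := congrArg Subtype.val h
    rw [h', orderOf_one] at ht
    omega
  · exact Prod.ext h1 h2

/-- The structure of the centraliser from an isomorphism with `Z₂ × L`. -/
theorem exists_emb (hL : ∀ z : L, (∀ l, z * l = l * z) → z = 1) (ht : orderOf t = 2)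
    (e : Subgroup.centralizer ({t} : Set G) ≃* Multiplicative (ZMod 2) × L) :
    ∃ E : Emb G L, E.t = t := by
  have hT := cent_iso_t hL ht e
  refine ⟨{ t := t
            ι := (Subgroup.centralizer ({t} : Set G)).subtype.comp
              (e.symm.toMonoidHom.comp (MonoidHom.inr _ _))
            inj := fun a b h => congrArg Prod.snd (e.symm.injective (Subtype.ext h))
            sq := by rw [← pow_two, ← ht]; exact pow_orderOf_eq_one t
            comm := fun l =>
              (Subgroup.mem_centralizer_singleton_iff.1 (e.symm (1, l)).2).symm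
            notMem := fun l h => ?_
            cent := fun x hx => ?_ }, rfl⟩
  · have h' : e.symm (1, l) = ⟨t, Subgroup.mem_centralizer_singleton_iff.2 rfl⟩ := Subtype.ext h
    rw [e.symm_apply_eq, hT] at h'
    exact absurd (congrArg Prod.fst h')
      (show (1 : Multiplicative (ZMod 2)) ≠ Multiplicative.ofAdd 1 by decide)
  · set X : Subgroup.centralizer ({t} : Set G) :=
      ⟨x, Subgroup.mem_centralizer_singleton_iff.2 hx⟩ with hX
    refine ⟨(e X).2, ?_⟩
    rcases (show ∀ z : Multiplicative (ZMod 2), z = 1 ∨ z = Multiplicative.ofAdd 1 by decide)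
        (e X).1 with h1 | h1
    · left
      show x = ((e.symm (1, (e X).2) : Subgroup.centralizer ({t} : Set G)) : G)
      rw [← h1, Prod.mk.eta, e.symm_apply_apply]
    · right
      show x = t * ((e.symm (1, (e X).2) : Subgroup.centralizer ({t} : Set G)) : G)
      have : e X = (Multiplicative.ofAdd 1, 1) * (1, (e X).2) := by
        rw [Prod.mk_mul_mk, mul_one, one_mul, ← h1]
      conv_lhs => rw [show x = (X : G) from rfl, ← e.symm_apply_apply X, this, map_mul, ← hT,
        e.symm_apply_apply]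
      rfl

variable [Finite G]

/-- An involution lies in an abelian Sylow subgroup, so it is 2-central. -/
theorem two_central (hab : ∀ P : Sylow 2 G, ∀ a b : P, a * b = b * a) (ht : orderOf t = 2) :
    Cfsg.IsTwoCentralInvolution t := by
  haveI : Fact (Nat.Prime 2) := ⟨Nat.prime_two⟩
  have hp : IsPGroup 2 (Subgroup.zpowers t) :=
    IsPGroup.of_card (n := 1) (by rw [Nat.card_zpowers, ht, pow_one])
  obtain ⟨S, hS⟩ := hp.exists_le_sylow
  exact ⟨ht, S, hS (Subgroup.mem_zpowers _), fun x hx =>
    congrArg Subtype.val (hab S ⟨x, hx⟩ ⟨t, hS (Subgroup.mem_zpowers _)⟩)⟩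

/-- A simple group embedding a non-commutative group is perfect and not solvable. -/
theorem perfect_of_noncomm [IsSimpleGroup G] {l m : G} (h : l * m ≠ m * l) :
    commutator G = ⊤ ∧ ¬ Group.IsSolvable G := by
  have hbot : commutator G ≠ ⊥ := fun hb => h <| by
    have hm : ⁅l, m⁆ ∈ commutator G :=
      Subgroup.commutator_mem_commutator (Subgroup.mem_top l) (Subgroup.mem_top m)
    rw [hb, Subgroup.mem_bot] at hm
    exact commutatorElement_eq_one_iff_mul_comm.1 hm
  refine ⟨(IsSimpleGroup.eq_bot_or_eq_top_of_normal _ inferInstance).resolve_left hbot, fun hs => ?_⟩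
  exact h (IsSimpleGroup.comm_iff_isSolvable.2 hs l m)

end General

section PSL

variable {F : Type v} [Field F] [Fintype F]

local notation "PST" => Matrix.ProjectiveSpecialLinearGroup (Fin 2) F

/-- `PSL₂(q)` is not commutative and has trivial centre for `q ≥ 4`. -/
theorem psl_facts (hq : 4 ≤ Fintype.card F) :
    (∃ l m : PST, l * m ≠ m * l) ∧ ∀ z : PST, (∀ l, z * l = l * z) → z = 1 := by
  haveI : IsSimpleGroup PST := Linear.isSimpleGroup_PSL_of 2 le_rfl fun _ => hq
  have hne : ∃ l m : PST, l * m ≠ m * l := by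
    let pr : SL(2, F) →* PST := QuotientGroup.mk' _
    refine ⟨pr (Linear.upperUni 1), pr (Linear.lowerUni 1), fun h => ?_⟩
    rw [← map_mul, ← map_mul] at h
    have h1 : pr ((Linear.lowerUni 1 * Linear.upperUni 1)⁻¹ *
        (Linear.upperUni 1 * Linear.lowerUni 1)) = 1 := by
      rw [map_mul pr, map_inv, h, inv_mul_cancel]
    rcases (SL2Trace.proj_eq_one_iff _).1 h1 with e | e <;> rw [inv_mul_eq_iff_eq_mul] at e
    · have h00 := congrArg (fun g : SL(2, F) => g.1 0 0) e
      simp [Linear.upperUni_val, Linear.lowerUni_val, Matrix.mul_apply, Fin.sum_univ_two] at h00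
    · have h00 := congrArg (fun g : SL(2, F) => g.1 0 0) e
      have h01 := congrArg (fun g : SL(2, F) => g.1 0 1) e
      simp [Linear.upperUni_val, Linear.lowerUni_val, Matrix.mul_apply, Fin.sum_univ_two] at h00 h01
      exact one_ne_zero (α := F) (by linear_combination h00 - h01)
  refine ⟨hne, fun z hz => ?_⟩
  rcases IsSimpleGroup.eq_bot_or_eq_top_of_normal (Subgroup.center PST) inferInstance with h | h
  · rw [← Subgroup.mem_bot, ← h, Subgroup.mem_center_iff]
    exact fun l => (hz l).symm
  · obtain ⟨l, m, hlm⟩ := hne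
    exact absurd (Subgroup.mem_center_iff.1 (h ▸ Subgroup.mem_top m) l) hlm

variable [Finite G]

/-- For `q ≡ ±1 (mod 8)` the Sylow 2-subgroups of `PSL₂(q)` are not abelian. -/
theorem false_of_mod_one_seven (hab : ∀ P : Sylow 2 G, ∀ a b : P, a * b = b * a)
    (hq : Fintype.card F % 8 = 1 ∨ Fintype.card F % 8 = 7) (f : PST →* G)
    (hf : Function.Injective f) : False := by
  haveI : Fact (Nat.Prime 2) := ⟨Nat.prime_two⟩
  have hodd : Odd (Fintype.card F) := Nat.odd_iff.2 (by omega)
  have h16 : 16 ∣ Nat.card SL(2, F) := by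
    obtain ⟨c, hc⟩ : ∃ c, Fintype.card F = 8 * c + 1 ∨ Fintype.card F = 8 * c + 7 :=
      ⟨Fintype.card F / 8, by omega⟩
    rw [Linear.card_SL_two]
    refine Dvd.dvd.mul_left ?_ _
    rcases hc with e | e <;> rw [e]
    · exact ⟨4 * c * c + c, by rw [Nat.sub_eq_iff_eq_add (Nat.one_le_pow _ _ (by omega))]; ring⟩
    · exact ⟨4 * c * c + 7 * c + 3,
        by rw [Nat.sub_eq_iff_eq_add (Nat.one_le_pow _ _ (by omega))]; ring⟩
  obtain ⟨P⟩ : Nonempty (Sylow 2 SL(2, F)) := inferInstance
  obtain ⟨m, hm, ⟨e⟩⟩ := Linear.sylow_two_quaternion hodd P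
  have h16P : 16 ∣ Nat.card (P : Subgroup SL(2, F)) :=
    (show (16 : ℕ) = 2 ^ 4 from rfl) ▸ P.pow_dvd_card_of_pow_dvd_card (n := 4) h16
  have hn0 : NeZero (2 ^ m) := ⟨pow_ne_zero _ two_ne_zero⟩
  rw [Nat.card_congr e.toEquiv, Nat.card_eq_fintype_card, QuaternionGroup.card] at h16P
  let φ : SL(2, F) →* G := f.comp (QuotientGroup.mk' _)
  obtain ⟨S, hS⟩ := (P.isPGroup'.map φ).exists_le_sylow
  have hcomm : ∀ x y : (P : Subgroup SL(2, F)), φ x.1 * φ y.1 = φ y.1 * φ x.1 := fun x y =>
    congrArg Subtype.val (hab S ⟨φ x.1, hS ⟨x.1, x.2, rfl⟩⟩ ⟨φ y.1, hS ⟨y.1, y.2, rfl⟩⟩)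
  have h1 := hcomm (e.symm (QuaternionGroup.a 1)) (e.symm (QuaternionGroup.xa 0))
  set c : QuaternionGroup (2 ^ m) := QuaternionGroup.a (-2) with hc
  have hrel : (QuaternionGroup.a 1 * QuaternionGroup.xa 0 : QuaternionGroup (2 ^ m)) =
      QuaternionGroup.xa 0 * QuaternionGroup.a 1 * c := by
    rw [hc, QuaternionGroup.a_mul_xa, QuaternionGroup.xa_mul_a, QuaternionGroup.xa_mul_a]
    congr 1
    ring
  have hc1 : φ (e.symm c).1 = 1 := by
    have h2 := congrArg (fun x => φ (e.symm x).1) hrel
    simp only [map_mul, Subgroup.coe_mul] at h2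
    exact left_eq_mul.1 (h1.symm.trans h2)
  have hk : (QuotientGroup.mk' _ (e.symm c).1 : PST) = 1 := hf (hc1.trans (map_one f).symm)
  have hsq : c * c = 1 := by
    refine e.symm.injective (Subtype.ext ?_)
    rw [map_mul, map_one, Subgroup.coe_mul, Subgroup.coe_one]
    rcases (SL2Trace.proj_eq_one_iff _).1 hk with h | h <;> rw [h] <;> simp
  have h4 : ((4 : ℕ) : ZMod (2 * 2 ^ m)) = 0 := by
    rw [hc, QuaternionGroup.a_mul_a, QuaternionGroup.one_def, QuaternionGroup.a.injEq] at hsq
    push_cast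
    linear_combination -hsq
  rw [ZMod.natCast_eq_zero_iff] at h4
  have h16' := Nat.le_of_dvd (by positivity) h16P
  have h4' := Nat.le_of_dvd (by norm_num) h4
  omega

/-- The case `q = 3` does not occur in a simple group. -/
theorem false_of_three [IsSimpleGroup G] (hab : ∀ P : Sylow 2 G, ∀ a b : P, a * b = b * a)
    (hq : Fintype.card F = 3) {t : G} (ht : orderOf t = 2)
    (e : Subgroup.centralizer ({t} : Set G) ≃* Multiplicative (ZMod 2) × PST) : False := by
  classical
  obtain ⟨e₀⟩ := Cfsg.Agent.S0251.result hq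
  let e' : Subgroup.centralizer ({t} : Set G) ≃* CentTwoAlt.Mdl :=
    e.trans (MulEquiv.prodCongr (MulEquiv.refl _) e₀)
  have hA : ∀ z : alternatingGroup (Fin 4), (∀ l, z * l = l * z) → z = 1 := by decide +kernel
  have hT := cent_iso_t hA ht e'
  let Φ : CentTwoAlt.Mdl →* G :=
    (Subgroup.centralizer ({t} : Set G)).subtype.comp e'.symm.toMonoidHom
  have hinj : Function.Injective Φ := Subtype.val_injective.comp e'.symm.injective
  have hr : Φ.range = Subgroup.centralizer ({t} : Set G) := by
    rw [MonoidHom.range_comp, MonoidHom.range_eq_top.2 e'.symm.surjective,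
      ← MonoidHom.range_eq_map, Subgroup.range_subtype]
  have hΦt : Φ CentTwoAlt.mT = t := by
    show ((e'.symm CentTwoAlt.mT : Subgroup.centralizer ({t} : Set G)) : G) = t
    rw [show e'.symm CentTwoAlt.mT = _ from (MulEquiv.symm_apply_eq e').2 hT.symm]
  obtain ⟨l, m, hlm⟩ : ∃ l m : CentTwoAlt.Mdl, l * m ≠ m * l :=
    ⟨_, _, CentTwoAlt.noncomm_mdl⟩
  obtain ⟨-, hns⟩ := perfect_of_noncomm (G := G) (l := Φ l) (m := Φ m) fun h =>
    hlm (hinj (by rw [map_mul, map_mul, h]))
  have h2 : ∀ H : Subgroup G, H.index ≠ 2 := fun H hH => by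
    rcases IsSimpleGroup.eq_bot_or_eq_top_of_normal H (Subgroup.normal_of_index_eq_two hH) with
      h | h
    · rw [h, Subgroup.index_bot] at hH
      have := Nat.card_le_card_of_injective Φ hinj
      rw [Nat.card_eq_fintype_card, CentTwoAlt.card_mdl, hH] at this
      omega
    · rw [h, Subgroup.index_top] at hH; omega
  obtain ⟨K, _, _, hK, ⟨i⟩⟩ := CentTwoAlt.case_four hns h2 (two_central hab ht) Φ hinj hr hΦt
  haveI : IsSimpleGroup (MulAut (Matrix.ProjectiveSpecialLinearGroup (Fin 2) K)) :=
    i.symm.isSimpleGroup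
  haveI : Fact (Nat.Prime 2) := ⟨Nat.prime_two⟩
  have hcard := AutPSL.card_aut_psl (F := K) (p := 2) (f := 3) (by rw [hK]; norm_num) (by norm_num)
    (n := 2) le_rfl
  rw [if_pos rfl, one_mul, Linear.card_PGL, ← Linear.card_PSL_mul (n := Fin 2) (F := K),
    show Nat.gcd (Fintype.card (Fin 2)) (Fintype.card K - 1) = 1 by rw [hK]; rfl, one_mul] at hcard
  haveI : CharP K 2 := charP_of_card_eq_prime_pow (p := 2) (f := 3) (by rw [hK]; norm_num)
  have hfrob : (frobeniusEquiv K 2 : K ≃+* K) ≠ 1 := fun h => by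
    have hall : ∀ x : K, x ^ 2 = x := fun x => by
      rw [show x ^ 2 = (frobeniusEquiv K 2 : K ≃+* K) x from rfl, h]; rfl
    have hle : Fintype.card K ≤ ({0, 1} : Finset K).card := Finset.card_le_card fun x _ => by
      rcases eq_or_ne x 0 with h0 | h0
      · simp [h0]
      · have := mul_right_cancel₀ h0 (show x * x = 1 * x by rw [← pow_two, hall, one_mul])
        simp [this]
    have := Finset.card_le_two (a := (0 : K)) (b := 1)
    omega
  have haut : 2 ≤ Nat.card (K ≃+* K) := by
    haveI : Finite (K ≃+* K) := Finite.of_injective _ DFunLike.coe_injective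
    haveI : Nontrivial (K ≃+* K) := ⟨_, _, hfrob⟩
    exact Finite.one_lt_card
  rcases IsSimpleGroup.eq_bot_or_eq_top_of_normal
      (MulAut.conj (G := Matrix.ProjectiveSpecialLinearGroup (Fin 2) K)).range
      ⟨by
        rintro _ ⟨x, rfl⟩ g
        refine ⟨g x, MulEquiv.ext fun y => ?_⟩
        simp only [MulAut.conj_apply, MulAut.mul_apply, MulAut.inv_apply, map_mul, map_inv,
          MulEquiv.apply_symm_apply]⟩ with h | h
  · obtain ⟨⟨a, b, hab'⟩, -⟩ := psl_facts (F := K) (by omega)
    refine hab' ?_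
    have hb : MulAut.conj a = 1 := by
      rw [← Subgroup.mem_bot, ← h]; exact ⟨a, rfl⟩
    have := DFunLike.congr_fun hb b
    rw [MulAut.conj_apply, MulAut.one_apply, mul_inv_eq_iff_eq_mul] at this
    exact this
  · have h1 := Nat.card_le_card_of_surjective _
      (MulAut.conj (G := Matrix.ProjectiveSpecialLinearGroup (Fin 2) K)).rangeRestrict_surjective
    rw [h, Subgroup.card_top, hcard] at h1
    have hp : 0 < Nat.card (Matrix.ProjectiveSpecialLinearGroup (Fin 2) K) := Nat.card_pos
    nlinarith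

/-- The cases `q = 4` and `q = 5`. -/
theorem isJ1_of_four_five [IsSimpleGroup G] (hab : ∀ P : Sylow 2 G, ∀ a b : P, a * b = b * a)
    (hq : Fintype.card F = 4 ∨ Fintype.card F = 5) {t : G} (ht : orderOf t = 2)
    (e : Subgroup.centralizer ({t} : Set G) ≃* Multiplicative (ZMod 2) × PST) : Cfsg.IsJ1 G := by
  obtain ⟨e₀⟩ : Nonempty (PST ≃* alternatingGroup (Fin 5)) := by
    rcases hq with h | h
    · exact Cfsg.Agent.S0252.result h
    · exact Cfsg.Agent.S0253.result h
  obtain ⟨-, hP⟩ := two_central hab ht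
  obtain ⟨S, -⟩ := J1Order.Setting.exists_of_iso ht hP
    (e.trans (MulEquiv.prodCongr (MulEquiv.refl _) e₀))
  exact ⟨inferInstance, J1Order.card_eq S⟩

end PSL

end CfsgLib.JankoThompson
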