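import Cfsg.Agent.JankoThompson.Tools
import Mathlib

/-!
# Two characters common to the three base columns
-/

set_option autoImplicit false
set_option linter.unusedSectionVars false
set_option linter.style.haveILetI false
set_option maxHeartbeats 1000000

namespace CfsgLib.JankoThompson

open Matrix CfsgLib.ReeTypeS3
open scoped MatrixGroups

universe u v

variable {G : Type u} [Group G] [Fintype G] {F : Type v} [Field F] [Fintype F]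

local notation "PST" => Matrix.ProjectiveSpecialLinearGroup (Fin 2) F
local notation "qI" => (Fintype.card F : ℤ)
local notation "rI" => (rOf F : ℤ)

noncomputable local instance (priority := high) instFintypePSTStdCase :
    Fintype (Matrix.ProjectiveSpecialLinearGroup (Fin 2) F) := Fintype.ofFinite _

noncomputable local instance (priority := high) instFintypeSubStdCase
    (H : Subgroup (Matrix.ProjectiveSpecialLinearGroup (Fin 2) F)) : Fintype H := Fintype.ofFinite _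

variable {E : Emb G (Matrix.ProjectiveSpecialLinearGroup (Fin 2) F)}

variable (G F) in
/-- Three characters of degrees `q³`, `q (q² - q + 1)`, `q² - q + 1` related to the trivial one on
the elements of odd order. -/
def HasReeDegrees : Prop :=
  ∃ A B C : Cfsg.IrrCharacter G, (deg A : ℤ) = qI ^ 3 ∧ (deg B : ℤ) = qI * (qI ^ 2 - qI + 1) ∧
    (deg C : ℤ) = qI ^ 2 - qI + 1 ∧
    ∀ x : G, Odd (orderOf x) → 1 + (A : G → ℂ) x - (B : G → ℂ) x - (C : G → ℂ) x = 0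

variable (G F) in
/-- The conclusion of the degree computation. -/
def Concl : Prop :=
  sg F = -1 ∧ (∃ j : ℕ, Odd j ∧ qI = 3 ^ j) ∧
    (Nat.card G : ℤ) = qI ^ 3 * (qI ^ 3 + 1) * (qI - 1) ∧ HasReeDegrees G F

theorem eight_r_dvd {r x : ℤ} (hr : Odd r) (h4 : 4 * r ∣ x) (h8 : 8 ∣ x) : 8 * r ∣ x := by
  obtain ⟨k, rfl⟩ := h4
  obtain ⟨y, hy⟩ := h8
  obtain ⟨j, rfl⟩ := hr
  obtain ⟨i, rfl | rfl⟩ : ∃ i, k = 2 * i ∨ k = 2 * i + 1 :=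
    ⟨k / 2, by omega⟩
  · exact ⟨i, by ring⟩
  · exfalso
    rw [show 4 * (2 * j + 1) * (2 * i + 1) = 8 * (2 * j * i + j + i) + 4 by ring] at hy
    omega

theorem two_sums {P R P2 R2 : ℤ} (hP : P ≠ 0) (hR : R ≠ 0) (hP2 : P2 ≠ 0) (hR2 : R2 ≠ 0)
    (hsum : P + R = P2 + R2) (h0 : P + R ≠ 0)
    (h1 : 1 / (P : ℚ) + 1 / (R : ℚ) = 1 / (P2 : ℚ) + 1 / (R2 : ℚ)) : P2 = P ∨ P2 = R := by
  have hP' : (P : ℚ) ≠ 0 := by exact_mod_cast hP
  have hR' : (R : ℚ) ≠ 0 := by exact_mod_cast hR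
  have hP2' : (P2 : ℚ) ≠ 0 := by exact_mod_cast hP2
  have hR2' : (R2 : ℚ) ≠ 0 := by exact_mod_cast hR2
  field_simp at h1
  have h2 : (P + R) * (P2 * R2) = (P2 + R2) * (P * R) := by
    have : (((P + R) * (P2 * R2) : ℤ) : ℚ) = (((P2 + R2) * (P * R) : ℤ) : ℚ) := by
      push_cast; linear_combination h1
    exact_mod_cast this
  have h3 : P2 * R2 = P * R := mul_left_cancel₀ h0 (by rw [h2, hsum])
  have h4 : (P2 - P) * (P2 - R) = 0 := by linear_combination P2 * (-hsum) - h3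
  rcases mul_eq_zero.1 h4 with e | e
  · exact Or.inl (sub_eq_zero.1 e)
  · exact Or.inr (sub_eq_zero.1 e)

theorem concl_of (hyp : Hyp E) {D : Dat E} {μ : D.c.Cr →* ℂˣ} (o : D.Orb hyp μ)
    (h : sg F = -1 ∧ (∃ j : ℕ, Odd j ∧ qI = 3 ^ j) ∧
      (o.f : ℤ) = (qI - 1) * (qI ^ 2 - qI + 1)) (hd : HasReeDegrees G F) : Concl G F := by
  obtain ⟨hs, hj, hf⟩ := h
  refine ⟨hs, hj, ?_, hd⟩
  have hq := q_eq hyp.mod8
  rw [hs] at hq
  rw [(index_eq hyp o).2, hf, show 4 * rI = qI + 1 by linarith]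
  ring

namespace Dat.Std

variable {D : Dat E}

/-- Exchange the two common characters. -/
def swapAB (s : D.Std) : D.Std where
  A := s.B
  B := s.A
  C := s.C
  P := s.P
  R := s.R
  P2 := s.P2
  R2 := s.R2
  nodup := by
    have h := s.nodup
    simp only [List.nodup_cons, List.mem_cons, List.not_mem_nil, List.nodup_nil, or_false,
      not_or, and_true, not_false_eq_true] at h ⊢
    grind
  valA := s.valB
  valB := s.valA
  x_ne := ⟨s.x_ne.2.1, s.x_ne.1, s.x_ne.2.2⟩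
  y_ne := s.y_ne
  w_ne := s.w_ne
  x_zero χ h0 h1 h2 := s.x_zero χ h0 h2 h1
  y_zero χ h1 h2 := s.y_zero χ h2 h1
  w_zero χ h1 h2 := s.w_zero χ h2 h1

/-- Exchange the private characters of `vH1`. -/
def swapY (s : D.Std) : D.Std where
  A := s.A
  B := s.B
  C := s.C
  P := s.R
  R := s.P
  P2 := s.P2
  R2 := s.R2
  nodup := by
    have h := s.nodup
    simp only [List.nodup_cons, List.mem_cons, List.not_mem_nil, List.nodup_nil, or_false,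
      not_or, and_true, not_false_eq_true] at h ⊢
    grind
  valA := s.valA
  valB := s.valB
  x_ne := s.x_ne
  y_ne := ⟨s.y_ne.2, s.y_ne.1⟩
  w_ne := s.w_ne
  x_zero := s.x_zero
  y_zero χ h1 h2 h3 h4 := s.y_zero χ h1 h2 h4 h3
  w_zero := s.w_zero

/-- Exchange the private characters of `vH2`. -/
def swapW (s : D.Std) : D.Std where
  A := s.A
  B := s.B
  C := s.C
  P := s.P
  R := s.R
  P2 := s.R2
  R2 := s.P2
  nodup := by
    have h := s.nodup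
    simp only [List.nodup_cons, List.mem_cons, List.not_mem_nil, List.nodup_nil, or_false,
      not_or, and_true, not_false_eq_true] at h ⊢
    grind
  valA := s.valA
  valB := s.valB
  x_ne := s.x_ne
  y_ne := s.y_ne
  w_ne := ⟨s.w_ne.2, s.w_ne.1⟩
  x_zero := s.x_zero
  y_zero := s.y_zero
  w_zero χ h1 h2 h3 h4 := s.w_zero χ h1 h2 h4 h3

variable (hyp : Hyp E) (s : D.Std)

theorem nd : trivC G ≠ s.A ∧ trivC G ≠ s.B ∧ trivC G ≠ s.C ∧ trivC G ≠ s.P ∧ trivC G ≠ s.R ∧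
    trivC G ≠ s.P2 ∧ trivC G ≠ s.R2 ∧
    s.A ≠ s.B ∧ s.A ≠ s.C ∧ s.A ≠ s.P ∧ s.A ≠ s.R ∧ s.A ≠ s.P2 ∧ s.A ≠ s.R2 ∧
    s.B ≠ s.C ∧ s.B ≠ s.P ∧ s.B ≠ s.R ∧ s.B ≠ s.P2 ∧ s.B ≠ s.R2 ∧
    s.C ≠ s.P ∧ s.C ≠ s.R ∧ s.C ≠ s.P2 ∧ s.C ≠ s.R2 ∧
    s.P ≠ s.R ∧ s.P ≠ s.P2 ∧ s.P ≠ s.R2 ∧ s.R ≠ s.P2 ∧ s.R ≠ s.R2 ∧ s.P2 ≠ s.R2 := by
  have h := s.nodup
  simp only [List.nodup_cons, List.mem_cons, List.not_mem_nil, List.nodup_nil, or_false,
    not_or, and_true, not_false_eq_true] at h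
  grind

theorem x_at : D.vZ 1 s.P = 0 ∧ D.vZ 1 s.R = 0 ∧ D.vZ 1 s.P2 = 0 ∧ D.vZ 1 s.R2 = 0 := by
  have := s.nd
  refine ⟨s.x_zero _ ?_ ?_ ?_ ?_, s.x_zero _ ?_ ?_ ?_ ?_, s.x_zero _ ?_ ?_ ?_ ?_,
    s.x_zero _ ?_ ?_ ?_ ?_⟩ <;> grind

theorem y_at : D.vH1 (trivC G) = 0 ∧ D.vH1 s.C = 0 ∧ D.vH1 s.P2 = 0 ∧ D.vH1 s.R2 = 0 := by
  have := s.nd
  refine ⟨s.y_zero _ ?_ ?_ ?_ ?_, s.y_zero _ ?_ ?_ ?_ ?_, s.y_zero _ ?_ ?_ ?_ ?_,
    s.y_zero _ ?_ ?_ ?_ ?_⟩ <;> grind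

theorem w_at : D.vH2 (trivC G) = 0 ∧ D.vH2 s.C = 0 ∧ D.vH2 s.P = 0 ∧ D.vH2 s.R = 0 := by
  have := s.nd
  refine ⟨s.w_zero _ ?_ ?_ ?_ ?_, s.w_zero _ ?_ ?_ ?_ ?_, s.w_zero _ ?_ ?_ ?_ ?_,
    s.w_zero _ ?_ ?_ ?_ ?_⟩ <;> grind

include hyp

theorem sign :
    (D.vZ 1 s.A = 1 ∨ D.vZ 1 s.A = -1) ∧ (D.vZ 1 s.B = 1 ∨ D.vZ 1 s.B = -1) ∧
    (D.vZ 1 s.C = 1 ∨ D.vZ 1 s.C = -1) ∧ (D.vH1 s.P = 1 ∨ D.vH1 s.P = -1) ∧
    (D.vH1 s.R = 1 ∨ D.vH1 s.R = -1) ∧ (D.vH2 s.P2 = 1 ∨ D.vH2 s.P2 = -1) ∧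
    (D.vH2 s.R2 = 1 ∨ D.vH2 s.R2 = -1) := by
  obtain ⟨h1, h2, h3, -⟩ := D.dot_base hyp
  have ax := abs_le_one (v := D.vZ 1) deg_pos h1.le (D.col_vZ 1).deg_orth
  have ay := abs_le_one (v := D.vH1) deg_pos h2.le (D.col_vH1 hyp).deg_orth
  have aw := abs_le_one (v := D.vH2) deg_pos h3.le (D.col_vH2 hyp).deg_orth
  obtain ⟨x1, x2, x3⟩ := s.x_ne
  obtain ⟨y1, y2⟩ := s.y_ne
  obtain ⟨w1, w2⟩ := s.w_ne
  have := ax s.A; have := ax s.B; have := ax s.C; have := ay s.P; have := ay s.R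
  have := aw s.P2; have := aw s.R2
  omega

theorem hT :
    Tz E s.A = D.vZ 1 s.A * qI ∧ Tz E s.B = D.vZ 1 s.B * qI ∧
    Tz E s.C = D.vZ 1 s.C * (-(sg F)) ∧ Tz E s.P = D.vH1 s.P * (2 * rI + sg F) ∧
    Tz E s.R = D.vH1 s.R * (2 * rI + sg F) ∧ Tz E s.P2 = D.vH2 s.P2 * (2 * rI + sg F) ∧
    Tz E s.R2 = D.vH2 s.R2 * (2 * rI + sg F) := by
  have hu := u_eq hyp.mod8
  have hq := q_eq hyp.mod8
  obtain ⟨x1, x2, x3⟩ := s.x_ne
  obtain ⟨y1, y2⟩ := s.y_ne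
  obtain ⟨w1, w2⟩ := s.w_ne
  obtain ⟨xP, xR, xP2, xR2⟩ := s.x_at
  obtain ⟨-, yC, yP2, yR2⟩ := s.y_at
  obtain ⟨-, wC, wP, wR⟩ := s.w_at
  have p := fun χ h => D.plain_Tz hyp (χ := χ) (D.plain_of_base hyp h)
  refine ⟨?_, ?_, ?_, ?_, ?_, ?_, ?_⟩
  · rw [p _ (Or.inl x1), s.valA.1, s.valA.2, hu, hq]; ring
  · rw [p _ (Or.inl x2), s.valB.1, s.valB.2, hu, hq]; ring
  · rw [p _ (Or.inl x3), yC, wC]; ring
  · rw [p _ (Or.inr (Or.inl y1)), xP, wP, hu]; ring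
  · rw [p _ (Or.inr (Or.inl y2)), xR, wR, hu]; ring
  · rw [p _ (Or.inr (Or.inr w1)), xP2, yP2, hu]; ring
  · rw [p _ (Or.inr (Or.inr w2)), xR2, yR2, hu]; ring

theorem sum_x {M : Type*} [CommRing M] (φ : Cfsg.IrrCharacter G → M) :
    ∑ χ, (D.vZ 1 χ : M) * φ χ = -(sg F : M) * φ (trivC G) + (D.vZ 1 s.A : M) * φ s.A +
      (D.vZ 1 s.B : M) * φ s.B + (D.vZ 1 s.C : M) * φ s.C := by
  classical
  have := s.nd
  rw [list_sum_eq [trivC G, s.A, s.B, s.C] (by simp; grind) _ fun χ hχ => by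
    simp only [List.mem_cons, List.not_mem_nil, or_false, not_or] at hχ
    rw [s.x_zero χ hχ.1 hχ.2.1 hχ.2.2.1 hχ.2.2.2, Int.cast_zero, zero_mul]]
  simp only [List.map_cons, List.map_nil, List.sum_cons, List.sum_nil, D.vZ_trivC hyp, if_true,
    Int.cast_neg]
  ring

theorem sum_y {M : Type*} [CommRing M] (φ : Cfsg.IrrCharacter G → M) :
    ∑ χ, (D.vH1 χ : M) * φ χ = (D.vZ 1 s.A : M) * φ s.A + (D.vZ 1 s.B : M) * φ s.B +
      (D.vH1 s.P : M) * φ s.P + (D.vH1 s.R : M) * φ s.R := by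
  classical
  have := s.nd
  rw [list_sum_eq [s.A, s.B, s.P, s.R] (by simp; grind) _ fun χ hχ => by
    simp only [List.mem_cons, List.not_mem_nil, or_false, not_or] at hχ
    rw [s.y_zero χ hχ.1 hχ.2.1 hχ.2.2.1 hχ.2.2.2, Int.cast_zero, zero_mul]]
  simp only [List.map_cons, List.map_nil, List.sum_cons, List.sum_nil, s.valA.1, s.valB.1]
  ring

theorem sum_w {M : Type*} [CommRing M] (φ : Cfsg.IrrCharacter G → M) :
    ∑ χ, (D.vH2 χ : M) * φ χ = (D.vZ 1 s.A : M) * φ s.A + (D.vZ 1 s.B : M) * φ s.B +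
      (D.vH2 s.P2 : M) * φ s.P2 + (D.vH2 s.R2 : M) * φ s.R2 := by
  classical
  have := s.nd
  rw [list_sum_eq [s.A, s.B, s.P2, s.R2] (by simp; grind) _ fun χ hχ => by
    simp only [List.mem_cons, List.not_mem_nil, or_false, not_or] at hχ
    rw [s.w_zero χ hχ.1 hχ.2.1 hχ.2.2.1 hχ.2.2.2, Int.cast_zero, zero_mul]]
  simp only [List.map_cons, List.map_nil, List.sum_cons, List.sum_nil, s.valA.2, s.valB.2]
  ring

/-- The linear relations between the signed degrees. -/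
theorem rel :
    sd (D.vZ 1) s.C = sg F - sd (D.vZ 1) s.A - sd (D.vZ 1) s.B ∧
    sd D.vH1 s.P + sd D.vH1 s.R = -(sd (D.vZ 1) s.A + sd (D.vZ 1) s.B) ∧
    sd D.vH2 s.P2 + sd D.vH2 s.R2 = -(sd (D.vZ 1) s.A + sd (D.vZ 1) s.B) := by
  have hx := (D.col_vZ (1 : tor D.g₁ →* ℂˣ)).deg_orth
  have hy := (D.col_vH1 hyp).deg_orth
  have hw := (D.col_vH2 hyp).deg_orth
  have ex := s.sum_x hyp (fun χ => (deg χ : ℤ))
  have ey := s.sum_y hyp (fun χ => (deg χ : ℤ))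
  have ew := s.sum_w hyp (fun χ => (deg χ : ℤ))
  simp only [Int.cast_id, deg_trivC, Nat.cast_one] at ex ey ew
  rw [hx] at ex
  rw [hy] at ey
  rw [hw] at ew
  unfold sd
  refine ⟨by linarith, by linarith, by linarith⟩

/-- The three equations from the base columns. -/
theorem eqs :
    -(sg F : ℚ) + (qI : ℚ) ^ 2 / (sd (D.vZ 1) s.A : ℚ) + (qI : ℚ) ^ 2 / (sd (D.vZ 1) s.B : ℚ) +
      1 / (sd (D.vZ 1) s.C : ℚ) = -(sg F : ℚ) * ((qI : ℚ) + (sg F : ℚ)) * Kq E ∧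
    (qI : ℚ) ^ 2 / (sd (D.vZ 1) s.A : ℚ) + (qI : ℚ) ^ 2 / (sd (D.vZ 1) s.B : ℚ) +
      ((2 * rI + sg F : ℤ) : ℚ) ^ 2 * (1 / (sd D.vH1 s.P : ℚ) + 1 / (sd D.vH1 s.R : ℚ)) =
      ((qI : ℚ) / (rI : ℚ) - 1) * Kq E ∧
    (qI : ℚ) ^ 2 / (sd (D.vZ 1) s.A : ℚ) + (qI : ℚ) ^ 2 / (sd (D.vZ 1) s.B : ℚ) +
      ((2 * rI + sg F : ℤ) : ℚ) ^ 2 * (1 / (sd D.vH2 s.P2 : ℚ) + 1 / (sd D.vH2 s.R2 : ℚ)) =
      ((qI : ℚ) / (rI : ℚ) - 1) * Kq E := by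
  obtain ⟨hA, hB, hC, hP, hR, hP2, hR2⟩ := s.sign hyp
  obtain ⟨tA, tB, tC, tP, tR, tP2, tR2⟩ := s.hT hyp
  obtain ⟨wx, wy, ww⟩ := D.tw_base hyp
  have ex := s.sum_x hyp (fun χ => (Tz E χ : ℚ) ^ 2 / (deg χ : ℚ))
  have ey := s.sum_y hyp (fun χ => (Tz E χ : ℚ) ^ 2 / (deg χ : ℚ))
  have ew := s.sum_w hyp (fun χ => (Tz E χ : ℚ) ^ 2 / (deg χ : ℚ))
  simp only [← mul_div_assoc, term_eq E hA tA, term_eq E hB tB, term_eq E hC tC, term_eq E hP tP,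
    term_eq E hR tR, term_eq E hP2 tP2, term_eq E hR2 tR2, Tz_trivC, deg_trivC] at ex ey ew
  rw [← tw, wx] at ex
  rw [← tw, wy] at ey
  rw [← tw, ww] at ew
  push_cast at ex ey ew ⊢
  refine ⟨?_, by linear_combination -ey, by linear_combination -ew⟩
  have hs : (sg F : ℚ) * (sg F : ℚ) = 1 := by exact_mod_cast sgn_sg (F := F)
  linear_combination -ex + (-(1 / (sd (D.vZ 1) s.C : ℚ))) * hs

/-- The abbreviation for the signed multiplicities. -/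
noncomputable def bs (s : D.Std) (μ : D.c.Cr →* ℂˣ) : ℤ × ℤ × ℤ × ℤ × ℤ × ℤ × ℤ :=
  (sb F (D.vZ 1) (D.vA μ) s.A, sb F (D.vZ 1) (D.vA μ) s.B, sb F (D.vZ 1) (D.vA μ) s.C,
    sb F D.vH1 (D.vA μ) s.P, sb F D.vH1 (D.vA μ) s.R, sb F D.vH2 (D.vA μ) s.P2,
    sb F D.vH2 (D.vA μ) s.R2)

theorem not_R {μ : D.c.Cr →* ℂˣ} (o : D.Orb hyp μ) :
    ∀ χ ∈ [s.A, s.B, s.C, s.P, s.R, s.P2, s.R2], χ ∉ o.R := by
  intro χ hχ
  refine D.not_mem_R hyp o ?_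
  obtain ⟨x1, x2, x3⟩ := s.x_ne
  obtain ⟨y1, y2⟩ := s.y_ne
  obtain ⟨w1, w2⟩ := s.w_ne
  simp only [List.mem_cons, List.not_mem_nil, or_false] at hχ
  rcases hχ with rfl | rfl | rfl | rfl | rfl | rfl | rfl <;> tauto

/-- The linear relations and the bound for the multiplicities. -/
theorem b_rel {μ : D.c.Cr →* ℂˣ} (hμ : μ ≠ 1) (o : D.Orb hyp μ)
    {a b c p r p2 r2 : ℤ} (hb : s.bs μ = (a, b, c, p, r, p2, r2)) :
    a + b + c = 1 ∧ a + b + p + r = 3 ∧ a + b + p2 + r2 = 3 ∧ D.vA μ o.i₀ = sg F ∧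
      a * a + b * b + c * c + p * p + r * r + p2 * p2 + r2 * r2 ≤ 5 := by
  simp only [bs, Prod.mk.injEq] at hb
  obtain ⟨ea, eb, ec, ep, er, ep2, er2⟩ := hb
  obtain ⟨hA, hB, hC, hP, hR, hP2, hR2⟩ := s.sign hyp
  obtain ⟨a1, a2, a3⟩ := D.vA_base hyp hμ
  have e1 := s.sum_x hyp (D.vA μ)
  have e2 := s.sum_y hyp (D.vA μ)
  have e3 := s.sum_w hyp (D.vA μ)
  simp only [Int.cast_id, sb_mul (F := F) hA, sb_mul (F := F) hB, sb_mul (F := F) hC,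
    sb_mul (F := F) hP, sb_mul (F := F) hR, sb_mul (F := F) hP2, sb_mul (F := F) hR2,
    ea, eb, ec, ep, er, ep2, er2] at e1 e2 e3
  rw [show ∑ χ, D.vZ 1 χ * D.vA μ χ = dotp (D.vA μ) (D.vZ 1) from dotp_comm _ _, a1,
    D.vA_trivC hyp hμ] at e1
  rw [show ∑ χ, D.vH1 χ * D.vA μ χ = dotp (D.vA μ) D.vH1 from dotp_comm _ _, a2] at e2
  rw [show ∑ χ, D.vH2 χ * D.vA μ χ = dotp (D.vA μ) D.vH2 from dotp_comm _ _, a3] at e3
  have h1 : a + b + c = 1 := by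
    rcases sg_cases (F := F) with e | e <;> rw [e] at e1 <;> linarith
  have h2 : a + b + p + r = 3 := by
    rcases sg_cases (F := F) with e | e <;> rw [e] at e2 <;> linarith
  have h3 : a + b + p2 + r2 = 3 := by
    rcases sg_cases (F := F) with e | e <;> rw [e] at e3 <;> linarith
  obtain ⟨k, hk0, -, hkR⟩ := D.vA_on_R hyp hμ o
  have hn := D.norm_bound hyp hμ o [s.A, s.B, s.C, s.P, s.R, s.P2, s.R2] s.nodup (s.not_R hyp o)
  simp only [List.map_cons, List.map_nil, List.sum_cons, List.sum_nil, hkR, sb_sq (F := F) hA,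
    sb_sq (F := F) hB, sb_sq (F := F) hC, sb_sq (F := F) hP, sb_sq (F := F) hR,
    sb_sq (F := F) hP2, sb_sq (F := F) hR2, ea, eb, ec, ep, er, ep2, er2] at hn
  have hlow := std_lower h1 h2 h3
  have hk : k = 0 := by
    by_contra hne
    rcases sg_cases (F := F) with e | e <;> rw [e] at hn <;>
      rcases (show k ≤ -1 ∨ 1 ≤ k by omega) with h | h <;> nlinarith
  subst hk
  exact ⟨h1, h2, h3, by rw [hk0, add_zero], by linarith⟩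

/-- The degree and the weighted equation when the named characters carry all multiplicities. -/
theorem a_eqs {μ : D.c.Cr →* ℂˣ} (hμ : μ ≠ 1) (o : D.Orb hyp μ)
    {a b c p r p2 r2 : ℤ} (hb : s.bs μ = (a, b, c, p, r, p2, r2))
    (h5 : a * a + b * b + c * c + p * p + r * r + p2 * p2 + r2 * r2 = 5) :
    (o.f : ℤ) = sg F + a * sd (D.vZ 1) s.A + b * sd (D.vZ 1) s.B + c * sd (D.vZ 1) s.C +
      p * sd D.vH1 s.P + r * sd D.vH1 s.R + p2 * sd D.vH2 s.P2 + r2 * sd D.vH2 s.R2 ∧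
    -1 - (sg F : ℚ) * ((a : ℚ) * ((qI : ℚ) ^ 2 / (sd (D.vZ 1) s.A : ℚ)) +
        (b : ℚ) * ((qI : ℚ) ^ 2 / (sd (D.vZ 1) s.B : ℚ)) + (c : ℚ) / (sd (D.vZ 1) s.C : ℚ) +
        ((2 * rI + sg F : ℤ) : ℚ) ^ 2 * ((p : ℚ) / (sd D.vH1 s.P : ℚ) +
          (r : ℚ) / (sd D.vH1 s.R : ℚ) + (p2 : ℚ) / (sd D.vH2 s.P2 : ℚ) +
          (r2 : ℚ) / (sd D.vH2 s.R2 : ℚ))) +
      9 * (sg F : ℚ) * ((qI : ℚ) + (sg F : ℚ)) ^ 2 / ((o.f : ℤ) : ℚ) = -(4 * (rI : ℚ)) * Kq E := by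
  classical
  obtain ⟨-, -, -, hi₀, -⟩ := s.b_rel hyp hμ o hb
  simp only [bs, Prod.mk.injEq] at hb
  obtain ⟨ea, eb, ec, ep, er, ep2, er2⟩ := hb
  obtain ⟨hA, hB, hC, hP, hR, hP2, hR2⟩ := s.sign hyp
  obtain ⟨tA, tB, tC, tP, tR, tP2, tR2⟩ := s.hT hyp
  have hnd : (trivC G :: o.i₀ :: [s.A, s.B, s.C, s.P, s.R, s.P2, s.R2]).Nodup := by
    have h := s.nodup
    rw [List.nodup_cons] at h ⊢
    refine ⟨?_, List.nodup_cons.2 ⟨fun hm => s.not_R hyp o _ hm o.mem, h.2⟩⟩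
    simp only [List.mem_cons] at h ⊢
    rintro (e | e)
    · exact D.triv_not_mem_R hyp o (e ▸ o.mem)
    · exact h.1 e
  have hrest := D.rest_norm hyp hμ o hi₀ [s.A, s.B, s.C, s.P, s.R, s.P2, s.R2] hnd
  simp only [List.map_cons, List.map_nil, List.sum_cons, List.sum_nil, sb_sq (F := F) hA,
    sb_sq (F := F) hB, sb_sq (F := F) hC, sb_sq (F := F) hP, sb_sq (F := F) hR,
    sb_sq (F := F) hP2, sb_sq (F := F) hR2, ea, eb, ec, ep, er, ep2, er2] at hrest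
  have hzero : ∀ χ, χ ∉ trivC G :: o.i₀ :: [s.A, s.B, s.C, s.P, s.R, s.P2, s.R2] → D.vA μ χ = 0 :=
    fun χ hχ => mul_self_eq_zero.1 ((Finset.sum_eq_zero_iff_of_nonneg
      fun i _ => mul_self_nonneg (D.vA μ i)).1 (by linarith) χ
      (Finset.mem_filter.2 ⟨Finset.mem_univ χ, hχ⟩))
  obtain ⟨a0, a1, a2⟩ := o.at_i₀
  have hT0 : Tz E o.i₀ = (qI + sg F) * 3 := by rw [o.hT _ o.mem, a0, a1, a2]; norm_num
  constructor
  · have hd := D.deg_vA hyp μ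
    rw [list_sum_eq _ hnd _ fun χ hχ => by rw [hzero χ hχ, zero_mul]] at hd
    simp only [List.map_cons, List.map_nil, List.sum_cons, List.sum_nil, D.vA_trivC hyp hμ,
      deg_trivC, hi₀, o.hdeg _ o.mem, sb_deg (F := F) hA, sb_deg (F := F) hB, sb_deg (F := F) hC,
      sb_deg (F := F) hP, sb_deg (F := F) hR, sb_deg (F := F) hP2, sb_deg (F := F) hR2,
      ea, eb, ec, ep, er, ep2, er2] at hd
    push_cast at hd
    rcases sg_cases (F := F) with e | e <;> rw [e] at hd ⊢ <;> linarith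
  · have hw := D.tw_vA hyp hμ
    rw [tw, list_sum_eq _ hnd _ fun χ hχ => by rw [hzero χ hχ, Int.cast_zero, zero_mul, zero_div]] at hw
    simp only [List.map_cons, List.map_nil, List.sum_cons, List.sum_nil, D.vA_trivC hyp hμ, Tz_trivC,
      deg_trivC, hi₀, hT0, o.hdeg _ o.mem, term_sb (F := F) E hA tA, term_sb (F := F) E hB tB,
      term_sb (F := F) E hC tC, term_sb (F := F) E hP tP, term_sb (F := F) E hR tR,
      term_sb (F := F) E hP2 tP2, term_sb (F := F) E hR2 tR2, ea, eb, ec, ep, er, ep2, er2] at hw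
    push_cast at hw ⊢
    have hs : (sg F : ℚ) * (sg F : ℚ) = 1 := by exact_mod_cast sgn_sg (F := F)
    linear_combination hw + ((sg F : ℚ) * (c : ℚ) / (sd (D.vZ 1) s.C : ℚ)) * hs

/-- One common character carries the multiplicity: the values of the base column. -/
theorem type_one_values {μ : D.c.Cr →* ℂˣ} (hμ : μ ≠ 1) (o : D.Orb hyp μ)
    (hb : s.bs μ = (1, 0, 0, 1, 1, 1, 1)) :
    sg F = -1 ∧ (∃ j : ℕ, Odd j ∧ qI = 3 ^ j) ∧ (o.f : ℤ) = (qI - 1) * (qI ^ 2 - qI + 1) ∧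
      D.vZ 1 s.A = 1 ∧ D.vZ 1 s.B = -1 ∧ D.vZ 1 s.C = -1 ∧ (deg s.A : ℤ) = qI ^ 3 ∧
      (deg s.B : ℤ) = qI * (qI ^ 2 - qI + 1) ∧ (deg s.C : ℤ) = qI ^ 2 - qI + 1 := by
  obtain ⟨hA, hB, hC, hP, hR, hP2, hR2⟩ := s.sign hyp
  obtain ⟨hD, hPR, hPR2⟩ := s.rel hyp
  obtain ⟨E0, E1, E2⟩ := s.eqs hyp
  obtain ⟨hf, Ea⟩ := s.a_eqs hyp hμ o hb (by norm_num)
  obtain ⟨p, k, hp, hpk⟩ := prime_pow hyp
  have hfp : (0 : ℤ) < o.f := by exact_mod_cast o.f_pos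
  push_cast at Ea E1 E2
  obtain ⟨hsg, hj, hof, eA, eB, eC⟩ :=
    case_one (num hyp D.c) hp hpk (K := Kq E) (sd_ne_zero s.x_ne.1)
      (sd_ne_zero s.x_ne.2.1) (sd_ne_zero s.x_ne.2.2) (sd_ne_zero s.y_ne.1) (sd_ne_zero s.y_ne.2)
      hfp hD hPR (by linarith) (by simpa using o.hK) E0 (by push_cast; exact E1)
      (by push_cast; linear_combination Ea + (-(sg F : ℚ)) * (E1 - E2))
  refine ⟨hsg, hj, hof, ?_⟩
  have hq : 27 ≤ qI := (num hyp D.c).q_large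
  have hg : 0 < qI ^ 2 - qI + 1 := by nlinarith
  unfold sd at eA eB eC
  have vA : D.vZ 1 s.A = 1 := hA.resolve_right fun e => by
    rw [e] at eA; nlinarith [pow_pos (show (0 : ℤ) < qI by linarith) 3, (deg s.A).cast_nonneg (α := ℤ)]
  have vB : D.vZ 1 s.B = -1 := hB.resolve_left fun e => by
    rw [e] at eB; nlinarith [mul_pos (show (0 : ℤ) < qI by linarith) hg, (deg s.B).cast_nonneg (α := ℤ)]
  have vC : D.vZ 1 s.C = -1 := hC.resolve_left fun e => by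
    rw [e] at eC; nlinarith [(deg s.C).cast_nonneg (α := ℤ)]
  rw [vA] at eA; rw [vB] at eB; rw [vC] at eC
  exact ⟨vA, vB, vC, by linarith, by linarith, by linarith⟩

/-- One common character carries the multiplicity. -/
theorem type_one {μ : D.c.Cr →* ℂˣ} (hμ : μ ≠ 1) (o : D.Orb hyp μ)
    (hb : s.bs μ = (1, 0, 0, 1, 1, 1, 1)) : Concl G F := by
  obtain ⟨hsg, hj, hof, vA, vB, vC, dA, dB, dC⟩ := s.type_one_values hyp hμ o hb
  refine concl_of hyp o ⟨hsg, hj, hof⟩ ⟨s.A, s.B, s.C, dA, dB, dC, fun x hx => ?_⟩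
  have h0 := D.col_vZ (1 : tor D.g₁ →* ℂˣ) x hx
  rw [Finset.sum_congr rfl fun χ _ => mul_comm _ _,
    s.sum_x hyp (fun χ : Cfsg.IrrCharacter G => (χ : G → ℂ) x), vA, vB, vC, hsg] at h0
  rw [show (trivC G : G → ℂ) x = 1 from rfl] at h0
  push_cast at h0
  linear_combination h0

/-- All three characters of `vZ 1` carry a multiplicity. -/
theorem type_two {μ : D.c.Cr →* ℂˣ} (hμ : μ ≠ 1) (o : D.Orb hyp μ)
    (hb : s.bs μ = (1, 1, -1, 1, 0, 1, 0)) :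
    sd D.vH1 s.P ≠ sd D.vH1 s.R ∧ sd D.vH2 s.P2 = sd D.vH1 s.P ∧
      (o.f : ℤ) = 2 * sg F + 2 * (sd D.vH1 s.P - sd (D.vZ 1) s.C) := by
  obtain ⟨hA, hB, hC, hP, hR, hP2, hR2⟩ := s.sign hyp
  obtain ⟨hD, hPR, hPR2⟩ := s.rel hyp
  obtain ⟨E0, E1, E2⟩ := s.eqs hyp
  obtain ⟨hf, Ea⟩ := s.a_eqs hyp hμ o hb (by norm_num)
  have hfp : (0 : ℤ) < o.f := by exact_mod_cast o.f_pos
  have hC1 : (sd (D.vZ 1) s.C).natAbs ≠ 1 := by
    rw [sd_natAbs hC]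
    exact fun h => s.nd.2.2.1 (eq_trivC_of_deg hyp.perf h).symm
  have hne3 : sd D.vH2 s.P2 ≠ sd D.vH1 s.R := by
    intro e
    rw [e] at hf Ea
    refine case_three (num hyp D.c) (K := Kq E) (sd_ne_zero s.x_ne.2.2) hfp hC1 (by linarith)
      (by simpa using o.hK) E1 ?_
    push_cast at Ea ⊢
    linear_combination Ea
  have hu0 : ((2 * rI + sg F : ℤ) : ℚ) ^ 2 ≠ 0 := by
    have h := five_le_u hyp.mod8
    have h' := u_eq hyp.mod8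
    exact pow_ne_zero _ (by exact_mod_cast (by omega : (2 * rI + sg F : ℤ) ≠ 0))
  have hs0 : sd D.vH1 s.P + sd D.vH1 s.R ≠ 0 := fun h0 => by
    have : sd (D.vZ 1) s.C = sg F := by linarith
    rcases sg_cases (F := F) with e | e <;> rw [this, e] at hC1 <;> exact hC1 rfl
  have hcase := two_sums (P := sd D.vH1 s.P) (R := sd D.vH1 s.R) (P2 := sd D.vH2 s.P2)
    (R2 := sd D.vH2 s.R2) (sd_ne_zero s.y_ne.1) (sd_ne_zero s.y_ne.2) (sd_ne_zero s.w_ne.1)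
    (sd_ne_zero s.w_ne.2) (by linarith) hs0 (mul_left_cancel₀ hu0 (by linear_combination E1 - E2))
  have hP2P := hcase.resolve_right hne3
  exact ⟨fun e => hne3 (hP2P.trans e), hP2P, by rw [hP2P] at hf; linarith⟩

/-- If a single common character never carries the multiplicity, a private character of `vH1` is
selected. -/
theorem step {μ : D.c.Cr →* ℂˣ} (hμ : μ ≠ 1) (o : D.Orb hyp μ)
    (hno : ∀ s' : D.Std, s'.bs μ ≠ (1, 0, 0, 1, 1, 1, 1)) :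
    sb F (D.vZ 1) (D.vA μ) s.C = -1 ∧ ∃ s' : D.Std, s'.A = s.A ∧ s'.B = s.B ∧ s'.C = s.C ∧
      ((s'.P = s.P ∧ s'.R = s.R) ∨ (s'.P = s.R ∧ s'.R = s.P)) ∧
      s'.bs μ = (1, 1, -1, 1, 0, 1, 0) := by
  obtain ⟨a, ha⟩ : ∃ z, z = sb F (D.vZ 1) (D.vA μ) s.A := ⟨_, rfl⟩
  obtain ⟨b, hb⟩ : ∃ z, z = sb F (D.vZ 1) (D.vA μ) s.B := ⟨_, rfl⟩
  obtain ⟨c, hc⟩ : ∃ z, z = sb F (D.vZ 1) (D.vA μ) s.C := ⟨_, rfl⟩
  obtain ⟨p, hp⟩ : ∃ z, z = sb F D.vH1 (D.vA μ) s.P := ⟨_, rfl⟩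
  obtain ⟨r, hr⟩ : ∃ z, z = sb F D.vH1 (D.vA μ) s.R := ⟨_, rfl⟩
  obtain ⟨p2, hp2⟩ : ∃ z, z = sb F D.vH2 (D.vA μ) s.P2 := ⟨_, rfl⟩
  obtain ⟨r2, hr2⟩ : ∃ z, z = sb F D.vH2 (D.vA μ) s.R2 := ⟨_, rfl⟩
  have hbs : s.bs μ = (a, b, c, p, r, p2, r2) := by rw [ha, hb, hc, hp, hr, hp2, hr2]; rfl
  obtain ⟨h1, h2, h3, -, h5⟩ := s.b_rel hyp hμ o hbs
  rcases std_cases h1 h2 h3 h5 with ⟨rfl, rfl, rfl, rfl, rfl, rfl, rfl⟩ |
    ⟨rfl, rfl, rfl, rfl, rfl, rfl, rfl⟩ | ⟨rfl, rfl, rfl, hpr, hst⟩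
  · exact absurd hbs (hno s)
  · refine absurd ?_ (hno s.swapAB)
    simp only [bs, swapAB, ← ha, ← hb, ← hc, ← hp, ← hr, ← hp2, ← hr2]
  refine ⟨hc.symm, ?_⟩
  rcases hpr with ⟨rfl, rfl⟩ | ⟨rfl, rfl⟩ <;> rcases hst with ⟨rfl, rfl⟩ | ⟨rfl, rfl⟩
  · exact ⟨s, rfl, rfl, rfl, Or.inl ⟨rfl, rfl⟩, hbs⟩
  · exact ⟨s.swapW, rfl, rfl, rfl, Or.inl ⟨rfl, rfl⟩, by
      simp only [bs, swapW, ← ha, ← hb, ← hc, ← hp, ← hr, ← hp2, ← hr2]⟩
  · exact ⟨s.swapY, rfl, rfl, rfl, Or.inr ⟨rfl, rfl⟩, by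
      simp only [bs, swapY, ← ha, ← hb, ← hc, ← hp, ← hr, ← hp2, ← hr2]⟩
  · exact ⟨s.swapY.swapW, rfl, rfl, rfl, Or.inr ⟨rfl, rfl⟩, by
      simp only [bs, swapY, swapW, ← ha, ← hb, ← hc, ← hp, ← hr, ← hp2, ← hr2]⟩

include s in
/-- For some nontrivial character one common character carries the multiplicity. -/
theorem exists_type_one : ∃ (s' : D.Std) (μ : D.c.Cr →* ℂˣ),
    μ ≠ 1 ∧ s'.bs μ = (1, 0, 0, 1, 1, 1, 1) := by
  classical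
  by_contra hno
  push Not at hno
  haveI := D.c.isCyclic_Cr
  have hr7 := Cyc.seven_le_r hyp D.c
  have hμ₀ : D.μ₀ ≠ 1 := fun e => by
    have h := pow_ne_one_of_pos D.μ₀_inj (j := 1) (by rw [D.c.natCard_Cr]; omega) one_ne_zero
    exact h (MonoidHom.ext fun x => by simp [e])
  obtain ⟨o⟩ := D.exists_orb hyp hμ₀
  obtain ⟨-, t, -, -, -, -, htb⟩ := s.step hyp hμ₀ o fun s' => hno s' _ hμ₀
  obtain ⟨hPRne, hP2, hf⟩ := t.type_two hyp hμ₀ o htb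
  obtain ⟨hA, hB, hC, hP, hR, -, -⟩ := t.sign hyp
  -- the same selection for every character
  have hall : ∀ μ, μ ≠ 1 → sb F (D.vZ 1) (D.vA μ) t.C = -1 ∧ sb F D.vH1 (D.vA μ) t.P = 1 := by
    intro μ hμ
    obtain ⟨o'⟩ := D.exists_orb hyp hμ
    obtain ⟨hc, t', -, -, eC, hsel, hb'⟩ := t.step hyp hμ o' fun s' => hno s' _ hμ
    obtain ⟨-, -, hf'⟩ := t'.type_two hyp hμ o' hb'
    rw [eC, show (o'.f : ℤ) = (o.f : ℤ) by exact_mod_cast Dat.Orb.f_eq hyp D o' o] at hf'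
    simp only [bs, Prod.mk.injEq] at hb'
    refine ⟨hc, ?_⟩
    rcases hsel with ⟨e1, -⟩ | ⟨e1, -⟩
    · rw [← e1]; exact hb'.2.2.2.1
    · exfalso
      rw [e1] at hf'
      exact hPRne (by linarith)
  -- congruences
  obtain ⟨tA, tB, tC, tP, -, -, -⟩ := t.hT hyp
  have hsum : ∀ (v : Cfsg.IrrCharacter G → ℤ) (χ : Cfsg.IrrCharacter G) (z : ℤ),
      (v χ = 1 ∨ v χ = -1) → (∀ μ, μ ≠ 1 → sb F v (D.vA μ) χ = z) →
      ∑ j ∈ Finset.range (rOf F), D.vA (D.μ₀ ^ j) χ = (rI - 1) * (-(sg F) * z * v χ) := by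
    intro v χ z hv hz
    rw [← D.c.natCard_Cr, ← Finset.add_sum_erase _ _
      (Finset.mem_range.2 (Nat.card_pos (α := D.c.Cr))), pow_zero_hom D.μ₀_inj,
      show D.vA 1 χ = 0 from sub_self _, zero_add,
      Finset.sum_congr rfl (g := fun _ => -(sg F) * z * v χ) fun j hj => ?_, Finset.sum_const,
      Finset.card_erase_of_mem (Finset.mem_range.2 Nat.card_pos), Finset.card_range, nsmul_eq_mul,
      D.c.natCard_Cr, Nat.cast_sub (by omega : 1 ≤ rOf F), Nat.cast_one]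
    rw [← hz _ (pow_ne_one_of_pos D.μ₀_inj (Finset.mem_range.1 (Finset.mem_erase.1 hj).2)
      (Finset.mem_erase.1 hj).1)]
    rcases hv with e | e <;> rcases sg_cases (F := F) with e' | e' <;> simp [sb, e, e']
  have hq := q_eq hyp.mod8
  have hodd : Odd rI := (num hyp D.c).hodd
  have hDc : 8 * rI ∣ sd (D.vZ 1) t.C + sg F := by
    have h4 := D.dvd_sum_vA hyp t.C
    rw [hsum _ _ (-1) hC fun μ hμ => (hall μ hμ).1, tC] at h4
    have h8 := D.eight_dvd hyp t.C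
    rw [tC] at h8
    refine eight_r_dvd hodd ?_ ?_
    · obtain ⟨k, hk⟩ := h4
      refine ⟨D.vZ 1 t.C * k + sg F, ?_⟩
      unfold sd
      rcases hC with e | e <;> rw [e] at hk ⊢ <;> linear_combination (norm := ring_nf) (D.vZ 1 t.C) * hk <;>
        rw [e] <;> ring
    · obtain ⟨k, hk⟩ := h8
      refine ⟨D.vZ 1 t.C * k + sg F, ?_⟩
      unfold sd
      rcases hC with e | e <;> rw [e] at hk ⊢ <;> linarith
  have hPc : 8 * rI ∣ sd D.vH1 t.P - (2 * rI + sg F) := by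
    have h4 := D.dvd_sum_vA hyp t.P
    rw [hsum _ _ 1 hP fun μ hμ => (hall μ hμ).2, tP] at h4
    have h8 := D.eight_dvd hyp t.P
    rw [tP] at h8
    refine eight_r_dvd hodd ?_ ?_
    · obtain ⟨k, hk⟩ := h4
      refine ⟨D.vH1 t.P * k - sg F - 2, ?_⟩
      unfold sd
      rcases hP with e | e <;> rw [e] at hk ⊢ <;> linarith
    · obtain ⟨k, hk⟩ := h8
      refine ⟨D.vH1 t.P * k - (2 * rI + sg F), ?_⟩
      unfold sd
      rcases hP with e | e <;> rw [e] at hk ⊢ <;> linarith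
  obtain ⟨E0, E1, E2⟩ := t.eqs hyp
  obtain ⟨hfe, Ea⟩ := t.a_eqs hyp hμ₀ o htb (by norm_num)
  refine case_two (num hyp D.c) (K := Kq E) (sd_ne_zero t.x_ne.1) (sd_ne_zero t.x_ne.2.1)
    (sd_ne_zero t.x_ne.2.2) (sd_ne_zero t.y_ne.1) (by exact_mod_cast o.f_pos) hf (m_dvd_f hyp o)
    ?_ ?_ (sd_dvd hyp o hP tP) hPc hDc (by simpa using o.hK) E0 ?_
  · have := sd_dvd hyp o hA tA
    rwa [show qI ^ 2 * qI = qI ^ 3 by ring] at this
  · have := sd_dvd hyp o hB tB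
    rwa [show qI ^ 2 * qI = qI ^ 3 by ring] at this
  · rw [hP2] at Ea
    push_cast at Ea ⊢
    linear_combination Ea

include s in
/-- Two common characters give the conclusion. -/
theorem concl : Concl G F := by
  obtain ⟨t, μ, hμ, hb⟩ := s.exists_type_one hyp
  obtain ⟨o⟩ := D.exists_orb hyp hμ
  exact t.type_one hyp hμ o hb

end Dat.Std

end CfsgLib.JankoThompson
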