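import Cfsg.Agent.JankoThompson.Named
import Cfsg.Agent.JankoThompson.Alpha
import Cfsg.Agent.JankoThompson.Arith
import Cfsg.Agent.PRational.Basic
import Cfsg.Agent.Characters.Integrality
import Mathlib

/-!
# Tools for the degree equations
-/

set_option autoImplicit false
set_option linter.unusedSectionVars false
set_option linter.style.haveILetI false

namespace CfsgLib.JankoThompson

open Matrix CfsgLib.ReeTypeS3
open scoped MatrixGroups

universe u v w

/-! ### Integers -/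

theorem list_sum_eq {ι : Type w} [Fintype ι] {M : Type*} [AddCommMonoid M] (l : List ι)
    (hl : l.Nodup) (g : ι → M) (h0 : ∀ i, i ∉ l → g i = 0) : ∑ i, g i = (l.map g).sum := by
  classical
  rw [← List.sum_toFinset g hl]
  exact (Finset.sum_subset (Finset.subset_univ _) fun i _ hi => h0 i (by simpa using hi)).symm

theorem sq_facts (z : ℤ) :
    z ≤ z * z ∧ -z ≤ z * z ∧ 3 * z - 2 ≤ z * z ∧ -3 * z - 2 ≤ z * z := by
  rcases le_or_gt z 0 with h | h
  · rcases lt_or_eq_of_le h with h | h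
    · rcases (show z = -1 ∨ z ≤ -2 by omega) with h' | h'
      · subst h'; norm_num
      · refine ⟨?_, ?_, ?_, ?_⟩ <;> nlinarith
    · subst h; norm_num
  · rcases (show z = 1 ∨ 2 ≤ z by omega) with h' | h'
    · subst h'; norm_num
    · refine ⟨?_, ?_, ?_, ?_⟩ <;> nlinarith

theorem abs_le_two {z : ℤ} (h : z * z ≤ 5) : -2 ≤ z ∧ z ≤ 2 := by constructor <;> nlinarith

/-- The multiplicities on the named characters are not too few, two characters common to all. -/
theorem std_lower {a b c p r s t : ℤ} (h1 : a + b + c = 1) (h2 : a + b + p + r = 3)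
    (h3 : a + b + s + t = 3) :
    4 ≤ a * a + b * b + c * c + p * p + r * r + s * s + t * t := by
  have := sq_facts a; have := sq_facts b; have := sq_facts c; have := sq_facts p
  have := sq_facts r; have := sq_facts s; have := sq_facts t
  by_contra hh
  omega

/-- The multiplicities on the named characters, two characters common to all. -/
theorem std_cases {a b c p r s t : ℤ} (h1 : a + b + c = 1) (h2 : a + b + p + r = 3)
    (h3 : a + b + s + t = 3)
    (hn : a * a + b * b + c * c + p * p + r * r + s * s + t * t ≤ 5) :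
    (a = 1 ∧ b = 0 ∧ c = 0 ∧ p = 1 ∧ r = 1 ∧ s = 1 ∧ t = 1) ∨
    (a = 0 ∧ b = 1 ∧ c = 0 ∧ p = 1 ∧ r = 1 ∧ s = 1 ∧ t = 1) ∨
    (a = 1 ∧ b = 1 ∧ c = -1 ∧ ((p = 1 ∧ r = 0) ∨ (p = 0 ∧ r = 1)) ∧
      ((s = 1 ∧ t = 0) ∨ (s = 0 ∧ t = 1))) := by
  have := mul_self_nonneg a; have := mul_self_nonneg b; have := mul_self_nonneg c
  have := mul_self_nonneg p; have := mul_self_nonneg r; have := mul_self_nonneg s
  have := mul_self_nonneg t
  have := sq_facts a; have := sq_facts b; have := sq_facts c; have := sq_facts p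
  have := sq_facts r; have := sq_facts s; have := sq_facts t
  obtain ⟨ha, ha'⟩ := abs_le_two (z := a) (by linarith)
  obtain ⟨hb, hb'⟩ := abs_le_two (z := b) (by linarith)
  interval_cases a <;> interval_cases b <;> omega

/-- The multiplicities on the named characters are not too few, one character common to all. -/
theorem tri_lower {a b c p r s : ℤ} (h1 : a + b + c = 1) (h2 : a + b + p + r = 3)
    (h3 : a + c + p + s = 3) :
    4 ≤ a * a + b * b + c * c + p * p + r * r + s * s := by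
  have := sq_facts a; have := sq_facts b; have := sq_facts c; have := sq_facts p
  have := sq_facts r; have := sq_facts s
  by_contra hh
  omega

/-- The multiplicities on the named characters, one character common to all. -/
theorem tri_cases {a b c p r s : ℤ} (h1 : a + b + c = 1) (h2 : a + b + p + r = 3)
    (h3 : a + c + p + s = 3)
    (hn : a * a + b * b + c * c + p * p + r * r + s * s ≤ 5) :
    (a = 1 ∧ b = 0 ∧ c = 0 ∧ p = 2 ∧ r = 0 ∧ s = 0) ∨
    (a = 1 ∧ b = 0 ∧ c = 0 ∧ p = 1 ∧ r = 1 ∧ s = 1) := by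
  have := mul_self_nonneg a; have := mul_self_nonneg b; have := mul_self_nonneg c
  have := mul_self_nonneg p; have := mul_self_nonneg r; have := mul_self_nonneg s
  have := sq_facts a; have := sq_facts b; have := sq_facts c; have := sq_facts p
  have := sq_facts r; have := sq_facts s
  obtain ⟨ha, ha'⟩ := abs_le_two (z := a) (by linarith)
  obtain ⟨hb, hb'⟩ := abs_le_two (z := b) (by linarith)
  interval_cases a <;> interval_cases b <;> omega

variable {G : Type u} [Group G] [Fintype G] {F : Type v} [Field F] [Fintype F]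

local notation "PST" => Matrix.ProjectiveSpecialLinearGroup (Fin 2) F
local notation "qI" => (Fintype.card F : ℤ)
local notation "rI" => (rOf F : ℤ)
local notation "uI" => (2 * (rOf F : ℤ) + sg F)

noncomputable local instance (priority := high) instFintypePSTTools :
    Fintype (Matrix.ProjectiveSpecialLinearGroup (Fin 2) F) := Fintype.ofFinite _

noncomputable local instance (priority := high) instFintypeSubTools
    (H : Subgroup (Matrix.ProjectiveSpecialLinearGroup (Fin 2) F)) : Fintype H := Fintype.ofFinite _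

variable {E : Emb G (Matrix.ProjectiveSpecialLinearGroup (Fin 2) F)}

/-- The signed degree. -/
noncomputable def sd (v : Cfsg.IrrCharacter G → ℤ) (χ : Cfsg.IrrCharacter G) : ℤ := v χ * (deg χ : ℤ)

/-- The signed multiplicity. -/
def sb (F : Type v) [Fintype F] (v a : Cfsg.IrrCharacter G → ℤ) (χ : Cfsg.IrrCharacter G) : ℤ :=
  -(sg F) * v χ * a χ

theorem sd_ne_zero {v : Cfsg.IrrCharacter G → ℤ} {χ : Cfsg.IrrCharacter G} (h : v χ ≠ 0) :
    sd v χ ≠ 0 := mul_ne_zero h (by exact_mod_cast (deg_pos χ).ne')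

theorem sd_natAbs {v : Cfsg.IrrCharacter G → ℤ} {χ : Cfsg.IrrCharacter G}
    (h : v χ = 1 ∨ v χ = -1) : (sd v χ).natAbs = deg χ := by
  rcases h with e | e <;> simp [sd, e]

theorem sgn_sg : sg F * sg F = 1 := by
  rcases sg_cases (F := F) with e | e <;> rw [e] <;> norm_num

theorem sb_sq {v a : Cfsg.IrrCharacter G → ℤ} {χ : Cfsg.IrrCharacter G}
    (h : v χ = 1 ∨ v χ = -1) : a χ * a χ = sb F v a χ * sb F v a χ := by
  have h2 : v χ * v χ = 1 := by rcases h with e | e <;> rw [e] <;> norm_num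
  unfold sb
  linear_combination (-(a χ * a χ * (v χ * v χ))) * sgn_sg (F := F) - (a χ * a χ) * h2

theorem sb_mul {v a : Cfsg.IrrCharacter G → ℤ} {χ : Cfsg.IrrCharacter G}
    (h : v χ = 1 ∨ v χ = -1) : v χ * a χ = -(sg F) * sb F v a χ := by
  unfold sb
  linear_combination (-(v χ * a χ)) * sgn_sg (F := F)

theorem sb_deg {v a : Cfsg.IrrCharacter G → ℤ} {χ : Cfsg.IrrCharacter G}
    (h : v χ = 1 ∨ v χ = -1) : a χ * (deg χ : ℤ) = -(sg F) * sb F v a χ * sd v χ := by
  have h2 : v χ * v χ = 1 := by rcases h with e | e <;> rw [e] <;> norm_num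
  unfold sb sd
  linear_combination (-(a χ * (deg χ : ℤ) * (v χ * v χ))) * sgn_sg (F := F) -
    (a χ * (deg χ : ℤ)) * h2

variable (E) in
theorem term_eq {v : Cfsg.IrrCharacter G → ℤ} {χ : Cfsg.IrrCharacter G}
    (h : v χ = 1 ∨ v χ = -1) {T : ℤ} (hT : Tz E χ = v χ * T) :
    (v χ : ℚ) * (Tz E χ : ℚ) ^ 2 / (deg χ : ℚ) = (T : ℚ) ^ 2 / (sd v χ : ℚ) := by
  rw [hT]
  unfold sd
  rcases h with e | e <;> rw [e] <;> push_cast <;> ring

variable (E) in
theorem term_sb {v a : Cfsg.IrrCharacter G → ℤ} {χ : Cfsg.IrrCharacter G}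
    (h : v χ = 1 ∨ v χ = -1) {T : ℤ} (hT : Tz E χ = v χ * T) :
    (a χ : ℚ) * (Tz E χ : ℚ) ^ 2 / (deg χ : ℚ) =
      -(sg F : ℚ) * (sb F v a χ : ℚ) * ((T : ℚ) ^ 2 / (sd v χ : ℚ)) := by
  rw [hT]
  unfold sd sb
  rcases h with e | e <;> rcases sg_cases (F := F) with e' | e' <;> rw [e, e'] <;> push_cast <;> ring

variable (hyp : Hyp E)
include hyp

/-- The parameters as integers. -/
theorem num (c : Cyc E) : Num qI rI (sg F) where
  hδ := sg_cases
  hq := q_eq hyp.mod8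
  hr := by exact_mod_cast Cyc.seven_le_r hyp c
  hodd := by exact_mod_cast odd_r hyp.mod8

theorem prime_pow : ∃ p k : ℕ, p.Prime ∧ qI = ((p ^ k : ℕ) : ℤ) := by
  obtain ⟨p, hp⟩ := CharP.exists F
  obtain ⟨n, hpn, hn⟩ := FiniteField.card F p
  exact ⟨p, n, hpn, by rw [hn]⟩

variable {D : Dat E}

/-- The index of the centraliser of `t` through the common degree. -/
theorem index_eq {μ : D.c.Cr →* ℂˣ} (o : D.Orb hyp μ) :
    (qI + sg F) * ((Subgroup.centralizer ({E.t} : Set G)).index : ℤ) = qI ^ 2 * (o.f : ℤ) ∧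
      (Nat.card G : ℤ) = qI ^ 3 * (4 * rI) * (o.f : ℤ) := by
  have hG := natCard_G hyp
  have hC := natCard_C hyp
  obtain ⟨N, hN⟩ : ∃ N, N = (Subgroup.centralizer ({E.t} : Set G)).index := ⟨_, rfl⟩
  rw [← hN] at hG ⊢
  have hN0 : (N : ℚ) ≠ 0 := by
    rw [hN]; exact_mod_cast Subgroup.index_ne_zero_of_finite
  have hu := u_eq hyp.mod8
  have hq := q_eq hyp.mod8
  have h2u : 2 * (uOf F : ℚ) = (Fintype.card F : ℚ) + (sg F : ℚ) := by
    exact_mod_cast (by omega : 2 * (uOf F : ℤ) = qI + sg F)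
  have hK := o.hK
  unfold Kq at hK
  rw [hC, hG] at hK
  push_cast at hK
  have hm0 : (Fintype.card F : ℚ) + (sg F : ℚ) ≠ 0 := by
    rw [← h2u]; have := five_le_u hyp.mod8
    positivity
  have hq0 : (Fintype.card F : ℚ) ≠ 0 := Nat.cast_ne_zero.2 Fintype.card_ne_zero
  have hr0 : (rOf F : ℚ) ≠ 0 := Nat.cast_ne_zero.2 (by have := three_le_r hyp.mod8; omega)
  have hu0 : (uOf F : ℚ) ≠ 0 := Nat.cast_ne_zero.2 (by have := five_le_u hyp.mod8; omega)
  field_simp at hK
  have key : ((Fintype.card F : ℚ) + (sg F : ℚ)) * (N : ℚ) = (Fintype.card F : ℚ) ^ 2 * (o.f : ℚ) := by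
    refine mul_left_cancel₀ hm0 ?_
    linear_combination (-1 / 4 : ℚ) * hK + ((Fintype.card F : ℚ) ^ 2 * (o.f : ℚ)) * h2u
  have key' : (qI + sg F) * (N : ℤ) = qI ^ 2 * (o.f : ℤ) := by exact_mod_cast key
  refine ⟨key', ?_⟩
  rw [hG]
  push_cast
  linear_combination (4 * qI * rI) * key' + (4 * qI * rI * (N : ℤ)) *
    (by omega : 2 * (uOf F : ℤ) - (qI + sg F) = 0)

theorem m_dvd_f {μ : D.c.Cr →* ℂˣ} (o : D.Orb hyp μ) : qI + sg F ∣ (o.f : ℤ) :=
  ((num hyp D.c).coprime_q.symm.pow_right).dvd_of_dvd_mul_left ⟨_, (index_eq hyp o).1.symm⟩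

/-- The divisibility from the central character. -/
theorem sd_dvd {μ : D.c.Cr →* ℂˣ} (o : D.Orb hyp μ) {v : Cfsg.IrrCharacter G → ℤ}
    {χ : Cfsg.IrrCharacter G} (h : v χ = 1 ∨ v χ = -1) {T : ℤ} (hT : Tz E χ = v χ * T) :
    sd v χ * (qI + sg F) ∣ qI ^ 2 * T * (o.f : ℤ) := by
  obtain ⟨n, ρ, hρ, hχ⟩ := χ.2
  haveI := hρ
  have hn : (deg χ : ℂ) = (n : ℂ) := by
    rw [← deg_spec, ← hχ, Representation.char_one, Module.finrank_fin_fun]
  have hint := Characters.isIntegral_index_mul_char_div ρ E.t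
  rw [Module.finrank_fin_fun, ← hn, show ρ.character E.t = (χ : G → ℂ) E.t by rw [← hχ],
    ← cast_Tz] at hint
  obtain ⟨N, hN⟩ : ∃ N, N = (Subgroup.centralizer ({E.t} : Set G)).index := ⟨_, rfl⟩
  rw [← hN] at hint
  obtain ⟨z, hz⟩ := PRational.exists_int_of_isIntegral_of_mul hint (b := deg χ) (deg_pos χ).ne'
    (a := (N : ℤ) * Tz E χ) (by
      push_cast
      rw [mul_div_cancel₀ _ (Nat.cast_ne_zero.2 (deg_pos χ).ne')])
  have hz' : (N : ℤ) * Tz E χ = (deg χ : ℤ) * z := by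
    have hd : (deg χ : ℂ) ≠ 0 := Nat.cast_ne_zero.2 (deg_pos χ).ne'
    field_simp at hz
    exact_mod_cast hz
  obtain ⟨key, -⟩ := index_eq hyp o
  rw [← hN] at key
  refine ⟨z, ?_⟩
  unfold sd
  rw [hT] at hz'
  rcases h with e | e <;> rw [e] at hz' ⊢
  · linear_combination (-T) * key + (qI + sg F) * hz'
  · linear_combination (-T) * key - (qI + sg F) * hz'

namespace Dat

variable (D)

theorem vA_base {μ : D.c.Cr →* ℂˣ} (hμ : μ ≠ 1) :
    dotp (D.vA μ) (D.vZ 1) = 0 ∧ dotp (D.vA μ) D.vH1 = -3 * sg F ∧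
      dotp (D.vA μ) D.vH2 = -3 * sg F := by
  have h1 : dotp (D.vW hyp μ) (D.vZ 1) = 0 := by
    unfold vW; simp only [dotp_sub, dotp_add, dotp_smul, D.dot_PZ hyp]; ring
  have h2 : dotp (D.vW hyp μ) (D.vP 1) = -24 := by
    unfold vW
    simp only [dotp_sub, dotp_add, dotp_smul, D.dot_PP hyp, dlt_one_one, dlt_one_right hμ,
      dlt_one_right (D.rot_ne_one hyp hμ),
      dlt_one_right (D.rot_ne_one hyp (D.rot_ne_one hyp hμ))]
    norm_num
  have h3 : dotp (D.vW hyp μ) D.vE = 0 := by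
    rw [dotp_comm]; unfold vW
    simp only [dotp_sub', dotp_add', dotp_smul', D.dot_EP hyp]; ring
  have a1 := D.dot_vA hyp μ (D.col_vZ 1)
  have a2 := D.dot_vA hyp μ (D.col_vP 1)
  have a3 := D.dot_vA hyp μ D.col_vE
  rw [h1] at a1
  rw [h2] at a2
  rw [h3] at a3
  have b1 := D.two_dot_vH1 hyp (D.vA μ)
  have b2 := D.two_dot_vH2 hyp (D.vA μ)
  rw [dotp_comm (D.vZ 1), dotp_comm (D.vP 1), dotp_comm D.vE] at b1 b2
  rw [dotp_comm (D.vA μ) D.vH1, dotp_comm (D.vA μ) D.vH2]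
  refine ⟨by linarith, by linarith, by linarith⟩

/-- On the four characters of the orbit `vA` is the indicator, up to a constant. -/
theorem vA_on_R {μ : D.c.Cr →* ℂˣ} (hμ : μ ≠ 1) (o : D.Orb hyp μ) :
    ∃ k : ℤ, D.vA μ o.i₀ = sg F + k ∧ (∀ i ∈ o.R, i ≠ o.i₀ → D.vA μ i = k) ∧
      ∑ i ∈ o.R, D.vA μ i * D.vA μ i = 4 * (k * k) + 2 * (sg F * k) + 1 := by
  classical
  have hodd := D.c.odd_Cr hyp
  obtain ⟨μ₁, hμ₁⟩ : ∃ ν, ν = D.rot hyp μ := ⟨_, rfl⟩
  obtain ⟨μ₂, hμ₂⟩ : ∃ ν, ν = D.rot hyp μ₁ := ⟨_, rfl⟩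
  have n1 : μ₁ ≠ 1 := hμ₁ ▸ D.rot_ne_one hyp hμ
  have n2 : μ₂ ≠ 1 := hμ₂ ▸ D.rot_ne_one hyp n1
  have s0 := dlt_self_odd hodd hμ
  have s1 := dlt_self_odd hodd n1
  have s2 := dlt_self_odd hodd n2
  have d01 : dlt μ μ₁ = 0 := hμ₁ ▸ (D.dlt_rot hyp hμ).1
  have d02 : dlt μ μ₂ = 0 := by rw [hμ₂, hμ₁]; exact (D.dlt_rot hyp hμ).2
  have d12 : dlt μ₁ μ₂ = 0 := hμ₂ ▸ (D.dlt_rot hyp n1).1
  let x : Cfsg.IrrCharacter G → ℤ := fun χ => D.vA μ χ - (if χ = o.i₀ then sg F else 0)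
  have hx : ∀ ν, 4 * dotp x (D.vP ν) = sg F * (4 * (dlt μ ν + dlt μ₁ ν + dlt μ₂ ν) -
      12 * dlt 1 ν) - 4 * sg F * D.vP ν o.i₀ := by
    intro ν
    simp only [x, dotp_sub]
    rw [show dotp (fun χ => if χ = o.i₀ then sg F else 0) (D.vP ν) = sg F * D.vP ν o.i₀ by
      simp [dotp, ite_mul], mul_sub, D.dot_vA hyp μ (D.col_vP ν)]
    unfold vW
    rw [← hμ₁, ← hμ₂]
    simp only [dotp_sub, dotp_add, dotp_smul, D.dot_PP hyp]
    ring
  obtain ⟨a0, a1, a2⟩ := o.at_i₀
  rw [← hμ₁] at a1 a2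
  rw [← hμ₂] at a2
  have c := o.const x ?_ ?_ ?_
  · refine ⟨x o.i₀, ?_, ?_, ?_⟩
    · simp only [x, if_true]; ring
    · intro i hi hne
      rw [← c i hi o.i₀ o.mem]
      simp only [x, if_neg hne, sub_zero]
    · have hoff : ∀ i ∈ o.R.erase o.i₀, D.vA μ i * D.vA μ i = x o.i₀ * x o.i₀ := fun i hi => by
        obtain ⟨hne, hiR⟩ := Finset.mem_erase.1 hi
        rw [← c i hiR o.i₀ o.mem]
        simp only [x, if_neg hne, sub_zero]
      rw [← Finset.add_sum_erase _ _ o.mem, Finset.sum_congr rfl hoff, Finset.sum_const,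
        Finset.card_erase_of_mem o.mem, o.card, show D.vA μ o.i₀ = x o.i₀ + sg F by
          simp only [x, if_true]; ring]
      simp only [nsmul_eq_mul]
      push_cast
      linear_combination sgn_sg (F := F)
  · have := hx μ
    rw [s0, (dlt_comm _ _).trans d01, (dlt_comm _ _).trans d02, dlt_one_left hμ, a0] at this
    linarith
  · have := hx μ₁
    rw [s1, d01, (dlt_comm _ _).trans d12, dlt_one_left n1, a1] at this
    rw [← hμ₁]; linarith
  · have := hx μ₂
    rw [s2, d02, d12, dlt_one_left n2, a2] at this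
    rw [← hμ₁, ← hμ₂]; linarith

/-- The characters of an orbit are not among the named ones. -/
theorem not_mem_R {μ : D.c.Cr →* ℂˣ} (o : D.Orb hyp μ) {χ : Cfsg.IrrCharacter G}
    (h : D.vZ 1 χ ≠ 0 ∨ D.vH1 χ ≠ 0 ∨ D.vH2 χ ≠ 0) : χ ∉ o.R := by
  intro hR
  obtain ⟨hE, hP, hZ⟩ := o.base χ hR
  have h1 := D.two_vH1 hyp χ
  have h2 := D.two_vH2 hyp χ
  rw [hE, hP, hZ 1] at h1 h2
  rcases h with h | h | h
  · exact h (hZ 1)
  · omega
  · omega

theorem triv_not_mem_R {μ : D.c.Cr →* ℂˣ} (o : D.Orb hyp μ) : trivC G ∉ o.R := by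
  classical
  refine D.not_mem_R hyp o (Or.inl ?_)
  rw [D.vZ_trivC hyp, if_pos rfl]
  rcases sg_cases (F := F) with e | e <;> rw [e] <;> norm_num

/-- The squares of `vA` on the trivial character, the orbit and further characters. -/
theorem norm_bound {μ : D.c.Cr →* ℂˣ} (hμ : μ ≠ 1) (o : D.Orb hyp μ)
    (l : List (Cfsg.IrrCharacter G)) (hl : (trivC G :: l).Nodup) (hR : ∀ χ ∈ l, χ ∉ o.R) :
    1 + (∑ i ∈ o.R, D.vA μ i * D.vA μ i) + (l.map fun χ => D.vA μ χ * D.vA μ χ).sum ≤ 7 := by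
  classical
  have h := Finset.sum_le_univ_sum_of_nonneg (fun i => mul_self_nonneg (D.vA μ i))
    (s := o.R ∪ (trivC G :: l).toFinset)
  rw [Finset.sum_union (Finset.disjoint_left.2 fun i hi hi' => by
    rw [List.mem_toFinset, List.mem_cons] at hi'
    rcases hi' with e | e
    · exact D.triv_not_mem_R hyp o (e ▸ hi)
    · exact hR i e hi), List.sum_toFinset _ hl, List.map_cons, List.sum_cons,
    D.vA_trivC hyp hμ] at h
  have h7 := D.dot_vA_self hyp hμ
  rw [dotp] at h7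
  linarith

/-- Outside the trivial character, the leading character of the orbit and the named ones, the
squares of `vA` add up to the deficit. -/
theorem rest_norm {μ : D.c.Cr →* ℂˣ} (hμ : μ ≠ 1) (o : D.Orb hyp μ)
    (hi₀ : D.vA μ o.i₀ = sg F) (l : List (Cfsg.IrrCharacter G))
    (hl : (trivC G :: o.i₀ :: l).Nodup) [DecidableEq (Cfsg.IrrCharacter G)] :
    2 + (l.map fun χ => D.vA μ χ * D.vA μ χ).sum +
      ∑ χ with χ ∉ trivC G :: o.i₀ :: l, D.vA μ χ * D.vA μ χ = 7 := by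
  have h7 := D.dot_vA_self hyp hμ
  rw [dotp, ← Finset.sum_filter_add_sum_filter_not Finset.univ (fun χ => χ ∈ trivC G :: o.i₀ :: l),
    show Finset.univ.filter (fun χ => χ ∈ trivC G :: o.i₀ :: l) = (trivC G :: o.i₀ :: l).toFinset by
      ext; simp, List.sum_toFinset _ hl, List.map_cons, List.sum_cons, List.map_cons, List.sum_cons,
    D.vA_trivC hyp hμ, hi₀] at h7
  linarith [sgn_sg (F := F)]

end Dat

end CfsgLib.JankoThompson
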