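import Cfsg.Agent.JankoThompson.Counts
import Cfsg.Agent.Characters.Linear
import Mathlib

/-!
# Basic facts about the columns: value at the trivial character, parity, the value at `t`
-/

set_option autoImplicit false
set_option linter.unusedSectionVars false
set_option linter.style.haveILetI false

namespace CfsgLib.JankoThompson

open Matrix CfsgLib.ReeTypeS3
open scoped MatrixGroups

universe u v w

/-! ### Characters of finite groups of odd order -/

section Lin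

variable {H : Type w} [Group H]

theorem dlt_one_one : dlt (1 : H →* ℂˣ) 1 = 2 := by
  unfold dlt
  rw [if_pos rfl, if_pos (MonoidHom.ext fun x => by simp)]; rfl

theorem dlt_one_left {ν : H →* ℂˣ} (hν : ν ≠ 1) : dlt (1 : H →* ℂˣ) ν = 0 := by
  unfold dlt
  rw [if_neg (Ne.symm hν), if_neg (fun h => hν (MonoidHom.ext fun x =>
    inv_eq_one.1 (DFunLike.congr_fun h.symm x))), add_zero]

theorem dlt_one_right {ν : H →* ℂˣ} (hν : ν ≠ 1) : dlt ν 1 = 0 := by
  unfold dlt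
  rw [if_neg hν, if_neg (fun h => hν (h.trans (MonoidHom.ext fun x => by simp))), add_zero]

theorem char_ne_inv [Finite H] (hH : Odd (Nat.card H)) {ν : H →* ℂˣ} (hν : ν ≠ 1) : ν ≠ ν⁻¹ := by
  intro h
  refine hν (MonoidHom.ext fun x => ?_)
  have h2 : ν x * ν x = 1 := by
    nth_rewrite 1 [h]
    rw [MonoidHom.inv_apply, inv_mul_cancel]
  have h1 : ν x ^ Nat.card H = 1 := by rw [← map_pow, pow_card_eq_one', map_one]
  obtain ⟨j, hj⟩ := hH
  rwa [hj, pow_succ, pow_mul, pow_two, h2, one_pow, one_mul] at h1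

theorem dlt_self_odd [Finite H] (hH : Odd (Nat.card H)) {ν : H →* ℂˣ} (hν : ν ≠ 1) :
    dlt ν ν = 1 := by
  unfold dlt
  rw [if_pos rfl, if_neg (char_ne_inv hH hν), add_zero]

theorem dlt_cases [Finite H] (hH : Odd (Nat.card H)) (ν : H →* ℂˣ) {κ : H →* ℂˣ} (hκ : κ ≠ 1) :
    dlt ν κ = 0 ∨ (dlt ν κ = 1 ∧ (ν = κ ∨ ν = κ⁻¹)) := by
  unfold dlt
  by_cases h : ν = κ
  · right
    rw [if_pos h, if_neg (fun e => char_ne_inv hH hκ (h.symm.trans e)), add_zero]
    exact ⟨rfl, Or.inl h⟩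
  · by_cases h' : ν = κ⁻¹
    · right
      rw [if_neg h, if_pos h', zero_add]
      exact ⟨rfl, Or.inr h'⟩
    · left
      rw [if_neg h, if_neg h', add_zero]

variable [Finite H] [IsCyclic H] {μ : H →* ℂˣ} (hμ : Function.Injective μ)
include hμ

theorem pow_zero_hom : μ ^ 0 = 1 := MonoidHom.ext fun x => by simp

theorem pow_ne_one_of_pos {j : ℕ} (hj : j < Nat.card H) (hj0 : j ≠ 0) : μ ^ j ≠ 1 := fun e =>
  hj0 (pow_injOn hμ hj Nat.card_pos (e.trans (pow_zero_hom hμ).symm))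

theorem sum_dlt {κ : H →* ℂˣ} (hκ : κ ≠ 1) :
    ∑ j ∈ (Finset.range (Nat.card H)).erase 0, dlt (μ ^ j) κ = 2 := by
  classical
  have hall : ∀ κ : H →* ℂˣ,
      ∑ j ∈ Finset.range (Nat.card H), (if μ ^ j = κ then (1 : ℤ) else 0) = 1 := by
    intro κ
    obtain ⟨j, hj, rfl⟩ := exists_pow_eq hμ κ
    rw [Finset.sum_eq_single j (fun i hi hij => by
      rw [if_neg]; intro e
      exact hij (pow_injOn hμ (Finset.mem_range.1 hi) hj e))
      (fun h => absurd (Finset.mem_range.2 hj) h), if_pos rfl]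
  rw [Finset.sum_erase _ (by rw [pow_zero_hom hμ]; exact dlt_one_left hκ)]
  unfold dlt
  rw [Finset.sum_add_distrib]
  convert congrArg₂ HAdd.hAdd (hall κ) (hall κ⁻¹)
  norm_num

/-- A function of the characters, invariant under inversion and supported on `1` and `κ^±`. -/
theorem sum_pow_split (hH : Odd (Nat.card H)) (f : (H →* ℂˣ) → ℤ) (hf : ∀ ν, f ν⁻¹ = f ν)
    {κ : H →* ℂˣ} (hκ : κ ≠ 1) (h0 : ∀ ν, ν ≠ 1 → dlt ν κ = 0 → f ν = 0) :
    ∑ j ∈ Finset.range (Nat.card H), f (μ ^ j) = f 1 + 2 * f κ := by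
  rw [← Finset.add_sum_erase _ _ (Finset.mem_range.2 (Nat.card_pos (α := H))), pow_zero_hom hμ]
  congr 1
  rw [Finset.sum_congr rfl (g := fun j => dlt (μ ^ j) κ * f κ) fun j hj => ?_, ← Finset.sum_mul,
    sum_dlt hμ hκ]
  obtain ⟨hj0, hjr⟩ := Finset.mem_erase.1 hj
  rcases dlt_cases hH (μ ^ j) hκ with e | ⟨e, e' | e'⟩ <;> rw [e]
  · rw [h0 _ (pow_ne_one_of_pos hμ (Finset.mem_range.1 hjr) hj0) e, zero_mul]
  · rw [e', one_mul]
  · rw [e', one_mul, hf]

end Lin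

variable {G : Type u} [Group G] [Fintype G] {F : Type v} [Field F] [Fintype F]

local notation "PST" => Matrix.ProjectiveSpecialLinearGroup (Fin 2) F

noncomputable local instance (priority := high) instFintypePSTValues :
    Fintype (Matrix.ProjectiveSpecialLinearGroup (Fin 2) F) := Fintype.ofFinite _

noncomputable local instance (priority := high) instFintypeSubValues
    (H : Subgroup (Matrix.ProjectiveSpecialLinearGroup (Fin 2) F)) : Fintype H := Fintype.ofFinite _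

variable {E : Emb G (Matrix.ProjectiveSpecialLinearGroup (Fin 2) F)}

/-- The trivial character. -/
noncomputable def trivC (G : Type u) [Group G] [Fintype G] : Cfsg.IrrCharacter G :=
  ⟨fun _ => 1, Characters.isIrr_one⟩

theorem deg_trivC : deg (trivC G) = 1 := by
  have h := deg_spec (trivC G)
  have h' : ((deg (trivC G) : ℕ) : ℂ) = ((1 : ℕ) : ℂ) := by rw [Nat.cast_one]; exact h.symm
  exact_mod_cast h'

theorem eq_trivC_of_deg (hperf : commutator G = ⊤) {χ : Cfsg.IrrCharacter G} (h : deg χ = 1) :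
    χ = trivC G := by
  obtain ⟨f, hf⟩ := Characters.exists_hom_of_degree_one (Characters.isCharacter_of_isIrr χ.2)
    (by rw [deg_spec, h, Nat.cast_one])
  refine Subtype.ext (funext fun g => ?_)
  have hg : g ∈ f.ker := Abelianization.commutator_subset_ker f (by rw [hperf]; trivial)
  rw [MonoidHom.mem_ker] at hg
  rw [hf]
  show ((f g : ℂˣ) : ℂ) = 1
  rw [hg, Units.val_one]

/-- A vector orthogonal to the columns of elements of odd order. -/
def Col (v : Cfsg.IrrCharacter G → ℤ) : Prop :=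
  ∀ g : G, Odd (orderOf g) → ∑ χ : Cfsg.IrrCharacter G, (χ : G → ℂ) g * (v χ : ℂ) = 0

theorem Col.add {v w : Cfsg.IrrCharacter G → ℤ} (hv : Col v) (hw : Col w) :
    Col fun χ => v χ + w χ := fun g hg => by
  simp only [Int.cast_add, mul_add, Finset.sum_add_distrib, hv g hg, hw g hg, add_zero]

theorem Col.sub {v w : Cfsg.IrrCharacter G → ℤ} (hv : Col v) (hw : Col w) :
    Col fun χ => v χ - w χ := fun g hg => by
  simp only [Int.cast_sub, mul_sub, Finset.sum_sub_distrib, hv g hg, hw g hg, sub_zero]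

theorem Col.smul {v : Cfsg.IrrCharacter G → ℤ} (hv : Col v) (n : ℤ) :
    Col fun χ => n * v χ := fun g hg => by
  rw [Finset.sum_congr rfl (g := fun χ : Cfsg.IrrCharacter G =>
    (n : ℂ) * ((χ : G → ℂ) g * (v χ : ℂ))) fun χ _ => by push_cast; ring, ← Finset.mul_sum,
    hv g hg, mul_zero]

theorem Col.deg_orth {v : Cfsg.IrrCharacter G → ℤ} (hv : Col v) :
    ∑ χ, v χ * (deg χ : ℤ) = 0 := by
  have h := hv 1 (by rw [orderOf_one]; exact odd_one)
  simp only [deg_spec] at h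
  have : ∑ χ : Cfsg.IrrCharacter G, (v χ : ℂ) * (deg χ : ℂ) = 0 := by
    rw [← h]; exact Finset.sum_congr rfl fun _ _ => mul_comm _ _
  exact_mod_cast this

theorem col_Pz (H : Subgroup PST) (α : H →* ℂˣ) : Col (Pz E H α) := fun _ hg =>
  sum_col_mul_Pz E H α fun _ => not_conj_section hg

theorem Pz_trivC (H : Subgroup PST) (α : H →* ℂˣ) [Decidable (α = 1)] :
    Pz E H α (trivC G) = if α = 1 then 1 else 0 := by
  classical
  have h : (Pz E H α (trivC G) : ℂ) = if α = 1 then (1 : ℂ) else 0 := by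
    rw [cast_Pz, P, avg]
    have hs : ∑ h : H, (trivC G : G → ℂ) (E.t * (E.ι.comp H.subtype) h) * (((α h)⁻¹ : ℂˣ) : ℂ) =
        ∑ h : H, (((α⁻¹ : H →* ℂˣ) h : ℂˣ) : ℂ) :=
      Finset.sum_congr rfl fun h _ => one_mul _
    rw [hs, ReeTypeS3.sum_hom]
    by_cases e : α = 1
    · rw [if_pos e, if_pos (MonoidHom.ext fun x => by simp [e]),
        inv_mul_cancel₀ (Nat.cast_ne_zero.2 Fintype.card_ne_zero)]
    · rw [if_neg e, if_neg (fun e' => e (MonoidHom.ext fun x =>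
        inv_eq_one.1 (DFunLike.congr_fun e' x))), mul_zero]
  split_ifs at h ⊢ <;> exact_mod_cast h

theorem Tz_trivC : Tz E (trivC G) = 1 := by
  classical
  rw [Tz, Pz_trivC, if_pos rfl]

variable (hyp : Hyp E)
include hyp

/-- Pairing a character with its inverse. -/
theorem parity_one (H : Subgroup PST) [IsCyclic H] (hH : Odd (Nat.card H))
    (hinv : ∀ ν : H →* ℂˣ, Pz E H ν⁻¹ = Pz E H ν) (χ : Cfsg.IrrCharacter G) :
    (2 : ℤ) ∣ Tz E χ - Pz E H 1 χ := by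
  obtain ⟨μ, hμ⟩ := exists_faithful (H := H)
  obtain ⟨n, hn⟩ : ∃ n, n = Nat.card H := ⟨_, rfl⟩
  have hpos : 0 < n := hn ▸ Nat.card_pos
  have hev : (2 : ℤ) ∣ ∑ j ∈ (Finset.range n).erase 0, Pz E H (μ ^ j) χ := by
    refine (ZMod.intCast_zmod_eq_zero_iff_dvd _ 2).1 ?_
    rw [Int.cast_sum]
    refine Finset.sum_involution (fun j _ => n - j) ?_ ?_ ?_ ?_
    · intro j hj
      obtain ⟨hj0, hjn⟩ := Finset.mem_erase.1 hj
      rw [Finset.mem_range] at hjn
      have hm : μ ^ (n - j) = (μ ^ j)⁻¹ := by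
        refine MonoidHom.ext fun x => ?_
        rw [MonoidHom.inv_apply, MonoidHom.pow_apply, MonoidHom.pow_apply, eq_inv_iff_mul_eq_one,
          ← pow_add, Nat.sub_add_cancel hjn.le, ← map_pow, hn, pow_card_eq_one', map_one]
      rw [hm, hinv]
      exact CharTwo.add_self_eq_zero _
    · intro j hj _ e
      obtain ⟨hj0, hjn⟩ := Finset.mem_erase.1 hj
      rw [Finset.mem_range] at hjn
      obtain ⟨k, hk⟩ := hH
      omega
    · intro j hj
      obtain ⟨hj0, hjn⟩ := Finset.mem_erase.1 hj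
      rw [Finset.mem_range] at hjn
      exact Finset.mem_erase.2 ⟨by omega, Finset.mem_range.2 (by omega)⟩
    · intro j hj
      obtain ⟨hj0, hjn⟩ := Finset.mem_erase.1 hj
      rw [Finset.mem_range] at hjn
      omega
  rw [← sum_Pz E H μ hμ χ, ← hn, ← Finset.add_sum_erase _ _ (Finset.mem_range.2 hpos),
    pow_zero_hom hμ, add_sub_cancel_left]
  exact hev

namespace Dat

variable (D : Dat E)

/-- A faithful character of `C_r`. -/
noncomputable def μ₀ : D.c.Cr →* ℂˣ :=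
  haveI := D.c.isCyclic_Cr
  (exists_faithful (H := D.c.Cr)).choose

omit hyp in
theorem μ₀_inj : Function.Injective D.μ₀ := by
  haveI := D.c.isCyclic_Cr
  exact (exists_faithful (H := D.c.Cr)).choose_spec

/-- A faithful character of the torus of order `u`. -/
noncomputable def τ₀ : tor D.g₁ →* ℂˣ :=
  haveI := isCyclic_tor D.htr₁
  (exists_faithful (H := tor D.g₁)).choose

omit hyp in
theorem τ₀_inj : Function.Injective D.τ₀ := by
  haveI := isCyclic_tor D.htr₁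
  exact (exists_faithful (H := tor D.g₁)).choose_spec

/-- The sum of all the short columns of `C_r`. -/
noncomputable def sumP : Cfsg.IrrCharacter G → ℤ :=
  fun χ => ∑ j ∈ Finset.range (rOf F), D.vP (D.μ₀ ^ j) χ

/-- The sum of all the short columns of the odd torus. -/
noncomputable def sumZ : Cfsg.IrrCharacter G → ℤ :=
  fun χ => ∑ j ∈ Finset.range (uOf F), D.vZ (D.τ₀ ^ j) χ

theorem Pz_Cr_eq (μ : D.c.Cr →* ℂˣ) (χ : Cfsg.IrrCharacter G) :
    Pz E D.c.Cr μ χ = sg F * D.vP μ χ + 2 * D.vN χ := by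
  unfold vP
  rw [← mul_assoc, sgZ_sq hyp]; ring

theorem Pz_g₁_eq (τ : tor D.g₁ →* ℂˣ) (χ : Cfsg.IrrCharacter G) :
    Pz E (tor D.g₁) τ χ = D.vN χ - sg F * D.vZ τ χ := by
  unfold vZ
  rw [← mul_assoc, sgZ_sq hyp]; ring

/-- The value at `t` through the short columns. -/
theorem vN_Tz_eq (χ : Cfsg.IrrCharacter G) :
    D.vN χ = D.sumP χ + D.sumZ χ ∧
      Tz E χ = (uOf F : ℤ) * D.sumP χ + 2 * (rOf F : ℤ) * D.sumZ χ := by
  haveI := D.c.isCyclic_Cr
  haveI := isCyclic_tor D.htr₁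
  have h1 := sum_Pz E D.c.Cr D.μ₀ D.μ₀_inj χ
  rw [D.c.natCard_Cr, Finset.sum_congr rfl fun j _ => D.Pz_Cr_eq hyp (D.μ₀ ^ j) χ,
    Finset.sum_add_distrib, ← Finset.mul_sum, Finset.sum_const, Finset.card_range, nsmul_eq_mul] at h1
  have h2 := sum_Pz E (tor D.g₁) D.τ₀ D.τ₀_inj χ
  rw [D.card₁, Finset.sum_congr rfl fun j _ => D.Pz_g₁_eq hyp (D.τ₀ ^ j) χ,
    Finset.sum_sub_distrib, ← Finset.mul_sum, Finset.sum_const, Finset.card_range, nsmul_eq_mul] at h2
  have hu := u_eq hyp.mod8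
  have hs : sg F * sg F = 1 := sgZ_sq hyp
  have hN : D.vN χ = D.sumP χ + D.sumZ χ := by
    unfold sumP sumZ
    linear_combination (-(sg F)) * (h1 - h2) + (sg F * D.vN χ) * (-hu) +
      (-(D.vN χ) + ∑ j ∈ Finset.range (rOf F), D.vP (D.μ₀ ^ j) χ +
        ∑ j ∈ Finset.range (uOf F), D.vZ (D.τ₀ ^ j) χ) * hs
  refine ⟨hN, ?_⟩
  rw [hu, ← h1, hN]
  unfold sumP sumZ
  ring

omit hyp in
theorem col_vP (μ : D.c.Cr →* ℂˣ) : Col (D.vP μ) :=
  (((col_Pz D.c.Cr μ).sub ((((col_Pz _ (lam 1)).add (col_Pz _ (lam D.ns))) : Col D.vN).smul 2)).smul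
    (sg F))

omit hyp in
theorem col_vZ (τ : tor D.g₁ →* ℂˣ) : Col (D.vZ τ) :=
  ((((col_Pz _ (lam 1)).add (col_Pz _ (lam D.ns))) : Col D.vN).sub (col_Pz (tor D.g₁) τ)).smul (sg F)

omit hyp in
theorem col_vE : Col D.vE := (col_Pz _ (lam 1)).sub (col_Pz _ (lam D.ns))

theorem vN_trivC : D.vN (trivC G) = 0 := by
  classical
  unfold vN
  rw [Pz_trivC, Pz_trivC, if_neg (lam_ne_one hyp one_ne_zero), if_neg (lam_ne_one hyp D.ns_ne_zero),
    add_zero]

theorem vE_trivC : D.vE (trivC G) = 0 := by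
  classical
  unfold vE
  rw [Pz_trivC, Pz_trivC, if_neg (lam_ne_one hyp one_ne_zero), if_neg (lam_ne_one hyp D.ns_ne_zero),
    sub_zero]

theorem vP_trivC (μ : D.c.Cr →* ℂˣ) [Decidable (μ = 1)] :
    D.vP μ (trivC G) = if μ = 1 then sg F else 0 := by
  unfold vP
  rw [D.vN_trivC hyp, Pz_trivC]
  split_ifs <;> ring

theorem vZ_trivC (τ : tor D.g₁ →* ℂˣ) [Decidable (τ = 1)] :
    D.vZ τ (trivC G) = if τ = 1 then -sg F else 0 := by
  unfold vZ
  rw [D.vN_trivC hyp, Pz_trivC]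
  split_ifs <;> ring

/-! ### The halves -/

theorem parity_base (χ : Cfsg.IrrCharacter G) :
    (2 : ℤ) ∣ D.vZ 1 χ + D.vP 1 χ + D.vE χ := by
  haveI := D.c.isCyclic_Cr
  haveI := isCyclic_tor D.htr₁
  have h1 := parity_one hyp D.c.Cr (D.c.odd_Cr hyp) (D.Pz_Cr_inv hyp) χ
  have h2 := parity_one hyp (tor D.g₁) (D.odd_g₁ hyp) (D.Pz_g₁_inv hyp) χ
  unfold vZ vP vE vN
  rcases sg_cases (F := F) with e | e <;> rw [e] <;> omega

/-- Half the sum of the three base columns. -/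
noncomputable def vH1 : Cfsg.IrrCharacter G → ℤ :=
  fun χ => (D.vZ 1 χ + D.vP 1 χ + D.vE χ) / 2

/-- Half their signed sum. -/
noncomputable def vH2 : Cfsg.IrrCharacter G → ℤ :=
  fun χ => (D.vZ 1 χ + D.vP 1 χ - D.vE χ) / 2

theorem two_vH1 (χ : Cfsg.IrrCharacter G) :
    2 * D.vH1 χ = D.vZ 1 χ + D.vP 1 χ + D.vE χ :=
  Int.mul_ediv_cancel' (D.parity_base hyp χ)

theorem two_vH2 (χ : Cfsg.IrrCharacter G) :
    2 * D.vH2 χ = D.vZ 1 χ + D.vP 1 χ - D.vE χ :=
  Int.mul_ediv_cancel' (by have := D.parity_base hyp χ; omega)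

theorem col_vH1 : Col D.vH1 := fun g hg => by
  have h : Col fun χ => 2 * D.vH1 χ := by
    rw [show (fun χ => 2 * D.vH1 χ) = fun χ => D.vZ 1 χ + D.vP 1 χ + D.vE χ from
      funext (D.two_vH1 hyp)]
    exact ((D.col_vZ 1).add (D.col_vP 1)).add D.col_vE
  have h' := h g hg
  simp only [Int.cast_mul, Int.cast_ofNat, ← mul_assoc, mul_comm (_ : ℂ) (2 : ℂ)] at h'
  simp only [mul_assoc, ← Finset.mul_sum] at h'
  exact (mul_eq_zero.1 h').resolve_left two_ne_zero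

theorem col_vH2 : Col D.vH2 := fun g hg => by
  have h : Col fun χ => 2 * D.vH2 χ := by
    rw [show (fun χ => 2 * D.vH2 χ) = fun χ => D.vZ 1 χ + D.vP 1 χ - D.vE χ from
      funext (D.two_vH2 hyp)]
    exact ((D.col_vZ 1).add (D.col_vP 1)).sub D.col_vE
  have h' := h g hg
  simp only [Int.cast_mul, Int.cast_ofNat, ← mul_assoc, mul_comm (_ : ℂ) (2 : ℂ)] at h'
  simp only [mul_assoc, ← Finset.mul_sum] at h'
  exact (mul_eq_zero.1 h').resolve_left two_ne_zero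

theorem two_dot_vH1 (u : Cfsg.IrrCharacter G → ℤ) :
    2 * dotp D.vH1 u = dotp (D.vZ 1) u + dotp (D.vP 1) u + dotp D.vE u := by
  rw [← dotp_smul, show (fun χ => 2 * D.vH1 χ) = fun χ => D.vZ 1 χ + D.vP 1 χ + D.vE χ from
      funext (D.two_vH1 hyp), dotp_add, dotp_add]

theorem two_dot_vH2 (u : Cfsg.IrrCharacter G → ℤ) :
    2 * dotp D.vH2 u = dotp (D.vZ 1) u + dotp (D.vP 1) u - dotp D.vE u := by
  rw [← dotp_smul, show (fun χ => 2 * D.vH2 χ) = fun χ => D.vZ 1 χ + D.vP 1 χ - D.vE χ from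
      funext (D.two_vH2 hyp), dotp_sub, dotp_add]

theorem tw_base :
    tw E (D.vZ 1) = -(sg F : ℚ) * ((Fintype.card F : ℚ) + (sg F : ℚ)) * Kq E ∧
      tw E D.vH1 = ((Fintype.card F : ℚ) / (rOf F : ℚ) - 1) * Kq E ∧
      tw E D.vH2 = ((Fintype.card F : ℚ) / (rOf F : ℚ) - 1) * Kq E := by
  classical
  obtain ⟨hu, hq, hs⟩ := uQ_eq hyp
  have h1 := tw_vZ hyp D 1
  have h2 := tw_vP hyp D 1
  have h3 := tw_vE hyp D
  rw [if_pos rfl] at h1 h2
  have a1 := tw_smul E 2 D.vH1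
  have a2 := tw_smul E 2 D.vH2
  rw [show (fun χ => 2 * D.vH1 χ) = fun χ => D.vZ 1 χ + D.vP 1 χ + D.vE χ from
      funext (D.two_vH1 hyp), tw_add, tw_add, h1, h2, h3] at a1
  rw [show (fun χ => 2 * D.vH2 χ) = fun χ => D.vZ 1 χ + D.vP 1 χ - D.vE χ from
      funext (D.two_vH2 hyp), tw_sub, tw_add, h1, h2, h3] at a2
  push_cast at a1 a2
  refine ⟨?_, ?_, ?_⟩
  · rw [h1, hu, hq]; ring
  · rw [hu] at a1; linear_combination (-(1 / 2 : ℚ)) * a1 - (Kq E) * hs
  · rw [hu] at a2; linear_combination (-(1 / 2 : ℚ)) * a2 - (Kq E) * hs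

/-! ### Rotation of the characters of `C_r` -/

/-- The twist of a character by the cycling element. -/
noncomputable def rot (μ : D.c.Cr →* ℂˣ) : D.c.Cr →* ℂˣ := μ.comp (Cyc.aut hyp D.c)

theorem rot_cube (μ : D.c.Cr →* ℂˣ) : D.rot hyp (D.rot hyp (D.rot hyp μ)) = μ :=
  MonoidHom.ext fun a => congrArg μ (Cyc.aut_cube hyp D.c a)

theorem rot_inv (μ : D.c.Cr →* ℂˣ) : D.rot hyp μ⁻¹ = (D.rot hyp μ)⁻¹ := rfl

theorem rot_one : D.rot hyp (1 : D.c.Cr →* ℂˣ) = 1 := rfl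

theorem rot_ne_one {μ : D.c.Cr →* ℂˣ} (hμ : μ ≠ 1) : D.rot hyp μ ≠ 1 := fun e => hμ (by
  rw [← D.rot_cube hyp μ, e, D.rot_one hyp, D.rot_one hyp])

theorem rot_ne {μ : D.c.Cr →* ℂˣ} (hμ : μ ≠ 1) : D.rot hyp μ ≠ μ := by
  intro h
  haveI : IsCyclic D.c.Cr := D.c.isCyclic_Cr
  letI : CommGroup D.c.Cr := IsCyclic.commGroup
  let φ : D.c.Cr →* D.c.Cr := Cyc.aut hyp D.c / MonoidHom.id _
  have hinj : Function.Injective φ := by
    rw [injective_iff_map_eq_one]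
    intro a ha
    exact Cyc.aut_fixed hyp D.c (div_eq_one.1 ha)
  refine hμ (MonoidHom.ext fun x => ?_)
  obtain ⟨a, rfl⟩ := (Finite.injective_iff_surjective.1 hinj) x
  show μ (Cyc.aut hyp D.c a / a) = 1
  rw [map_div, div_eq_one]
  exact DFunLike.congr_fun h a

theorem rot_ne_inv {μ : D.c.Cr →* ℂˣ} (hμ : μ ≠ 1) : D.rot hyp μ ≠ μ⁻¹ := by
  intro h
  refine D.rot_ne hyp hμ ?_
  have h2 : D.rot hyp (D.rot hyp μ) = μ := by
    rw [h, D.rot_inv hyp, h]; exact MonoidHom.ext fun x => by simp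
  calc D.rot hyp μ = D.rot hyp (D.rot hyp (D.rot hyp μ)) := by rw [h2]
    _ = μ := D.rot_cube hyp μ

theorem dlt_rot {μ : D.c.Cr →* ℂˣ} (hμ : μ ≠ 1) :
    dlt μ (D.rot hyp μ) = 0 ∧ dlt μ (D.rot hyp (D.rot hyp μ)) = 0 := by
  have h1 : ∀ {ν : D.c.Cr →* ℂˣ}, ν ≠ 1 → dlt ν (D.rot hyp ν) = 0 := by
    intro ν hν
    unfold dlt
    rw [if_neg (Ne.symm (D.rot_ne hyp hν)), if_neg, add_zero]
    intro e
    exact D.rot_ne_inv hyp hν (MonoidHom.ext fun x => by
      rw [MonoidHom.inv_apply, DFunLike.congr_fun e x, MonoidHom.inv_apply, inv_inv])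
  refine ⟨h1 hμ, ?_⟩
  have h2 := h1 (D.rot_ne_one hyp (D.rot_ne_one hyp hμ))
  rw [D.rot_cube hyp] at h2
  rw [dlt_comm]
  exact h2

theorem parity_rot (μ : D.c.Cr →* ℂˣ) (χ : Cfsg.IrrCharacter G) :
    (2 : ℤ) ∣ D.vP μ χ - D.vP (D.rot hyp μ) χ := by
  obtain ⟨n, hn⟩ := avg_int_parity (Characters.isCharacter_of_isIrr χ.2) (E.ι.comp D.c.Cr.subtype) μ
  obtain ⟨z, hz, hz2⟩ := hn E.t E.sq fun h => E.comm _
  obtain ⟨z', hz', hz'2⟩ := hn D.c.t₁ D.c.t₁_sq fun h => (D.c.Cr_comm_t₁ h.2).symm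
  have e1 : Pz E D.c.Cr μ χ = z := by
    have := cast_Pz E D.c.Cr μ χ
    rw [P, hz] at this
    exact_mod_cast this
  have hb : Function.Bijective (Cyc.aut hyp D.c) :=
    Finite.injective_iff_bijective.1 (Cyc.aut_injective hyp D.c)
  have e2 : Pz E D.c.Cr (D.rot hyp μ) χ = z' := by
    have := cast_Pz E D.c.Cr (D.rot hyp μ) χ
    have hav : avg (χ : G → ℂ) (E.ι.comp D.c.Cr.subtype) μ D.c.t₁ =
        P E D.c.Cr (D.rot hyp μ) χ := by
      rw [P, avg, avg]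
      congr 1
      refine (Fintype.sum_bijective (Cyc.aut hyp D.c) hb _ _ fun x => ?_).symm
      have hcl : (χ : G → ℂ) (D.c.t₁ * E.ι ((Cyc.aut hyp D.c x : D.c.Cr) : PST)) =
          (χ : G → ℂ) (E.t * E.ι (x : PST)) := by
        rw [Cyc.aut_spec hyp D.c x, ← D.c.hv,
          show D.c.v * E.t * D.c.v⁻¹ * (D.c.v * E.ι (x : PST) * D.c.v⁻¹) =
            D.c.v * (E.t * E.ι (x : PST)) * D.c.v⁻¹ by group]
        exact Characters.classFunction_isConj (Characters.isClassFunction_of_isCharacter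
          (Characters.isCharacter_of_isIrr χ.2)) (isConj_iff.2 ⟨D.c.v, rfl⟩).symm
      simp only [MonoidHom.comp_apply, Subgroup.coe_subtype, hcl]
      rfl
    rw [← hav, hz'] at this
    exact_mod_cast this
  simp only [vP, e1, e2]
  obtain ⟨a, ha⟩ := hz2
  obtain ⟨b, hb'⟩ := hz'2
  exact ⟨sg F * (a - b), by linear_combination (sg F) * (ha - hb')⟩

end Dat

end CfsgLib.JankoThompson
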